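import Cfsg.Agent.R2.Spec.P1.Orth_m3
import Cfsg.Agent.H376.SpEmb
import Cfsg.Agent.R2.Spec.X4.H10.Num_m3
import Cfsg.Agent.H425.MovNamed
import Cfsg.Agent.FastGrp
import Cfsg.Agent.Prune
set_option linter.all false

section
prune_inst 0x7f00000000000000000000000000000000000000000000000000000000000000000000000000000000000000000000000000000000000000000000000000000000000000000000000000000000000000003fffffffffffffffffffffffffffbeffbdffffffff

-- part: R2/Spec/P1/Main
section
set_option linter.all false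

/-!
# Team T3 (S3435), box P1: the adjacency facts for the six classical families (helper15)
-/

set_option autoImplicit false

namespace Cfsg.Agent.R2.Spec.P1

open Cfsg Cfsg.Agent.H426.LieFam Cfsg.Agent.R2.Spec

universe u

/-- the six classical families -/
def Classical : Fam → Prop
  | .psl _ => True
  | .psu _ => True
  | .psp _ => True
  | .oodd _ => True
  | .oplus _ => True
  | .ominus _ => True
  | _ => False

/-- **the adjacency facts** -/
theorem adjFacts {t : Fam} (ht : Classical t) {p f : ℕ} {X : Type u} [Group X] [Finite X] (hp : p.Prime)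
    (h : Fam.Is p f X t) : AdjFacts t p f X := by
  cases t with
  | psl n => exact psl hp h
  | psp n => exact psp hp h
  | psu n => exact psu hp h
  | oodd n => exact oodd hp h
  | oplus n => exact oplus hp h
  | ominus n => exact ominus hp h
  | g2 => exact ht.elim
  | f4 => exact ht.elim
  | e6 => exact ht.elim
  | e7 => exact ht.elim
  | e8 => exact ht.elim
  | td4 => exact ht.elim
  | te6 => exact ht.elim
  | sz => exact ht.elim
  | tf4 => exact ht.elim
  | ree => exact ht.elim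

end Cfsg.Agent.R2.Spec.P1
end

-- part: R2/Spec/P1/Exp
section
set_option linter.all false
open scoped Cfsg.Agent.FastGrp

/-!
# Team T3 (S3435), box P1: tori and exponents (helper15)

* `tnum t q i` : the order of the torus of class `i`;
* `TorFacts` : `tor` elements of order `N` for odd `N ∣ tnum t q i` all of whose prime divisors are regular; `big` for
  primes `r` of big classes (`rk < 2 wt`) the orders `r ^ a` divide `tnum t q i`.
-/

set_option autoImplicit false

namespace Cfsg.Agent.R2.Spec.P1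

open Cfsg Cfsg.Agent.H426.LieFam Cfsg.Agent.R2.Spec Cfsg.Agent.H403 Cfsg.Agent.H403.NumTop Cfsg.Agent.H414.LieShape
open Cfsg.Agent.H377 (Elt Elt.two exists_odd_of_elt)
open Cfsg.Agent.H72.AdjOrth (tn)

universe u

/-- the number of the torus of class `i` -/
def tnum : Fam → ℕ → ℕ → ℕ
  | .psl _, q, i => q ^ i - 1
  | .psu _, q, i => if Even i then q ^ i - 1 else q ^ i + 1
  | _, q, i => if Even i then q ^ (i / 2) + 1 else q ^ i - 1

/-- tori and exponents -/
structure TorFacts (t : Fam) (p f : ℕ) (X : Type u) [Group X] : Prop where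
  tor : ∀ i N : ℕ, 3 ≤ i → mem t i → Odd N → (∀ r : ℕ, r.Prime → r ∣ N → 3 ≤ cls t (p ^ f) r) →
    N ∣ tnum t (p ^ f) i → ∃ x : X, orderOf x = N
  big : ∀ r a : ℕ, r.Prime → r ≠ 2 → ¬ r ∣ p → 3 ≤ cls t (p ^ f) r → mem t (cls t (p ^ f) r) →
    rk t < 2 * wt t (cls t (p ^ f) r) → (∃ x : X, orderOf x = r ^ a) → r ^ a ∣ tnum t (p ^ f) (cls t (p ^ f) r)

theorem tnum_psl (n q i : ℕ) : tnum (.psl n) q i = AA true i q := by
  simp [tnum, AA]

theorem tnum_psu (n q i : ℕ) : tnum (.psu n) q i = AA false i q := by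
  simp [tnum, AA, Nat.even_iff]

section arith

theorem pow_dvd_range {r a : ℕ} (hr : r.Prime) {g : ℕ → ℕ} {j0 : ℕ} : ∀ {k : ℕ},
    r ^ a ∣ ((List.range k).map g).prod → (∀ j < k, r ∣ g j → j = j0) → r ^ a ∣ g j0 := by
  intro k
  induction k with
  | zero =>
    intro h _
    simp only [List.range_zero, List.map_nil, List.prod_nil] at h
    rw [Nat.dvd_one.1 h]
    exact one_dvd _
  | succ k ih =>
    intro h hu
    rw [List.range_succ, List.map_append, List.prod_append, List.map_singleton, List.prod_singleton] at h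
    by_cases hk : r ∣ g k
    · have h1 := hu k (by omega) hk
      have h2 : Nat.Coprime (r ^ a) ((List.range k).map g).prod := by
        apply Nat.Coprime.pow_left
        rw [Nat.coprime_list_prod_right_iff]
        intro x hx
        obtain ⟨j, hj, rfl⟩ := List.mem_map.1 hx
        rw [List.mem_range] at hj
        rw [Nat.Prime.coprime_iff_not_dvd hr]
        intro h3
        have := hu j (by omega) h3
        omega
      rw [← h1]
      exact h2.dvd_of_dvd_mul_left h
    · exact ih ((Nat.Coprime.pow_left a ((Nat.Prime.coprime_iff_not_dvd hr).2 hk)).dvd_of_dvd_mul_right h)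
        fun j hj => hu j (by omega)

theorem Sh_pow_dvd {p c f d N r a : ℕ} {l : List Fac} (h : Sh p c f d N l) (hr : r.Prime) (hrp : ¬ r ∣ p)
    (hd : r ^ a ∣ c) : r ^ a ∣ (l.map (Fac.val (p ^ f))).prod := by
  have h1 : r ^ a ∣ (p ^ f) ^ N * (l.map (Fac.val (p ^ f))).prod := by
    rw [← h.eq]
    exact Dvd.dvd.mul_left hd d
  refine Nat.Coprime.dvd_of_dvd_mul_left ?_ h1
  apply Nat.Coprime.pow_left
  apply Nat.Coprime.pow_right
  apply Nat.Coprime.pow_right
  exact (Nat.Prime.coprime_iff_not_dvd hr).2 hrp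

theorem uniq_mult {i n k k' : ℕ} (hb : n < 2 * i) (hk : 0 < k) (hk' : 0 < k') (hkn : k ≤ n) (hkn' : k' ≤ n)
    (h : i ∣ k) (h' : i ∣ k') : k = k' := by
  have aux : ∀ m, 0 < m → m ≤ n → i ∣ m → m = i := by
    rintro m hm hmn ⟨c, rfl⟩
    rcases c with _ | _ | c
    · omega
    · omega
    · exfalso
      have : i * 2 ≤ i * (c + 1 + 1) := Nat.mul_le_mul_left i (by omega)
      omega
  rw [aux k hk hkn h, aux k' hk' hkn' h']

end arith

section lin

variable {e : Bool} {n q : ℕ} {F : Type*} [Field F] [Fintype F] {X : Type*} [Group X]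

theorem lin_tor (h : IsL X e n q F) (hF : Fintype.card F = q ^ (cond e 0 1 + 1)) (hn : 3 ≤ n) {i N : ℕ} (hi : 3 ≤ i)
    (hin : i ≤ n) (ho : Odd N) (hN : ∀ r : ℕ, r.Prime → r ∣ N → 3 ≤ cl e q r) (hd : N ∣ AA e i q) :
    ∃ x : X, orderOf x = N := by
  have hq2 : 2 ≤ q := two_le_of_card hF
  refine h.exists_tor_le hF hn (i := i) (by omega) hin ho.pos ?_ hd
  refine Nat.Coprime.symm (Nat.coprime_of_dvd ?_)
  intro r hr h1 h2
  have h3 := hN r hr h2
  exact (Nat.Prime.coprime_iff_not_dvd hr).1 (coprime_one (by omega) hr (by omega)) h1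

end lin

/-- **`PSL_n(q)`** -/
theorem tor_psl {p f n : ℕ} {X : Type u} [Group X] [Finite X] (hp : p.Prime) (h : Fam.Is p f X (.psl n)) :
    TorFacts (.psl n) p f X := by
  obtain ⟨hn, -, F, _, _, hch, hF, ⟨E⟩⟩ := h
  have hq1 : 1 < p ^ f := by rw [← hF]; exact Fintype.one_lt_card
  have hf : 1 ≤ f := by
    rcases Nat.eq_zero_or_pos f with h0 | h0
    · rw [h0, pow_zero] at hq1; omega
    · exact h0
  have hcl : ∀ r, cls (.psl n) (p ^ f) r = cl true (p ^ f) r := fun r => rfl
  refine ⟨?_, ?_⟩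
  · intro i N hi hm ho hN hd
    change i ≤ n at hm
    have hI : IsL X true n (p ^ f) F := ⟨E⟩
    rw [tnum_psl] at hd
    exact lin_tor hI (by simpa using hF) (by omega) hi hm ho hN hd
  · rintro r a hr hr2 hrp h3 hm hb ⟨x, hx⟩
    rw [hcl] at h3 hm hb ⊢
    change _ ≤ n at hm
    change n < 2 * cl true (p ^ f) r at hb
    rw [tnum_psl]
    obtain ⟨d, N, hSh⟩ := sh_psl (F := F) hf hF hn hp
    have h1 : r ^ a ∣ Nat.card (Matrix.ProjectiveSpecialLinearGroup (Fin n) F) := by
      rw [← Nat.card_congr E.toEquiv, ← hx]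
      exact orderOf_dvd_natCard x
    have h2 := Sh_pow_dvd hSh hr hrp h1
    rw [Fam.facs, List.map_map] at h2
    have h5 := pow_dvd_range hr (j0 := cl true (p ^ f) r - 2) h2 (by
      intro j hj hd
      have h6 : Fac.val (p ^ f) (Fac.sub (j + 2)) = AA true (j + 2) (p ^ f) := by simp [Fac.val, AA]
      rw [Function.comp_apply, h6, dvd_AA_iff hq1.le, ← orderOf_dvd_iff_pow_eq_one] at hd
      have := uniq_mult hb (by omega : 0 < j + 2) (by omega) (by omega) hm hd (dvd_refl (cl true (p ^ f) r))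
      omega)
    rw [Function.comp_apply, show cl true (p ^ f) r - 2 + 2 = cl true (p ^ f) r by omega] at h5
    simpa [Fac.val, AA] using h5

/-- **`PSU_n(q)`** -/
theorem tor_psu {p f n : ℕ} {X : Type u} [Group X] [Finite X] (hp : p.Prime) (h : Fam.Is p f X (.psu n)) :
    TorFacts (.psu n) p f X := by
  obtain ⟨hn, -, F, _, _, hch, hF, ⟨E⟩⟩ := h
  have hq1 : 1 < p ^ f := by
    have h1 := Fintype.one_lt_card (α := F)
    rw [hF] at h1
    by_contra hcon
    have : p ^ f ≤ 1 := by omega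
    have := Nat.pow_le_pow_left this 2
    omega
  have hf : 1 ≤ f := by
    rcases Nat.eq_zero_or_pos f with h0 | h0
    · rw [h0, pow_zero] at hq1; omega
    · exact h0
  have hcl : ∀ r, cls (.psu n) (p ^ f) r = cl false (p ^ f) r := fun r => rfl
  refine ⟨?_, ?_⟩
  · intro i N hi hm ho hN hd
    change i ≤ n at hm
    have hI : IsL X false n (p ^ f) F := ⟨E⟩
    rw [tnum_psu] at hd
    exact lin_tor hI (by simpa using hF) (by omega) hi hm ho hN hd
  · rintro r a hr hr2 hrp h3 hm hb ⟨x, hx⟩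
    rw [hcl] at h3 hm hb ⊢
    change _ ≤ n at hm
    change n < 2 * cl false (p ^ f) r at hb
    rw [tnum_psu]
    obtain ⟨d, N, hSh⟩ := sh_psu (F := F) hf hF hn hp
    have h1 : r ^ a ∣ Nat.card (PSU n F (p ^ f)) := by
      rw [← Nat.card_congr E.toEquiv, ← hx]
      exact orderOf_dvd_natCard x
    have h2 := Sh_pow_dvd hSh hr hrp h1
    rw [Fam.facs, List.map_map] at h2
    have key : ∀ j : ℕ, Fac.val (p ^ f) (if Even (j + 1) then Fac.add (j + 2) else Fac.sub (j + 2)) =
        AA false (j + 2) (p ^ f) := by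
      intro j
      rcases Nat.even_or_odd (j + 1) with h6 | h6
      · rw [if_pos h6]
        rw [Nat.even_iff] at h6
        have : (j + 2) % 2 = 1 := by omega
        simp [Fac.val, AA, this]
      · rw [if_neg (Nat.not_even_iff_odd.2 h6)]
        rw [Nat.odd_iff] at h6
        have : (j + 2) % 2 = 0 := by omega
        simp [Fac.val, AA, this]
    have h5 := pow_dvd_range hr (j0 := cl false (p ^ f) r - 2) h2 (by
      intro j hj hd
      rw [Function.comp_apply, key, dvd_AA_iff hq1.le, ← orderOf_dvd_iff_pow_eq_one] at hd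
      have := uniq_mult hb (by omega : 0 < j + 2) (by omega) (by omega) hm hd (dvd_refl (cl false (p ^ f) r))
      omega)
    rwa [Function.comp_apply, key, show cl false (p ^ f) r - 2 + 2 = cl false (p ^ f) r by omega] at h5

/-! ### symplectic and orthogonal groups -/

theorem tnum_tn {t : Fam} (h1 : ∀ n, t ≠ .psl n) (h2 : ∀ n, t ≠ .psu n) (q i : ℕ) : tnum t q i = tn q i := by
  unfold tnum tn
  split
  · exact absurd rfl (h1 _)
  · exact absurd rfl (h2 _)
  · rfl

section

variable {q r : ℕ}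

theorem dvd_tn_of_pow (hr : r.Prime) (hr2 : r ≠ 2) (h3 : 3 ≤ co q r) (hq : 1 ≤ q) {a : ℕ}
    (h : r ^ a ∣ q ^ (2 * eta (co q r)) - 1) : r ^ a ∣ tn q (co q r) := by
  have e1 : q ^ (2 * eta (co q r)) - 1 = (q ^ eta (co q r) + 1) * (q ^ eta (co q r) - 1) := by
    rw [two_mul, pow_add]
    have := Nat.mul_self_sub_mul_self_eq (q ^ eta (co q r)) 1
    rw [one_mul] at this
    exact this
  rw [e1] at h
  have hpe := pow_eta_eq hr h3
  have := Fact.mk hr
  have h2 : ((2 : ℕ) : ZMod r) ≠ 0 := by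
    intro h0
    exact hr2 ((Nat.prime_dvd_prime_iff_eq hr Nat.prime_two).1 ((ZMod.natCast_eq_zero_iff _ _).1 h0))
  unfold tn
  rcases eta_cases (co q r) with ⟨ho, h5⟩ | ⟨he, h5⟩
  · rw [if_neg (Nat.not_even_iff_odd.2 ho)]
    have h6 : Nat.Coprime (r ^ a) (q ^ eta (co q r) + 1) := by
      apply Nat.Coprime.pow_left
      rw [Nat.Prime.coprime_iff_not_dvd hr, ← ZMod.natCast_eq_zero_iff]
      push_cast
      rw [hpe, sgn, if_neg (Nat.not_even_iff_odd.2 ho)]
      intro h7
      apply h2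
      push_cast at h7 ⊢
      linear_combination h7
    have h7 := h6.dvd_of_dvd_mul_left h
    rwa [h5] at h7
  · rw [if_pos he]
    have h6 : Nat.Coprime (r ^ a) (q ^ eta (co q r) - 1) := by
      apply Nat.Coprime.pow_left
      rw [Nat.Prime.coprime_iff_not_dvd hr, ← ZMod.natCast_eq_zero_iff, Nat.cast_sub (Nat.one_le_pow _ _ hq)]
      push_cast
      rw [hpe, sgn, if_pos he]
      intro h7
      apply h2
      push_cast at h7 ⊢
      linear_combination -h7
    have h7 := h6.dvd_of_dvd_mul_right h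
    rwa [show eta (co q r) = co q r / 2 by omega] at h7

/-- the factors `q ^ (2 j) - 1` -/
theorem eta_dvd (hq : 1 ≤ q) {k : ℕ} (h : r ∣ q ^ (2 * k) - 1) : eta (co q r) ∣ k := by
  have h1 : co q r ∣ 2 * k := by
    rw [co, ← Cfsg.Agent.Lib.Zsigmondy.dvd_pow_sub_one_iff hq]
    exact h
  rcases eta_cases (co q r) with ⟨ho, h5⟩ | ⟨he, h5⟩
  · rw [h5]
    exact (Nat.coprime_two_right.2 ho).dvd_of_dvd_mul_left h1
  · rw [← h5] at h1
    exact Nat.dvd_of_mul_dvd_mul_left (by norm_num) h1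

theorem big_range (hr : r.Prime) (hr2 : r ≠ 2) (h3 : 3 ≤ co q r) (hq : 1 ≤ q) {a m : ℕ}
    (hm : eta (co q r) ≤ m) (hb : m < 2 * eta (co q r))
    (h : r ^ a ∣ ((List.range m).map fun j => q ^ (2 * (j + 1)) - 1).prod) : r ^ a ∣ tn q (co q r) := by
  have hη := one_le_eta (k := co q r) (by omega)
  have h5 := pow_dvd_range hr (j0 := eta (co q r) - 1) h (by
    intro j hj hd
    have h6 := eta_dvd hq hd
    have := uniq_mult hb (by omega : 0 < j + 1) (by omega) (by omega) hm h6 (dvd_refl (eta (co q r)))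
    omega)
  rw [show eta (co q r) - 1 + 1 = eta (co q r) by omega] at h5
  exact dvd_tn_of_pow hr hr2 h3 hq h5

end

theorem tn_dvd_sp {F : Type} [Field F] [Fintype F] {m i N : ℕ} (hi : 3 ≤ i) (him : eta i ≤ m) (ho : Odd N)
    (hd : N ∣ tn (Fintype.card F) i) : ∃ x : PSp m F, orderOf x = N := by
  have hη := one_le_eta (k := i) (by omega)
  have hq1 : 1 < Fintype.card F := Fintype.one_lt_card
  have h1 : ∃ A : Matrix.symplecticGroup (Fin (eta i)) F, orderOf A = N := by
    unfold tn at hd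
    rcases eta_cases i with ⟨h, h5⟩ | ⟨h, h5⟩
    · rw [if_neg (Nat.not_even_iff_odd.2 h)] at hd
      have h6 := Cfsg.Agent.H376.SpEmb.exists_minus F (eta i) (by omega)
      rw [Nat.card_eq_fintype_card] at h6
      have h7 := Nat.one_lt_pow (by omega : eta i ≠ 0) hq1
      exact Cfsg.Agent.H376.SpEmb.exists_of_dvd (by omega) (by rwa [h5]) h6
    · rw [if_pos h] at hd
      have h6 := Cfsg.Agent.H376.SpEmb.exists_plus F (eta i) (by omega)
      rw [Nat.card_eq_fintype_card] at h6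
      exact Cfsg.Agent.H376.SpEmb.exists_of_dvd (by omega) (by rwa [show eta i = i / 2 by omega]) h6
  obtain ⟨A, hA⟩ := h1
  obtain ⟨C, hC⟩ := Cfsg.Agent.H376.SpEmb.exists_block (n := m) (a := eta i) (b := 0) (by omega) A hA 1 orderOf_one
  rw [Nat.lcm_one_right] at hC
  exact ⟨QuotientGroup.mk C, Cfsg.Agent.H376.PrimeOrd.orderOf_mk _ (fun x hx => Cfsg.Agent.H376.SpEmb.center_pow x hx)
    (Nat.coprime_two_left.2 ho) C hC⟩

/-- **`PSp_2m(q)`** -/
theorem tor_psp {p f m : ℕ} {X : Type u} [Group X] [Finite X] (hp : p.Prime) (h : Fam.Is p f X (.psp m)) :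
    TorFacts (.psp m) p f X := by
  obtain ⟨hm, hsm, F, _, _, hch, hF, ⟨E⟩⟩ := h
  have hq1 : 1 < p ^ f := by rw [← hF]; exact Fintype.one_lt_card
  have hf : 1 ≤ f := by
    rcases Nat.eq_zero_or_pos f with h0 | h0
    · rw [h0, pow_zero] at hq1; omega
    · exact h0
  have hcl : ∀ r, cls (.psp m) (p ^ f) r = co (p ^ f) r := cls_eq_co (by intro n; exact fun h => by cases h) _
  have htn : ∀ i, tnum (.psp m) (p ^ f) i = tn (p ^ f) i := fun i => rfl
  refine ⟨?_, ?_⟩
  · intro i N hi him ho hN hd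
    change eta i ≤ m at him
    rw [htn, ← hF] at hd
    obtain ⟨y, hy⟩ := tn_dvd_sp (F := F) hi him ho hd
    exact ⟨E.symm y, by rw [MulEquiv.orderOf_eq, hy]⟩
  · rintro r a hr hr2 hrp h3 him hb ⟨x, hx⟩
    rw [hcl] at h3 him hb ⊢
    change eta _ ≤ m at him
    change m < 2 * eta _ at hb
    rw [htn]
    obtain ⟨d, N, hSh⟩ := sh_psp (F := F) hf hF hm hp
    have h1 : r ^ a ∣ Nat.card (PSp m F) := by
      rw [← Nat.card_congr E.toEquiv, ← hx]
      exact orderOf_dvd_natCard x
    have h2 := Sh_pow_dvd hSh hr hrp h1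
    rw [Fam.facs, List.map_map] at h2
    exact big_range hr hr2 h3 hq1.le him hb h2

/-- **`PΩ_2m+1(q)`** -/
theorem tor_oodd {p f m : ℕ} {X : Type u} [Group X] [Finite X] (hp : p.Prime) (h : Fam.Is p f X (.oodd m)) :
    TorFacts (.oodd m) p f X := by
  obtain ⟨hm, hodd, F, _, _, hch, hF, ⟨E⟩⟩ := h
  have hodd' : Odd (Fintype.card F) := by rw [hF]; exact hodd
  have hq1 : 1 < p ^ f := by rw [← hF]; exact Fintype.one_lt_card
  have hf : 1 ≤ f := by
    rcases Nat.eq_zero_or_pos f with h0 | h0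
    · rw [h0, pow_zero] at hq1; omega
    · exact h0
  have hcl : ∀ r, cls (.oodd m) (p ^ f) r = co (p ^ f) r := cls_eq_co (by intro n; exact fun h => by cases h) _
  have htn : ∀ i, tnum (.oodd m) (p ^ f) i = tn (p ^ f) i := fun i => rfl
  refine ⟨?_, ?_⟩
  · intro i N hi him ho hN hd
    change eta i ≤ m at him
    rw [htn, ← hF, ← Nat.card_eq_fintype_card] at hd
    have h1 := Cfsg.Agent.H72.AdjOrth.elt_tn (F := F) (k := i) (by omega) hd
    rw [← eta_eq] at h1
    obtain ⟨δ, h4⟩ : ∃ δ : ℤ, Cfsg.Agent.H377.Elt F m δ N := by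
      rcases Nat.eq_or_lt_of_le him with h2 | h2
      · rw [h2] at h1
        exact ⟨_, h1⟩
      · exact ⟨1, Cfsg.Agent.H72.AdjOrth.elt_extend h1 (Cfsg.Agent.H72.AdjOrth.sg_pm _) (Or.inl rfl) h2⟩
    obtain ⟨y, hy⟩ := exists_odd_of_elt (Cfsg.Agent.H390.two_ne_zero_of_odd hodd') hm h4 (N := N) fun j =>
      ⟨fun h5 => (Nat.coprime_two_right.2 ho).dvd_of_dvd_mul_left h5, fun h5 => Dvd.dvd.mul_left h5 2⟩
    exact ⟨E.symm y, by rw [MulEquiv.orderOf_eq, hy]⟩
  · rintro r a hr hr2 hrp h3 him hb ⟨x, hx⟩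
    rw [hcl] at h3 him hb ⊢
    change eta _ ≤ m at him
    change m < 2 * eta _ at hb
    rw [htn]
    obtain ⟨d, N, hSh⟩ := sh_oodd (F := F) hf hF hm hodd' hp
    have h1 : r ^ a ∣ Nat.card (POmega F (quadFormOdd m F)) := by
      rw [← Nat.card_congr E.toEquiv, ← hx]
      exact orderOf_dvd_natCard x
    have h2 := Sh_pow_dvd hSh hr hrp h1
    rw [Fam.facs, List.map_map] at h2
    exact big_range hr hr2 h3 hq1.le him hb h2

section orth

open Cfsg.Agent.H390

variable {F : Type} [Field F] [Fintype F] {X : Type u} [Group X] {m : ℕ} {δ : ℤ}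

theorem OD.tor (h : OD F X m δ) {i N : ℕ} (hi : 3 ≤ i) (him : eta i < m ∨ (eta i = m ∧ sgn i = δ)) (ho : Odd N)
    (hd : N ∣ tn (Nat.card F) i) : ∃ x : X, orderOf x = N := by
  have h1 := Cfsg.Agent.H72.AdjOrth.elt_tn (F := F) (k := i) (by omega) hd
  rw [← eta_eq] at h1
  refine h.ex N (Elt.two (by have := h.hm; omega) ho ?_)
  rcases him with h2 | ⟨h2, h4⟩
  · exact Cfsg.Agent.H72.AdjOrth.elt_extend h1 (Cfsg.Agent.H72.AdjOrth.sg_pm _) h.hδ h2
  · rw [← h2, ← h4]
    exact h1

end orth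

section bigorth

variable {q r : ℕ}

/-- the two factors of the orders of the even-dimensional orthogonal groups -/
theorem big_orth (hr : r.Prime) (hr2 : r ≠ 2) (h3 : 3 ≤ co q r) (hq : 1 ≤ q) {a m : ℕ} {δ : ℤ}
    (hδ : δ = 1 ∨ δ = -1) {M : ℕ} (hM : (M : ZMod r) = (q : ZMod r) ^ m - δ)
    (hMt : sgn (co q r) = δ → eta (co q r) = m → M = tn q (co q r))
    (hm : eta (co q r) < m ∨ (eta (co q r) = m ∧ sgn (co q r) = δ)) (hb : m < 2 * eta (co q r))
    (h : r ^ a ∣ M * ((List.range (m - 1)).map fun j => q ^ (2 * (j + 1)) - 1).prod) : r ^ a ∣ tn q (co q r) := by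
  have hη := one_le_eta (k := co q r) (by omega)
  have := Fact.mk hr
  rcases hm with hm | ⟨hm, hs⟩
  · have h6 : Nat.Coprime (r ^ a) M := by
      apply Nat.Coprime.pow_left
      rw [Nat.Prime.coprime_iff_not_dvd hr, ← ZMod.natCast_eq_zero_iff, hM]
      intro h7
      have h8 : ((q : ZMod r) ^ m) ^ 2 = 1 := by
        have h9 : (q : ZMod r) ^ m = (δ : ℤ) := by linear_combination h7
        rw [h9]
        rcases hδ with h | h <;> rw [h] <;> norm_num
      rw [← pow_mul, mul_comm] at h8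
      have h9 : eta (co q r) ∣ m := by
        apply eta_dvd hq
        rw [← ZMod.natCast_eq_zero_iff, Nat.cast_sub (Nat.one_le_pow _ _ hq)]
        push_cast
        rw [h8, sub_self]
      have := uniq_mult hb (by omega : 0 < m) (by omega) le_rfl hm.le h9 (dvd_refl (eta (co q r)))
      omega
    exact big_range hr hr2 h3 hq (m := m - 1) (by omega) (by omega) (h6.dvd_of_dvd_mul_left h)
  · rw [← hMt hs hm]
    refine Nat.Coprime.dvd_of_dvd_mul_right ?_ h
    apply Nat.Coprime.pow_left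
    rw [Nat.coprime_list_prod_right_iff]
    intro x hx
    obtain ⟨j, hj, rfl⟩ := List.mem_map.1 hx
    rw [List.mem_range] at hj
    rw [Nat.Prime.coprime_iff_not_dvd hr]
    intro h4
    have h6 := eta_dvd hq h4
    have := Nat.le_of_dvd (by omega) h6
    omega

end bigorth

theorem not_even_of_sgn {i : ℕ} (h : sgn i = 1) : ¬ Even i := by
  intro he
  rw [sgn, if_pos he] at h
  norm_num at h

theorem even_of_sgn {i : ℕ} (h : sgn i = -1) : Even i := by
  by_contra he
  rw [sgn, if_neg he] at h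
  norm_num at h

/-- **`PΩ^+_2m(q)`** -/
theorem tor_oplus {p f m : ℕ} {X : Type u} [Group X] [Finite X] (hp : p.Prime) (h : Fam.Is p f X (.oplus m)) :
    TorFacts (.oplus m) p f X := by
  obtain ⟨hm, F, _, _, hch, hF, ⟨E⟩⟩ := h
  have hod := od_plus hm E
  have hq1 : 1 < p ^ f := by rw [← hF]; exact Fintype.one_lt_card
  have hf : 1 ≤ f := by
    rcases Nat.eq_zero_or_pos f with h0 | h0
    · rw [h0, pow_zero] at hq1; omega
    · exact h0
  have hcl : ∀ r, cls (.oplus m) (p ^ f) r = co (p ^ f) r := cls_eq_co (by intro n; exact fun h => by cases h) _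
  have htn : ∀ i, tnum (.oplus m) (p ^ f) i = tn (p ^ f) i := fun i => rfl
  refine ⟨?_, ?_⟩
  · intro i N hi him ho hN hd
    rw [htn, ← hF, ← Nat.card_eq_fintype_card] at hd
    exact hod.tor hi (eta_eq_iff_plus.2 him) ho hd
  · rintro r a hr hr2 hrp h3 him hb ⟨x, hx⟩
    rw [hcl] at h3 him hb ⊢
    change m < 2 * eta _ at hb
    rw [htn]
    obtain ⟨d, N, hSh⟩ := sh_oplus (F := F) hf hF hm hp
    have h1 : r ^ a ∣ Nat.card (POmega F (quadFormPlus m F)) := by
      rw [← Nat.card_congr E.toEquiv, ← hx]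
      exact orderOf_dvd_natCard x
    have h2 := Sh_pow_dvd hSh hr hrp h1
    rw [Fam.facs, List.map_cons, List.prod_cons, List.map_map] at h2
    refine big_orth hr hr2 h3 hq1.le (δ := 1) (Or.inl rfl) ?_ ?_ (eta_eq_iff_plus.2 him) hb h2
    · change (((p ^ f) ^ m - 1 : ℕ) : ZMod r) = _
      rw [Nat.cast_sub (Nat.one_le_pow _ _ hq1.le)]
      push_cast
      ring
    · intro hs hη
      have hne := not_even_of_sgn hs
      rcases eta_cases (co (p ^ f) r) with ⟨h5, h6⟩ | ⟨h5, -⟩
      · rw [tn, if_neg hne, ← h6, hη]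
        rfl
      · exact absurd h5 hne

/-- **`PΩ^-_2m(q)`** -/
theorem tor_ominus {p f m : ℕ} {X : Type u} [Group X] [Finite X] (hp : p.Prime) (h : Fam.Is p f X (.ominus m)) :
    TorFacts (.ominus m) p f X := by
  obtain ⟨hm, F, _, _, hch, a', b', hF, hab, ⟨E⟩⟩ := h
  have hod := od_minus hm hab E
  have hq1 : 1 < p ^ f := by rw [← hF]; exact Fintype.one_lt_card
  have hf : 1 ≤ f := by
    rcases Nat.eq_zero_or_pos f with h0 | h0
    · rw [h0, pow_zero] at hq1; omega
    · exact h0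
  have hcl : ∀ r, cls (.ominus m) (p ^ f) r = co (p ^ f) r := cls_eq_co (by intro n; exact fun h => by cases h) _
  have htn : ∀ i, tnum (.ominus m) (p ^ f) i = tn (p ^ f) i := fun i => rfl
  refine ⟨?_, ?_⟩
  · intro i N hi him ho hN hd
    rw [htn, ← hF, ← Nat.card_eq_fintype_card] at hd
    exact hod.tor hi (eta_eq_iff_minus.2 him) ho hd
  · rintro r a hr hr2 hrp h3 him hb ⟨x, hx⟩
    rw [hcl] at h3 him hb ⊢
    change m < 2 * eta _ at hb
    rw [htn]
    obtain ⟨d, N, hSh⟩ := sh_ominus (F := F) hf hF hm hab hp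
    have h1 : r ^ a ∣ Nat.card (POmega F (quadFormMinus (m - 1) F a' b')) := by
      rw [← Nat.card_congr E.toEquiv, ← hx]
      exact orderOf_dvd_natCard x
    have h2 := Sh_pow_dvd hSh hr hrp h1
    rw [Fam.facs, List.map_cons, List.prod_cons, List.map_map] at h2
    refine big_orth hr hr2 h3 hq1.le (δ := -1) (Or.inr rfl) ?_ ?_ (eta_eq_iff_minus.2 him) hb h2
    · change (((p ^ f) ^ m + 1 : ℕ) : ZMod r) = _
      push_cast
      ring
    · intro hs hη
      have hne := even_of_sgn hs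
      rcases eta_cases (co (p ^ f) r) with ⟨h5, -⟩ | ⟨h5, h6⟩
      · exact absurd hne (Nat.not_even_iff_odd.2 h5)
      · rw [tn, if_pos hne, show co (p ^ f) r / 2 = m by omega]
        rfl

/-- **tori and exponents** -/
theorem torFacts {t : Fam} (ht : Classical t) {p f : ℕ} {X : Type u} [Group X] [Finite X] (hp : p.Prime)
    (h : Fam.Is p f X t) : TorFacts t p f X := by
  cases t with
  | psl n => exact tor_psl hp h
  | psp n => exact tor_psp hp h
  | psu n => exact tor_psu hp h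
  | oodd n => exact tor_oodd hp h
  | oplus n => exact tor_oplus hp h
  | ominus n => exact tor_ominus hp h
  | g2 => exact ht.elim
  | f4 => exact ht.elim
  | e6 => exact ht.elim
  | e7 => exact ht.elim
  | e8 => exact ht.elim
  | td4 => exact ht.elim
  | te6 => exact ht.elim
  | sz => exact ht.elim
  | tf4 => exact ht.elim
  | ree => exact ht.elim

end Cfsg.Agent.R2.Spec.P1

private theorem dce_f266673e6496 : _root_.True := by
  try have : _root_.True := by simp only [_root_.Cfsg.Agent.R2.Spec.P1.tnum.eq_1]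
  try have : _root_.True := by simp only [_root_.Cfsg.Agent.R2.Spec.P1.tnum.eq_2]
  try have : _root_.True := by simp only [_root_.Cfsg.Agent.R2.Spec.P1.tnum._sparseCasesOn_1.else_eq]
  try have : _root_.True := by simp only [_root_.Cfsg.Agent.R2.Spec.P1.tnum.eq_3]
  exact _root_.True.intro
end

-- part: R2/Spec/P1/TopDef
section
set_option linter.all false

/-!
# Team T3 (S3435), box P1b: the exact tori of the isolated classes (helper15), definitions

* `top t i` : the isolated classes;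
* `ttor t q i` : the exponent of the torus of the isolated class `i`;
* `TopFacts` : `elt` an element of order `ttor`, `ub` the orders divisible by a prime of the class divide `ttor`.
-/

set_option autoImplicit false

namespace Cfsg.Agent.R2.Spec.P1

open Cfsg Cfsg.Agent.H426.LieFam Cfsg.Agent.R2.Spec

universe u

/-- the isolated classes -/
def top : Fam → ℕ → Prop
  | .psl n, i => 3 ≤ i ∧ (i = n ∨ i + 1 = n)
  | .psu n, i => 3 ≤ i ∧ (i = n ∨ i + 1 = n)
  | .psp n, i => i = 2 * n ∨ (i = n ∧ n % 2 = 1)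
  | .oodd n, i => i = 2 * n ∨ (i = n ∧ n % 2 = 1)
  | .oplus n, i => (i = n ∧ n % 2 = 1) ∨ i = 2 * (n - 1) ∨ (i = n - 1 ∧ n % 2 = 0)
  | .ominus n, i => i = 2 * n ∨ i = 2 * (n - 1) ∨ (i = n - 1 ∧ n % 2 = 0)
  | _, _ => False

/-- the exponent of the torus of the isolated class `i` -/
def ttor : Fam → ℕ → ℕ → ℕ
  | .psl n, q, i => if i = n then (q ^ n - 1) / ((q - 1) * Nat.gcd n (q - 1)) else (q ^ (n - 1) - 1) / Nat.gcd n (q - 1)
  | .psu n, q, i =>
    if i = n then (if n % 2 = 0 then q ^ n - 1 else q ^ n + 1) / ((q + 1) * Nat.gcd n (q + 1))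
    else (if n % 2 = 0 then q ^ (n - 1) + 1 else q ^ (n - 1) - 1) / Nat.gcd n (q + 1)
  | .psp n, q, i => if i = 2 * n then (q ^ n + 1) / Nat.gcd 2 (q - 1) else (q ^ n - 1) / Nat.gcd 2 (q - 1)
  | .oodd n, q, i => if i = 2 * n then (q ^ n + 1) / Nat.gcd 2 (q - 1) else (q ^ n - 1) / Nat.gcd 2 (q - 1)
  | .oplus n, q, i =>
    if i = n then (q ^ n - 1) / Nat.gcd 4 (q ^ n - 1)
    else if i = n - 1 then (q ^ (n - 1) - 1) / Nat.gcd 2 (q - 1)
    else if n % 2 = 0 then (q ^ (n - 1) + 1) / Nat.gcd 2 (q - 1)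
    else (q ^ (n - 1) + 1) * (q + 1) / Nat.gcd 4 (q ^ n - 1)
  | .ominus n, q, i =>
    if i = 2 * n then (q ^ n + 1) / Nat.gcd 4 (q ^ n + 1)
    else if i = n - 1 then (q ^ (n - 1) - 1) * (q + 1) / Nat.gcd 4 (q ^ n + 1)
    else (q ^ (n - 1) + 1) * (q - 1) / Nat.gcd 4 (q ^ n + 1)
  | _, _, _ => 0

/-- **The exact tori of the isolated classes** (`p` odd) -/
structure TopFacts (t : Fam) (p f : ℕ) (X : Type u) [Group X] : Prop where
  elt : ∀ i : ℕ, top t i → ∃ x : X, orderOf x = ttor t (p ^ f) i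
  ub : ∀ r : ℕ, r.Prime → ¬ r ∣ p → top t (cls t (p ^ f) r) → ∀ x : X, r ∣ orderOf x →
    orderOf x ∣ ttor t (p ^ f) (cls t (p ^ f) r)

end Cfsg.Agent.R2.Spec.P1

private theorem dce_58ef65aeccdf : _root_.True := by
  try have : _root_.True := by simp only [_root_.Cfsg.Agent.R2.Spec.P1.top._sparseCasesOn_1.else_eq]
  try have : _root_.True := by simp only [_root_.Cfsg.Agent.R2.Spec.P1.ttor.eq_1]
  try have : _root_.True := by simp only [_root_.Cfsg.Agent.R2.Spec.P1.ttor.eq_2]
  try have : _root_.True := by simp only [_root_.Cfsg.Agent.R2.Spec.P1.ttor.eq_6]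
  try have : _root_.True := by simp only [_root_.Cfsg.Agent.R2.Spec.P1.ttor.eq_4]
  try have : _root_.True := by simp only [_root_.Cfsg.Agent.R2.Spec.P1.ttor.eq_7]
  try have : _root_.True := by simp only [_root_.Cfsg.Agent.R2.Spec.P1.ttor.eq_3]
  try have : _root_.True := by simp only [_root_.Cfsg.Agent.R2.Spec.P1.ttor.eq_5]
  exact _root_.True.intro
end

-- part: R2/Spec/F1/MovA
section
set_option linter.all false
open scoped Cfsg.Agent.FastGrp

/-!
# Abelian moved subgroups of the classical groups (helper23)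

* `MovA S v w` : an element of order `w` normalizes an abelian `v`-subgroup without centralizing it;
* `movA_psl`, `movA_psp`, `movA_plus`, `movA_odd`, `movA_minus` : the linear part (Siegel parabolic subgroup), all
  characteristics.
-/

set_option autoImplicit false
set_option linter.unusedSectionVars false

namespace Cfsg.Agent.R2.Spec.F1

open Subgroup Matrix
open Cfsg.Agent.H425.Siegel

universe u

/-- an element of order `w` normalizes an abelian `v`-subgroup without centralizing it -/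
def MovA (S : Type*) [Group S] (v w : ℕ) : Prop :=
  ∃ (P : Subgroup S) (x : S), IsPGroup v P ∧ orderOf x = w ∧ (∀ a ∈ P, x * a * x⁻¹ ∈ P) ∧ (∃ a ∈ P, x * a ≠ a * x) ∧
    ∀ a ∈ P, ∀ b ∈ P, a * b = b * a

theorem MovA.movW {S : Type*} [Group S] {v w : ℕ} (h : MovA S v w) : MovW S v w := by
  obtain ⟨P, x, hP, hx, hn, ha, hab⟩ := h
  exact ⟨P, x, hP, hx, hn, ha, Or.inr (Or.inr hab)⟩

theorem MovA.mov {S : Type*} [Group S] {v w : ℕ} (h : MovA S v w) : Cfsg.Agent.H425.KStep.Mov S v w := by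
  obtain ⟨P, x, hP, hx, hn, ha, -⟩ := h
  exact ⟨P, x, hP, hx, hn, ha⟩

theorem MovA.map {S T : Type*} [Group S] [Group T] (f : S →* T) (hf : Function.Injective f) {v w : ℕ} (h : MovA S v w) :
    MovA T v w := by
  obtain ⟨P, x, hP, hx, hn, ⟨a, ha, hne⟩, hv⟩ := h
  refine ⟨P.map f, f x, hP.map f, by rw [orderOf_injective f hf, hx], ?_, ⟨f a, ⟨a, ha, rfl⟩, ?_⟩, ?_⟩
  · rintro _ ⟨b, hb, rfl⟩
    exact ⟨x * b * x⁻¹, hn b hb, by rw [map_mul, map_mul, map_inv]⟩
  · intro h
    rw [← map_mul, ← map_mul] at h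
    exact hne (hf h)
  · rintro _ ⟨b, hb, rfl⟩ _ ⟨c, hc, rfl⟩
    rw [← map_mul, ← map_mul, hv b hb c hc]

theorem MovA.congr {S T : Type*} [Group S] [Group T] (e : S ≃* T) {v w : ℕ} : MovA S v w ↔ MovA T v w :=
  ⟨fun h => h.map e.toMonoidHom e.injective, fun h => h.map e.symm.toMonoidHom e.symm.injective⟩

theorem movA_of_homs {O A V : Type*} [Group O] [Group A] [AddCommGroup V] {p r : ℕ} (hV : ∀ v : V, p • v = 0)
    (d : A →* O) (u : Multiplicative V →* O) (hu : Function.Injective u) (act : A → V → V)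
    (h : ∀ a v, d a * u (Multiplicative.ofAdd v) * (d a)⁻¹ = u (Multiplicative.ofAdd (act a v))) {a : A}
    (ha : orderOf (d a) = r) {v : V} (hv : act a v ≠ v) : MovA O p r := by
  refine ⟨u.range, d a, ?_, ha, ?_, ⟨u (Multiplicative.ofAdd v), ⟨_, rfl⟩, ?_⟩, ?_⟩
  · rintro ⟨_, w, rfl⟩
    refine ⟨1, Subtype.ext ?_⟩
    change (u w) ^ p ^ 1 = 1
    rw [pow_one, ← map_pow]
    have h1 : w ^ p = 1 := hV (Multiplicative.toAdd w)
    rw [h1, map_one]
  · rintro _ ⟨w, rfl⟩
    exact ⟨Multiplicative.ofAdd (act a (Multiplicative.toAdd w)), (h a (Multiplicative.toAdd w)).symm⟩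
  · intro hc
    apply hv
    have h1 := h a v
    rw [hc, mul_inv_cancel_right] at h1
    exact (Multiplicative.ofAdd.injective (hu h1)).symm
  · rintro _ ⟨b, rfl⟩ _ ⟨c, rfl⟩
    rw [← map_mul, ← map_mul, mul_comm]

/-- passing to a normal subgroup containing the elements of order `w` -/
theorem MovA.sub {O : Type*} [Group O] (N : Subgroup O) [hNn : N.Normal] {v w : ℕ} (hN : ∀ g : O, g ^ w = 1 → g ∈ N)
    (hv : v.Prime) (hw : w.Prime) (hvw : v ≠ w) (h : MovA O v w) : MovA N v w := by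
  obtain ⟨P, x, hP, hx, hn, ⟨a, ha, hne⟩, hab⟩ := h
  have hxN : x ∈ N := hN x (by rw [← hx, pow_orderOf_eq_one])
  have hP' : IsPGroup v (P.subgroupOf N) := by
    rintro ⟨⟨b, hbN⟩, hb⟩
    obtain ⟨k, hk⟩ := hP ⟨b, hb⟩
    have h1 : b ^ v ^ k = 1 := congrArg Subtype.val hk
    exact ⟨k, Subtype.ext (Subtype.ext h1)⟩
  refine ⟨P.subgroupOf N, ⟨x, hxN⟩, hP', by rw [Subgroup.orderOf_mk, hx], fun b hb => hn b hb, ?_,
    fun b hb c hc => Subtype.ext (hab b hb c hc)⟩
  by_contra hcon
  push Not at hcon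
  apply hne
  obtain ⟨c, hc⟩ : ∃ c : O, c = x * a * x⁻¹ * a⁻¹ := ⟨_, rfl⟩
  have hcP : c ∈ P := hc ▸ P.mul_mem (hn a ha) (P.inv_mem ha)
  have hcN : c ∈ N := by
    rw [hc]
    have h1 : x * a * x⁻¹ * a⁻¹ = x * (a * x⁻¹ * a⁻¹) := by group
    rw [h1]
    exact N.mul_mem hxN (hNn.conj_mem _ (N.inv_mem hxN) a)
  have hxc : x * c = c * x := congrArg Subtype.val (hcon ⟨c, hcN⟩ hcP)
  have hpow : ∀ k : ℕ, x ^ k * a * (x ^ k)⁻¹ = c ^ k * a := by
    intro k
    induction k with
    | zero => simp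
    | succ k ih =>
      have h1 : x ^ (k + 1) * a * (x ^ (k + 1))⁻¹ = x * (x ^ k * a * (x ^ k)⁻¹) * x⁻¹ := by
        rw [pow_succ']; group
      have h2 : x * c ^ k = c ^ k * x := (Commute.pow_right (show Commute x c from hxc) k).eq
      have h3 : x * a * x⁻¹ = c * a := by rw [hc]; group
      rw [h1, ih, ← mul_assoc, h2, mul_assoc (c ^ k), mul_assoc (c ^ k), h3, ← mul_assoc, pow_succ]
  have h1 := hpow w
  rw [← hx, pow_orderOf_eq_one, one_mul, inv_one, mul_one, right_eq_mul, hx] at h1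
  obtain ⟨k, hk⟩ := hP ⟨c, hcP⟩
  have hk' : c ^ v ^ k = 1 := congrArg Subtype.val hk
  have h2 : Nat.Coprime w (v ^ k) := Nat.Coprime.pow_right _ ((Nat.coprime_primes hw hv).2 hvw.symm)
  have h3 : c = 1 := by
    have h4 := orderOf_dvd_of_pow_eq_one h1
    have h5 := orderOf_dvd_of_pow_eq_one hk'
    exact orderOf_eq_one_iff.1 (Nat.eq_one_of_dvd_coprimes h2 h4 h5)
  rw [h3, eq_comm, mul_inv_eq_one, mul_inv_eq_iff_eq_mul] at hc
  exact hc

/-- passing to the quotient by a normal subgroup of order prime to `v` -/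
theorem MovA.quot {O : Type*} [Group O] [Finite O] (Z : Subgroup O) [Z.Normal] {v w : ℕ} (hZ : ¬ v ∣ Nat.card Z)
    (hv : v.Prime) (hw : w.Prime) (h : MovA O v w) : MovA (O ⧸ Z) v w := by
  obtain ⟨P, x, hP, hx, hn, ⟨a, ha, hne⟩, hab⟩ := h
  have hc : QuotientGroup.mk' Z x * QuotientGroup.mk' Z a ≠ QuotientGroup.mk' Z a * QuotientGroup.mk' Z x := by
    intro hc
    have h1 : (x * a * x⁻¹) * a⁻¹ ∈ Z := by
      rw [← QuotientGroup.eq_one_iff]
      change QuotientGroup.mk' Z ((x * a * x⁻¹) * a⁻¹) = 1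
      rw [map_mul, map_mul, map_mul, map_inv, map_inv, hc]
      group
    have h2 : (x * a * x⁻¹) * a⁻¹ ∈ P := P.mul_mem (hn a ha) (P.inv_mem ha)
    obtain ⟨k, hk⟩ := hP ⟨_, h2⟩
    have h3 : orderOf ((x * a * x⁻¹) * a⁻¹) ∣ Nat.card Z := by
      rw [← Subgroup.orderOf_mk _ h1]
      exact _root_.orderOf_dvd_natCard _
    have h4 : orderOf ((x * a * x⁻¹) * a⁻¹) ∣ v ^ k := orderOf_dvd_of_pow_eq_one (congrArg Subtype.val hk)
    have h5 : Nat.Coprime (Nat.card Z) (v ^ k) :=
      Nat.Coprime.pow_right _ ((Nat.Prime.coprime_iff_not_dvd hv).2 hZ).symm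
    have h6 := orderOf_eq_one_iff.1 (Nat.eq_one_of_dvd_coprimes h5 h3 h4)
    rw [mul_inv_eq_one, mul_inv_eq_iff_eq_mul] at h6
    exact hne h6
  have : Fact w.Prime := ⟨hw⟩
  refine ⟨P.map (QuotientGroup.mk' Z), QuotientGroup.mk' Z x, hP.map _, ?_, ?_, ⟨QuotientGroup.mk' Z a, ⟨a, ha, rfl⟩, hc⟩, ?_⟩
  · refine orderOf_eq_prime ?_ ?_
    · rw [← map_pow, ← hx, pow_orderOf_eq_one, map_one]
    · intro h1
      apply hc
      rw [h1, one_mul, mul_one]
  · rintro _ ⟨b, hb, rfl⟩
    exact ⟨x * b * x⁻¹, hn b hb, by rw [map_mul, map_mul, map_inv]⟩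
  · rintro _ ⟨b, hb, rfl⟩ _ ⟨c, hc, rfl⟩
    rw [← map_mul, ← map_mul, hab b hb c hc]

/-! ### the linear groups -/

section sl

variable {F : Type*} [Field F] {k : ℕ}

theorem movA_sl [Fintype F] {p : ℕ} [CharP F p] {e r : ℕ} (hr : r.Prime) (he1 : 1 ≤ e) (he : e ≤ k)
    (h : r ∣ Fintype.card F ^ e - 1) (h1 : ¬ r ∣ Fintype.card F - 1) :
    MovA (Matrix.SpecialLinearGroup (Fin (k + 1)) F) p r := by
  obtain ⟨A, hA⟩ := exists_gl (F := F) hr he1 he h
  obtain ⟨B, hne⟩ : ∃ B : Matrix (Fin k) (Fin 1) F,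
      (A : Matrix (Fin k) (Fin k) F).det • ((A : Matrix (Fin k) (Fin k) F) * B) ≠ B := by
    by_contra hcon
    push Not at hcon
    set c := (A : Matrix (Fin k) (Fin k) F).det with hc
    have hc0 : c ≠ 0 := det_ne A
    have h2 : (A : Matrix (Fin k) (Fin k) F) = c⁻¹ • 1 := by
      ext i j
      have h3 := congrFun (congrFun (hcon (Matrix.single j 0 1)) i) 0
      rw [Matrix.smul_apply, Matrix.mul_single_apply_same, smul_eq_mul, mul_one] at h3
      rw [Matrix.smul_apply, smul_eq_mul]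
      by_cases hij : i = j
      · subst hij
        rw [Matrix.single_apply_same] at h3
        rw [Matrix.one_apply_eq, mul_one]
        exact eq_inv_of_mul_eq_one_right h3
      · rw [Matrix.single_apply_of_row_ne (Ne.symm hij)] at h3
        rw [Matrix.one_apply_ne hij, mul_zero]
        exact (mul_eq_zero.1 h3).resolve_left hc0
    apply h1
    rw [← hA]
    apply orderOf_dvd_of_pow_eq_one
    apply Units.ext
    rw [Units.val_pow_eq_pow_val, h2, Units.val_one, smul_pow, one_pow, inv_pow, FiniteField.pow_card_sub_one_eq_one c hc0,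
      inv_one, one_smul]
  refine movA_of_homs (V := Matrix (Fin k) (Fin 1) F) (A := GL (Fin k) F) (p := p) ?_ (dgL k F) (uniL k F) uniL_injective
    (fun A B => (A : Matrix (Fin k) (Fin k) F).det • ((A : Matrix (Fin k) (Fin k) F) * B)) ?_ (a := A)
    (by rw [orderOf_injective _ dgL_injective, hA]) (v := B) hne
  · intro v
    rw [← Nat.cast_smul_eq_nsmul F, CharP.cast_eq_zero, zero_smul]
  · intro A B
    rw [mul_inv_eq_iff_eq_mul]
    apply Subtype.ext
    change rX k F (lv A) * rX k F _ = rX k F _ * rX k F (lv A)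
    rw [← map_mul, ← map_mul]
    exact congrArg (rX k F) (conj_L A B)

theorem movA_psl [Fintype F] {p : ℕ} [CharP F p] (hp : p.Prime) {e r : ℕ} (hr : r.Prime) (he1 : 1 ≤ e) (he : e ≤ k)
    (h : r ∣ Fintype.card F ^ e - 1) (h1 : ¬ r ∣ Fintype.card F - 1) :
    MovA (Matrix.ProjectiveSpecialLinearGroup (Fin (k + 1)) F) p r :=
  have : Finite (Matrix.SpecialLinearGroup (Fin (k + 1)) F) := Finite.of_injective _ Subtype.val_injective
  MovA.quot _ (center_sl hp) hp hr (movA_sl hr he1 he h h1)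

end sl

/-! ### the symplectic and orthogonal groups -/

section mat

variable {F : Type*} [Field F] {m : ℕ}

/-- an alternating matrix moved by `A` -/
theorem exists_alt (hm : 3 ≤ m) {A : GL (Fin m) F} (hA : A ^ 2 ≠ 1) :
    ∃ B : Matrix (Fin m) (Fin m) F, (Bᵀ = -B ∧ ∀ i, B i i = 0) ∧ actM A B ≠ B := by
  by_contra hcon
  push Not at hcon
  -- the matrices `E_ij - E_ji` generate, so that `A` fixes them all: reuse the skew argument
  set M : Matrix (Fin m) (Fin m) F := (A : Matrix (Fin m) (Fin m) F) with hM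
  set D : Matrix (Fin m) (Fin m) F := ((A⁻¹ : GL (Fin m) F) : Matrix (Fin m) (Fin m) F)ᵀ with hD
  have key : ∀ i j : Fin m, i ≠ j → M * (single i j 1 - single j i 1) = (single i j 1 - single j i 1) * D := by
    intro i j hij
    refine mul_eq_of_act (hcon _ ⟨?_, ?_⟩)
    · rw [Matrix.transpose_sub, Matrix.transpose_single, Matrix.transpose_single, neg_sub]
    · intro l
      rw [Matrix.sub_apply]
      rw [Matrix.single_apply_of_ne _ _ _ _ _ (by rintro ⟨rfl, rfl⟩; exact hij rfl),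
        Matrix.single_apply_of_ne _ _ _ _ _ (by rintro ⟨rfl, rfl⟩; exact hij rfl), sub_zero]
  have third : ∀ i k : Fin m, ∃ j : Fin m, j ≠ i ∧ j ≠ k := by
    intro i k
    have : 2 < Fintype.card (Fin m) := by rw [Fintype.card_fin]; omega
    by_contra hc
    push Not at hc
    have h1 : (Finset.univ : Finset (Fin m)) ⊆ {i, k} := by
      intro j _
      rw [Finset.mem_insert, Finset.mem_singleton]
      by_cases hj : j = i
      · exact Or.inl hj
      · exact Or.inr (hc j hj)
    have h2 := Finset.card_le_card h1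
    have h3 := Finset.card_le_two (a := i) (b := k)
    rw [Finset.card_univ] at h2
    omega
  have hdiag : ∀ k i : Fin m, k ≠ i → M k i = 0 := by
    intro k i hki
    obtain ⟨j, hji, hjk⟩ := third i k
    have h1 := congrFun (congrFun (key i j hji.symm) k) j
    rw [Matrix.mul_sub, Matrix.sub_mul, Matrix.sub_apply, Matrix.sub_apply] at h1
    rw [Matrix.mul_single_apply_same, Matrix.mul_single_apply_of_ne _ _ _ _ _ hji,
      Matrix.single_mul_apply_of_ne _ _ _ _ _ hki, Matrix.single_mul_apply_of_ne _ _ _ _ _ (Ne.symm hjk)] at h1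
    simpa using h1
  have hval : ∀ i j : Fin m, i ≠ j → M i i = D j j := by
    intro i j hij
    have h1 := congrFun (congrFun (key i j hij) i) j
    rw [Matrix.mul_sub, Matrix.sub_mul, Matrix.sub_apply, Matrix.sub_apply] at h1
    rw [Matrix.mul_single_apply_same, Matrix.mul_single_apply_of_ne _ _ _ _ _ (Ne.symm hij),
      Matrix.single_mul_apply_same, Matrix.single_mul_apply_of_ne _ _ _ _ _ hij] at h1
    simpa using h1
  have hinv : ∀ i : Fin m, M i i * D i i = 1 := by
    intro i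
    have h1 : M * Dᵀ = 1 := by
      rw [hD, Matrix.transpose_transpose, hM, ← Units.val_mul, mul_inv_cancel, Units.val_one]
    have h2 := congrFun (congrFun h1 i) i
    rw [Matrix.one_apply_eq, Matrix.mul_apply, Finset.sum_eq_single i] at h2
    · rwa [Matrix.transpose_apply] at h2
    · intro k _ hk
      rw [hdiag i k (Ne.symm hk), zero_mul]
    · intro h
      exact absurd (Finset.mem_univ i) h
  apply hA
  have hsq : ∀ i : Fin m, M i i * M i i = 1 := by
    intro i
    obtain ⟨j, hji, -⟩ := third i i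
    obtain ⟨k, hki, hkj⟩ := third i j
    have h1 := hval i j (Ne.symm hji)
    have h2 := hval k j hkj
    have h3 := hval k i hki
    have h4 : M i i = D i i := by rw [h1, ← h2, h3]
    have h5 := hinv i
    rwa [← h4] at h5
  apply Units.ext
  rw [Units.val_pow_eq_pow_val, ← hM, Units.val_one, pow_two]
  ext i j
  rw [Matrix.mul_apply]
  by_cases hij : i = j
  · subst hij
    rw [Matrix.one_apply_eq, Finset.sum_eq_single i]
    · exact hsq i
    · intro k _ hk
      rw [hdiag i k (Ne.symm hk), zero_mul]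
    · intro h
      exact absurd (Finset.mem_univ i) h
  · rw [Matrix.one_apply_ne hij]
    apply Finset.sum_eq_zero
    intro k _
    by_cases hk : k = i
    · subst hk
      rw [hdiag k j hij, mul_zero]
    · rw [hdiag i k (Ne.symm hk), zero_mul]

/-- alternating matrices -/
def alt (m : ℕ) (F : Type*) [Field F] : AddSubgroup (Matrix (Fin m) (Fin m) F) where
  carrier := {B | Bᵀ = -B ∧ ∀ i, B i i = 0}
  add_mem' := by
    rintro a b ⟨ha, ha'⟩ ⟨hb, hb'⟩
    refine ⟨?_, fun i => ?_⟩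
    · rw [Matrix.transpose_add, ha, hb, neg_add]
    · rw [Matrix.add_apply, ha', hb', add_zero]
  zero_mem' := ⟨by rw [Matrix.transpose_zero, neg_zero], fun i => rfl⟩
  neg_mem' := by
    rintro a ⟨ha, ha'⟩
    refine ⟨?_, fun i => ?_⟩
    · rw [Matrix.transpose_neg, ha]
    · rw [Matrix.neg_apply, ha', neg_zero]

/-- the quadratic form of an alternating matrix vanishes -/
theorem alt_form {B : Matrix (Fin m) (Fin m) F} (hB : Bᵀ = -B ∧ ∀ i, B i i = 0) (v : Fin m → F) :
    (B *ᵥ v) ⬝ᵥ v = 0 := by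
  obtain ⟨h1, h2⟩ := hB
  have h3 : ∀ i j, B j i = - B i j := fun i j => by
    have := congrFun (congrFun h1 i) j
    rwa [Matrix.transpose_apply, Matrix.neg_apply] at this
  simp only [dotProduct, Matrix.mulVec]
  have h4 : ∑ i, (∑ j, B i j * v j) * v i = ∑ p ∈ (Finset.univ : Finset (Fin m × Fin m)), B p.1 p.2 * v p.2 * v p.1 := by
    rw [Finset.univ_product_univ.symm, Finset.sum_product]
    refine Finset.sum_congr rfl fun i _ => ?_
    rw [Finset.sum_mul]
  rw [h4]
  refine Finset.sum_involution (fun p _ => (p.2, p.1)) ?_ ?_ ?_ ?_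
  · rintro ⟨i, j⟩ _
    change B i j * v j * v i + B j i * v i * v j = 0
    rw [h3 i j]
    ring
  · rintro ⟨i, j⟩ _ hne heq
    apply hne
    have h5 : j = i := congrArg Prod.fst heq
    change B i j * v j * v i = 0
    rw [h5, h2, zero_mul, zero_mul]
  · intro _ _
    exact Finset.mem_univ _
  · rintro ⟨i, j⟩ _
    rfl

theorem uniA_mem {B : Matrix (Fin m) (Fin m) F} (hB : Bᵀ = -B ∧ ∀ i, B i i = 0) :
    uni m F (Multiplicative.ofAdd B) ∈ Cfsg.isometryGroup F (Cfsg.quadFormPlus m F) := by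
  rw [Cfsg.Agent.LieClassical.OmegaReindex.mem_isometryGroup]
  intro v
  rw [Cfsg.Agent.H425.Torus.quadFormPlus_eq_dotProduct, Cfsg.Agent.H425.Torus.quadFormPlus_eq_dotProduct, coe_uni, fromBlocks_mulVec]
  simp only [Matrix.zero_mulVec, zero_add, Sum.elim_comp_inl, Sum.elim_comp_inr, Matrix.one_mulVec]
  rw [add_dotProduct, alt_form hB, add_zero]

/-- the unipotent radical -/
def uniA (m : ℕ) (F : Type*) [Field F] :
    Multiplicative (alt m F) →* Cfsg.isometryGroup F (Cfsg.quadFormPlus m F) where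
  toFun B := ⟨uni m F (Multiplicative.ofAdd ((Multiplicative.toAdd B : alt m F) : Matrix (Fin m) (Fin m) F)),
    uniA_mem (Multiplicative.toAdd B : alt m F).2⟩
  map_one' := by
    apply Subtype.ext
    exact map_one (uni m F)
  map_mul' A B := by
    apply Subtype.ext
    exact map_mul (uni m F) _ _

theorem uniA_injective : Function.Injective (uniA m F) := by
  intro A B h
  have h1 := congrArg (fun g : Cfsg.isometryGroup F (Cfsg.quadFormPlus m F) =>
    ((g : GL (Fin m ⊕ Fin m) F) : Matrix (Fin m ⊕ Fin m) (Fin m ⊕ Fin m) F)) h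
  have h3 : fromBlocks 1 ((Multiplicative.toAdd A : alt m F) : Matrix (Fin m) (Fin m) F) 0 1 =
    fromBlocks 1 ((Multiplicative.toAdd B : alt m F) : Matrix (Fin m) (Fin m) F) 0 1 := h1
  exact Subtype.ext (fromBlocks_inj.1 h3).2.1

theorem act_alt (A : GL (Fin m) F) {B : Matrix (Fin m) (Fin m) F} (hB : Bᵀ = -B ∧ ∀ i, B i i = 0) :
    (actM A B)ᵀ = -actM A B ∧ ∀ i, actM A B i i = 0 := by
  refine ⟨by rw [actM_transpose, hB.1, actM_neg], fun i => ?_⟩
  -- `(A B Aᵀ)_{ii}` is the value of the form at the `i`-th row of `A`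
  have h1 : actM A B i i = (B *ᵥ ((A : Matrix (Fin m) (Fin m) F) i)) ⬝ᵥ ((A : Matrix (Fin m) (Fin m) F) i) := by
    rw [actM, Matrix.mul_assoc, Matrix.mul_apply, dotProduct]
    refine Finset.sum_congr rfl fun j _ => ?_
    rw [mul_comm]
    congr 1
  rw [h1, alt_form hB]

/-- **the isometry group of plus type** -/
theorem movA_isom [Fintype F] {p : ℕ} [CharP F p] (hm : 3 ≤ m) {e r : ℕ} (hr : r.Prime)
    (hr2 : r ≠ 2) (he1 : 1 ≤ e) (he : e ≤ m) (h : r ∣ Fintype.card F ^ e - 1) :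
    MovA (Cfsg.isometryGroup F (Cfsg.quadFormPlus m F)) p r := by
  obtain ⟨A, hA⟩ := exists_gl (F := F) hr he1 he h
  obtain ⟨B, hB, hne⟩ := exists_alt hm (sq_ne_one hr hr2 hA)
  refine movA_of_homs (V := alt m F) (A := GL (Fin m) F) (p := p) ?_ (Cfsg.Agent.H425.Torus.dg m F) (uniA m F) uniA_injective
    (fun A B => ⟨actM A B, act_alt A B.2⟩) ?_ (a := A)
    (by rw [orderOf_injective _ Cfsg.Agent.H425.Torus.dg_injective, hA]) (v := ⟨B, hB⟩) ?_
  · intro v
    apply Subtype.ext
    change p • (v : Matrix (Fin m) (Fin m) F) = 0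
    rw [← Nat.cast_smul_eq_nsmul F, CharP.cast_eq_zero, zero_smul]
  · intro A B
    rw [mul_inv_eq_iff_eq_mul]
    apply Subtype.ext
    apply Units.ext
    exact conj_blocks A B
  · intro h
    exact hne (congrArg Subtype.val h)

/-- **the symplectic group** -/
theorem movA_sp [Fintype F] {p : ℕ} [CharP F p] {e r : ℕ} (hr : r.Prime)
    (hr2 : r ≠ 2) (he1 : 1 ≤ e) (he : e ≤ m) (h : r ∣ Fintype.card F ^ e - 1) :
    MovA (Matrix.symplecticGroup (Fin m) F) p r := by
  obtain ⟨A, hA⟩ := exists_gl (F := F) hr he1 he h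
  obtain ⟨B, hB, hne⟩ := exists_sym (sq_ne_one hr hr2 hA)
  have hact : ∀ (A : GL (Fin m) F) (B : sym m F), actM A B ∈ sym m F := by
    intro A B
    change (actM A B)ᵀ = actM A B
    have hB : (B : Matrix (Fin m) (Fin m) F)ᵀ = B := B.2
    rw [actM_transpose, hB]
  refine movA_of_homs (V := sym m F) (A := GL (Fin m) F) (p := p) ?_ (dgSp m F) (uniSp m F) uniSp_injective
    (fun A B => ⟨actM A B, hact A B⟩) ?_ (a := A) (by rw [orderOf_injective _ dgSp_injective, hA]) (v := ⟨B, hB⟩) ?_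
  · intro v
    apply Subtype.ext
    change p • (v : Matrix (Fin m) (Fin m) F) = 0
    rw [← Nat.cast_smul_eq_nsmul F, CharP.cast_eq_zero, zero_smul]
  · intro A B
    rw [mul_inv_eq_iff_eq_mul]
    apply Subtype.ext
    exact conj_blocks A B
  · intro h
    exact hne (congrArg Subtype.val h)

/-- the order of the centre of the symplectic group is prime to the characteristic -/
theorem center_sp [Finite F] {p : ℕ} [CharP F p] (hp : p.Prime) :
    ¬ p ∣ Nat.card (Subgroup.center (Matrix.symplecticGroup (Fin m) F)) := by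
  have : Finite (Matrix.symplecticGroup (Fin m) F) := Finite.of_injective _ Subtype.val_injective
  by_cases hp2 : p = 2
  · subst hp2
    have h1 : Subgroup.center (Matrix.symplecticGroup (Fin m) F) = ⊥ := by
      rw [eq_bot_iff]
      intro z hz
      rw [Subgroup.mem_bot]
      apply Subtype.ext
      have h2 : (-1 : Matrix (Fin m ⊕ Fin m) (Fin m ⊕ Fin m) F) = 1 := by
        have h3 : (-1 : F) = 1 := by
          rw [neg_eq_iff_add_eq_zero]
          have h4 : ((2 : ℕ) : F) = 0 := CharP.cast_eq_zero F 2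
          push_cast at h4
          rw [← h4]; norm_num
        ext i j
        rw [Matrix.neg_apply]
        by_cases hij : i = j
        · rw [hij, Matrix.one_apply_eq, h3]
        · rw [Matrix.one_apply_ne hij, neg_zero]
      rcases Cfsg.Agent.ClassicalGeometry.SympInvolutions.center_eq hz with h | h
      · exact h
      · rw [h, h2]; rfl
    rw [h1, Subgroup.card_bot]
    norm_num
  · exact not_dvd_card_of_sq hp hp2 sp_center_sq

theorem movA_psp [Fintype F] {p : ℕ} [CharP F p] (hp : p.Prime) {e r : ℕ} (hr : r.Prime)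
    (hr2 : r ≠ 2) (he1 : 1 ≤ e) (he : e ≤ m) (h : r ∣ Fintype.card F ^ e - 1) : MovA (Cfsg.PSp m F) p r :=
  have : Finite (Matrix.symplecticGroup (Fin m) F) := Finite.of_injective _ Subtype.val_injective
  MovA.quot _ (center_sp hp) hp hr (movA_sp hr hr2 he1 he h)

end mat

section orth

open Cfsg.Agent.LieClassical.OrthCount Cfsg.Agent.LieClassical.OmegaReindex Cfsg.Agent.LieClassical

/-- the order of the centre of `Ω` is prime to the characteristic -/
theorem center_omega {F : Type*} [Field F] [Finite F] {ι : Type} [Fintype ι] [DecidableEq ι]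
    {Q : QuadraticForm F (ι → F)} (hD : Cfsg.Agent.H390.Lift.Data Q) {p : ℕ} [CharP F p] (hp : p.Prime) :
    ¬ p ∣ Nat.card (Subgroup.center (Cfsg.Omega F ⇑Q)) := by
  by_cases hp2 : p = 2
  · subst hp2
    have h1 : Subgroup.center (Cfsg.Omega F ⇑Q) = ⊥ := by
      rw [eq_bot_iff]
      intro z hz
      rw [Subgroup.mem_bot]
      have h1 := (OmegaCenter.mem_center_omega_iff Q hD.nd hD.dim hD.iso z).1 hz
      apply OmegaCenter.omega_ext
      have h2 : (-1 : Matrix ι ι F) = 1 := by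
        have h3 : (-1 : F) = 1 := by
          rw [neg_eq_iff_add_eq_zero]
          have h4 : ((2 : ℕ) : F) = 0 := CharP.cast_eq_zero F 2
          push_cast at h4
          rw [← h4]; norm_num
        ext i j
        rw [Matrix.neg_apply]
        by_cases hij : i = j
        · rw [hij, Matrix.one_apply_eq, h3]
        · rw [Matrix.one_apply_ne hij, neg_zero]
      rcases h1 with h | h
      · rw [h]; rfl
      · rw [h, h2]; rfl
    rw [h1, Subgroup.card_bot]
    norm_num
  · exact not_dvd_card_of_sq hp hp2 fun z => Subtype.ext (Cfsg.Agent.H390.Lift.center_sq hD z z.2)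

/-- from the isometry group to `PΩ` -/
theorem movA_pomega {F : Type*} [Field F] [Finite F] {ι : Type} [Fintype ι] [DecidableEq ι] {Q : QuadraticForm F (ι → F)}
    (hD : Cfsg.Agent.H390.Lift.Data Q) {p r : ℕ} [CharP F p] (hp : p.Prime) (hr : r.Prime) (hr2 : r ≠ 2) (hpr : p ≠ r)
    (h : MovA (Cfsg.isometryGroup F ⇑Q) p r) : MovA (Cfsg.POmega F ⇑Q) p r :=
  MovA.quot _ (center_omega hD hp) hp hr
    (MovA.sub (Cfsg.Omega F ⇑Q) (fun _ hg => Cfsg.Agent.H390.Lift.mem_of_odd _ hD.idx (hr.odd_of_ne_two hr2) hg) hp hr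
      hpr h)

variable {F : Type} [Field F] [Fintype F] {m p e r : ℕ} [CharP F p]

theorem data_plus (hm : 3 ≤ m) : Cfsg.Agent.H390.Lift.Data (quadPlus m F) :=
  have hcard : Fintype.card (Fin m ⊕ Fin m) = 2 * m := by simp only [_root_.Fintype.card_sum, _root_.Fintype.card_fin]; ring
  Cfsg.Agent.H390.data_of _ quadPlus_nondegenerate (by rw [hcard]; omega)
    (quadPlus_isotropic (by omega)) (Or.inr (by rw [hcard]; omega))

theorem data_minus (hm : 3 ≤ m) {a b : F}
    (hab : ∀ z₁ z₂ : F, z₁ ^ 2 + a * z₁ * z₂ + b * z₂ ^ 2 = 0 → z₁ = 0 ∧ z₂ = 0) :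
    Cfsg.Agent.H390.Lift.Data (quadMinus m F a b) :=
  have hcard : Fintype.card ((Fin m ⊕ Fin m) ⊕ Fin 2) = 2 * m + 2 := by simp only [_root_.Fintype.card_sum, _root_.Fintype.card_fin, _root_.Nat.add_right_cancel_iff]; ring
  Cfsg.Agent.H390.data_of _ (quadMinus_nondegenerate hab) (by rw [hcard]; omega)
    (quadMinus_isotropic (by omega) a b) (Or.inr (by rw [hcard]; omega))

theorem movA_plus (hp : p.Prime) (hm : 3 ≤ m) (hr : r.Prime) (hr2 : r ≠ 2) (hpr : p ≠ r) (he1 : 1 ≤ e) (he : e ≤ m)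
    (h : r ∣ Fintype.card F ^ e - 1) : MovA (Cfsg.POmega F (Cfsg.quadFormPlus m F)) p r := by
  have h1 : MovA (Cfsg.isometryGroup F (quadPlus m F)) p r := by
    rw [coe_quadPlus]
    exact movA_isom hm hr hr2 he1 he h
  rw [← coe_quadPlus]
  exact movA_pomega (data_plus hm) hp hr hr2 hpr h1

theorem movA_odd (hp : p.Prime) (hp2 : p ≠ 2) (hm : 3 ≤ m) (hr : r.Prime) (hr2 : r ≠ 2) (hpr : p ≠ r) (he1 : 1 ≤ e)
    (he : e ≤ m) (h : r ∣ Fintype.card F ^ e - 1) : MovA (Cfsg.POmega F (Cfsg.quadFormOdd m F)) p r := by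
  have hcard : Fintype.card (Unit ⊕ (Fin m ⊕ Fin m)) = 2 * m + 1 := by simp only [_root_.Fintype.card_sum, _root_.Fintype.card_unique, _root_.Fintype.card_fin]; ring
  have hD : Cfsg.Agent.H390.Lift.Data (quadOdd m F) :=
    Cfsg.Agent.H390.data_of _ (quadOdd_nondegenerate (two_ne hp2 hp)) (by rw [hcard]; omega)
    (quadOdd_isotropic (by omega)) (Or.inr (by rw [hcard]; omega))
  have h1 : MovA (Cfsg.isometryGroup F (quadOdd m F)) p r := by
    rw [coe_quadOdd]
    obtain ⟨f, hf⟩ := Cfsg.Agent.H104.OrthEmb.exists_emb_odd (F := F) m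
    exact (movA_isom hm hr hr2 he1 he h).map f hf
  rw [← coe_quadOdd]
  exact movA_pomega hD hp hr hr2 hpr h1

theorem movA_minus (hp : p.Prime) (hm : 3 ≤ m) {a b : F}
    (hab : ∀ z₁ z₂ : F, z₁ ^ 2 + a * z₁ * z₂ + b * z₂ ^ 2 = 0 → z₁ = 0 ∧ z₂ = 0)
    (hr : r.Prime) (hr2 : r ≠ 2) (hpr : p ≠ r) (he1 : 1 ≤ e) (he : e ≤ m)
    (h : r ∣ Fintype.card F ^ e - 1) : MovA (Cfsg.POmega F (Cfsg.quadFormMinus m F a b)) p r := by
  have h1 : MovA (Cfsg.isometryGroup F (quadMinus m F a b)) p r := by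
    rw [coe_quadMinus]
    obtain ⟨f, hf⟩ := Cfsg.Agent.H104.OrthEmb.exists_emb_minus (F := F) m a b
    exact (movA_isom hm hr hr2 he1 he h).map f hf
  rw [← coe_quadMinus]
  exact movA_pomega (data_minus hm hab) hp hr hr2 hpr h1

end orth

end Cfsg.Agent.R2.Spec.F1
end
end
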