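import Cfsg.Agent.R2.Spec.P1.TopTor_m3
import Cfsg.Agent.H160.QModel
import Cfsg.Agent.R2.Spec.X2.NonSol_m3
import Cfsg.Agent.H377.OddThree_m3
import Cfsg.Agent.R2.Spec.P1.Orth_m3
import Cfsg.Agent.R2.Spec.X6.MovTwo_m3
import Cfsg.Agent.H372.SzSpec
import Cfsg.Agent.OddCyclic.ClaimC.SzIso
import Cfsg.Agent.S1159
import Cfsg.Agent.S2238
import Cfsg.Agent.R2.Spec.E.Duel_m3
import Cfsg.Agent.R2.Spec.X4.H10.Num_m3
import Cfsg.Agent.R2.Spec.X1.TD.Spec_m3
import Cfsg.Agent.S0280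
import Cfsg.Agent.S3537
import Cfsg.Agent.S2517
import Cfsg.Agent.H902.Iso
import Cfsg.Agent.R2.Spec.X3.PairIF_m3
import Cfsg.Agent.R2.Spec.NA.Main_m3
import Cfsg.Agent.S2476
import Cfsg.Agent.H127.PSUThreeEx
import Cfsg.Agent.Prune
set_option linter.all false

section
prune_inst 0x7fb3f9f8dbbf27dfff7f7e7ff698cffc1b949fffefdff943ffe06bff8f1f039209452b8d8de030fe0ed6623410b87853fb7eeeffe06fd87ffffdbff41ffbee5ff5f7350811d080240f300fff83f0778e7f3fffffffffffffffffffffffffffbeffbfffffffff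

-- part: R2/Spec/P1/TopEven
section
prune_inst 0xc02062040c8200080000008043001806b4000000000000002800000c010008020d400000042011000804800030000040000000100000000000000000000000208002560240c1a104660001000004000000000000000000000000000000000000000000000
set_option linter.all false
open scoped Cfsg.Agent.FastGrp

-- part: R2/Spec/P1/TopTorX
section
/-!
# Team T3 (S3435), box P1b: elements of the tori in `PΩ^±_2n(q)`, `q` odd (helper15)
-/

set_option autoImplicit false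
set_option linter.unusedSectionVars false

namespace Cfsg.Agent.R2.Spec.P1.Eig

open QuadraticMap Module Polynomial Cfsg
open Cfsg.Agent.LieClassical.OrthCore Cfsg.Agent.LieClassical.OrthFinite Cfsg.Agent.LieClassical.OrthForms
  Cfsg.Agent.H160.QSpin Cfsg.Agent.H160.QDisc Cfsg.Agent.H160.QSplit Cfsg.Agent.H160.QFinal
open Cfsg.Agent.H160.QRoots Cfsg.Agent.H160.QChar Cfsg.Agent.H160.QModel Cfsg.Agent.H160.QReal

section Model

variable {F : Type*} [Field F] [Fintype F] [DecidableEq F] [DecidableEq (AlgebraicClosure F)]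

/-- the data of a torus -/
def Tor (F : Type*) [Field F] [Fintype F] [DecidableEq F] (e n : ℕ) (δ : ℤ) : Prop :=
  ∃ (Q : QuadraticForm F (Fin (2 * n) → F)) (g : (Fin (2 * n) → F) ≃ₗ[F] (Fin (2 * n) → F)), Nondeg Q ∧
    El Q (-1) g ∧ orderOf g = AN δ n (Fintype.card F) ∧
    ((dc Q : ℤ) : AlgebraicClosure F) = (-1) ^ (n * e) * (δ : AlgebraicClosure F)

theorem exists_tor (h2 : (2 : F) ≠ 0) {e : ℕ} (he : Fintype.card F = 2 * e + 1) (he1 : 1 ≤ e) {p f : ℕ} [Fact p.Prime]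
    [CharP F p] (hF : Fintype.card F = p ^ f) (hf : f ≠ 0) {n : ℕ} (hn : 3 ≤ n) {δ : ℤ}
    (hδ : δ = -1 ∨ (Odd n ∧ δ = 1)) : Tor F e n δ := by
  obtain ⟨d, s, Q, g, hQ, -, hg, ho⟩ : ∃ (d : ℤ) (s : ℤˣ), Rz F (2 * n) d s (AN δ n (Fintype.card F)) := by
    rcases hδ with rfl | ⟨-, rfl⟩
    · obtain ⟨c, s, -, -, h⟩ := rz_nonsplit (F := F) h2 (d := n) (by omega)
      exact ⟨c, s, by rw [AN_neg]; exact h⟩
    · obtain ⟨s, h⟩ := rz_split (F := F) (d := n) (by omega)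
      exact ⟨_, s, by rw [AN_one]; exact h⟩
  obtain ⟨rfl, hd⟩ := tor_sign h2 he he1 hF hf hQ hn (by simp only [_root_.Module.finrank_fintype_fun_eq_card, _root_.Fintype.card_fin]) hg hδ ho
  exact ⟨Q, g, hQ, hg, ho, hd⟩

theorem exists_tor_two (h2 : (2 : F) ≠ 0) {e : ℕ} (he : Fintype.card F = 2 * e + 1) (he1 : 1 ≤ e) {p f : ℕ}
    [Fact p.Prime] [CharP F p] (hF : Fintype.card F = p ^ f) (hf : f ≠ 0) {δ : ℤ} (hδ : δ = 1 ∨ δ = -1) :
    Tor F e 1 δ := by
  by_cases hsmall : δ = 1 ∧ e = 1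
  · obtain ⟨rfl, rfl⟩ := hsmall
    obtain ⟨s, Q, g, hQ, hdc, -⟩ := rz_split (F := F) (d := 1) one_ne_zero
    have h1 : ((dc Q : ℤ) : AlgebraicClosure F) = (-1) ^ (1 * 1) * ((1 : ℤ) : AlgebraicClosure F) := by
      rw [hdc, pow_one, qc_eq h2 he, map_neg, map_one]
      norm_num
    have h3 : dc Q = -1 := by
      rcases dc_cases hQ with h | h
      · exfalso
        rw [h] at h1
        apply two_ne_K h2
        push_cast at h1
        linear_combination h1
      · exact h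
    have h4 := el_neg h2 hQ (by simp only [_root_.Nat.reduceMul, _root_.Module.finrank_fintype_fun_eq_card, _root_.Fintype.card_fin, _root_.even_two]) (s := -1) (by rw [h3]; rfl)
    refine ⟨Q, LinearEquiv.neg F, hQ, h4, ?_, h1⟩
    rw [he, AN_one]
    show _ = 2
    refine orderOf_eq_prime ?_ ?_
    · ext v
      simp only [pow_two, _root_.Nat.reduceMul, _root_.LinearEquiv.mul_apply, _root_.LinearEquiv.coe_neg, _root_.Pi.neg_apply, _root_.id_eq, _root_.neg_neg, _root_.LinearEquiv.coe_one]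
    · intro h
      have h5 := congrArg (fun g : (Fin (2 * 1) → F) ≃ₗ[F] (Fin (2 * 1) → F) => g (fun _ => 1) 0) h
      simp only [LinearEquiv.neg_apply, LinearEquiv.coe_one, id_eq, Pi.neg_apply] at h5
      apply h2
      linear_combination -h5
  · obtain ⟨d, s, Q, g, hQ, -, hg, ho⟩ : ∃ (d : ℤ) (s : ℤˣ), Rz F (2 * 1) d s (AN δ 1 (Fintype.card F)) := by
      rcases hδ with rfl | rfl
      · obtain ⟨s, h⟩ := rz_split (F := F) (d := 1) (by omega)
        exact ⟨_, s, by rw [AN_one]; exact h⟩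
      · obtain ⟨c, s, -, -, h⟩ := rz_nonsplit (F := F) h2 (d := 1) (by omega)
        exact ⟨c, s, by rw [AN_neg]; exact h⟩
    obtain ⟨rfl, hd⟩ := tor_sign_two h2 he he1 hF hf hQ (by simp) hg hδ ho (by
      rw [ho]
      rcases hδ with rfl | rfl
      · rw [AN_one, pow_one, he]
        have : ¬ e = 1 := fun h => hsmall ⟨rfl, h⟩
        omega
      · rw [AN_neg, pow_one, he]; omega)
    exact ⟨Q, g, hQ, hg, ho, hd⟩

theorem dc_eq_of_K (h2 : (2 : F) ≠ 0) {V W : Type*} [AddCommGroup V] [Module F V] [FiniteDimensional F V]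
    [AddCommGroup W] [Module F W] [FiniteDimensional F W] {Q : QuadraticForm F V} {Q' : QuadraticForm F W}
    (hQ : Nondeg Q) (hQ' : Nondeg Q') (h : ((dc Q : ℤ) : AlgebraicClosure F) = ((dc Q' : ℤ) : AlgebraicClosure F)) :
    dc Q = dc Q' := by
  have h3 := two_ne_K h2
  rcases dc_cases hQ with h1 | h1 <;> rcases dc_cases hQ' with h1' | h1' <;> rw [h1, h1'] at h ⊢
  · exfalso
    push_cast at h
    exact h3 (by linear_combination h)
  · exfalso
    push_cast at h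
    exact h3 (by linear_combination -h)

end Model

theorem half_of_neg {F V : Type*} [Field F] [AddCommGroup V] [Module F V] (h2 : (2 : F) ≠ 0) {g : V ≃ₗ[F] V} {k a : ℕ}
    (h : g ^ k = LinearEquiv.neg F) {v : V} (hv : v ≠ 0) (ho : orderOf g = 2 * a) : ∃ j, k = a * j ∧ j % 2 = 1 := by
  have h1 : g ^ (2 * k) = 1 := by
    rw [mul_comm, pow_mul, h]
    ext v
    simp only [pow_two, _root_.LinearEquiv.mul_apply, _root_.LinearEquiv.coe_neg, _root_.Pi.neg_apply, _root_.id_eq, _root_.neg_neg, _root_.LinearEquiv.coe_one]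
  have h3 := orderOf_dvd_of_pow_eq_one h1
  rw [ho] at h3
  obtain ⟨j, rfl⟩ := Nat.dvd_of_mul_dvd_mul_left (by norm_num) h3
  refine ⟨j, rfl, ?_⟩
  by_contra hcon
  have h4 : j % 2 = 0 := by omega
  obtain ⟨i, rfl⟩ := Nat.dvd_of_mod_eq_zero h4
  have h5 : g ^ (a * (2 * i)) = 1 := by
    rw [show a * (2 * i) = (2 * a) * i by ring, pow_mul, ← ho, pow_orderOf_eq_one, one_pow]
  rw [h5] at h
  have h6 := congrArg (fun g : V ≃ₗ[F] V => g v) h
  simp only [LinearEquiv.coe_one, id_eq, LinearEquiv.neg_apply] at h6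
  have h7 : (2 : F) • v = 0 := by
    rw [two_smul]
    nth_rewrite 1 [h6]
    exact neg_add_cancel v
  rcases smul_eq_zero.1 h7 with h8 | h8
  · exact h2 h8
  · exact hv h8

section Ex

variable {F : Type*} [Field F] [Fintype F] [DecidableEq F] {ι : Type} [Fintype ι] [DecidableEq ι]
  [DecidableEq (AlgebraicClosure F)]

/-- **Elements, full class.** -/
theorem full_exists (h2 : (2 : F) ≠ 0) {e : ℕ} (he : Fintype.card F = 2 * e + 1) (he1 : 1 ≤ e) {p f : ℕ}
    [Fact p.Prime] [CharP F p] (hF : Fintype.card F = p ^ f) (hf : f ≠ 0) {Q : QuadraticForm F (ι → F)} (hQ : Nondeg Q)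
    {n : ℕ} (hn : 3 ≤ n) (hι : Fintype.card ι = 2 * n) {δ : ℤ}
    (hdc : ((dc Q : ℤ) : AlgebraicClosure F) = (-1) ^ (n * e) * (δ : AlgebraicClosure F))
    (hδ : δ = -1 ∨ (Odd n ∧ δ = 1)) :
    ∃ x : POmega F ⇑Q, orderOf x = AN δ n (Fintype.card F) / Nat.gcd 4 (AN δ n (Fintype.card F)) := by
  obtain ⟨Q₁, g₁, hQ₁, hg₁, ho₁, hd₁⟩ := exists_tor h2 he he1 hF hf hn hδ
  have hfin : finrank F (ι → F) = 2 * n := by rw [Module.finrank_fintype_fun_eq_card, hι]
  obtain ⟨E, hE⟩ := exists_iso h2 hQ₁ hQ (by rw [hfin]; simp only [_root_.Module.finrank_fintype_fun_eq_card, _root_.Fintype.card_fin]) (dc_eq_of_K h2 hQ₁ hQ (by rw [hd₁, hdc]))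
  have hel := (hg₁.cj hE).pow 2
  rw [neg_one_sq] at hel
  obtain ⟨x, hx⟩ := exists_pomega h2 hQ (by omega) hel
  have hev := AN_even (δ := δ) (m := n) (q := Fintype.card F) (by omega)
  have hord : orderOf (cj E g₁) = 2 * (AN δ n (Fintype.card F) / 2) := by rw [orderOf_cj, ho₁, hev]
  have hA2 := AN_pos (δ := δ) (m := n) (q := Fintype.card F) (by omega) (by omega)
  generalize hA : AN δ n (Fintype.card F) = A at hev hord hA2 ⊢
  have hnz : ∃ v : ι → F, v ≠ 0 := by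
    have : Nontrivial (ι → F) := Module.nontrivial_of_finrank_pos (R := F) (by omega)
    exact exists_ne 0
  obtain ⟨v, hv⟩ := hnz
  have hfinX : Finite (POmega F ⇑Q) := inferInstance
  refine exists_of_dvd (x := x) ?_
  have hg4 : (Nat.gcd 4 A = 4 ∧ 4 ∣ A) ∨ (Nat.gcd 4 A = 2 ∧ ¬ 4 ∣ A) := by
    by_cases h4 : 4 ∣ A
    · exact Or.inl ⟨Nat.gcd_eq_left h4, h4⟩
    · right
      refine ⟨?_, h4⟩
      have h5 : Nat.gcd 4 A ∣ 4 := Nat.gcd_dvd_left _ _
      have h6 : 2 ∣ Nat.gcd 4 A := Nat.dvd_gcd (by norm_num) ⟨A / 2, hev.symm⟩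
      have h7 := Nat.le_of_dvd (by norm_num) h5
      have h8 : Nat.gcd 4 A ≠ 4 := fun h => h4 (h ▸ Nat.gcd_dvd_right _ _)
      interval_cases Nat.gcd 4 A <;> (clear * - h5 h6 h8; omega)
  have hT : A / Nat.gcd 4 A ∣ A / 2 := by
    rcases hg4 with ⟨h5, h6⟩ | ⟨h5, -⟩
    · rw [h5]
      obtain ⟨c, rfl⟩ := h6
      exact ⟨2, by omega⟩
    · rw [h5]
  rcases hx _ (pow_orderOf_eq_one x) with h3 | h3
  · rw [← pow_mul] at h3
    have h4 := orderOf_dvd_of_pow_eq_one h3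
    rw [hord] at h4
    exact hT.trans (Nat.dvd_of_mul_dvd_mul_left (by norm_num) h4)
  · rw [← pow_mul] at h3
    obtain ⟨j, hj, hj1⟩ := half_of_neg h2 h3 hv hord
    rcases hg4 with ⟨h5, h6⟩ | ⟨h5, h6⟩
    · rw [h5]
      obtain ⟨c, rfl⟩ := h6
      rw [Nat.mul_div_cancel_left _ (by norm_num)]
      refine ⟨j, ?_⟩
      have h7 : 4 * c / 2 = 2 * c := by omega
      rw [h7, mul_assoc] at hj
      omega
    · exfalso
      have h7 : (A / 2) % 2 = 1 := by omega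
      have h8 : (A / 2 * j) % 2 = 1 := by rw [Nat.mul_mod, h7, hj1]
      omega

/-- **Elements, the class of a hyperplane.** -/
theorem part_exists (h2 : (2 : F) ≠ 0) {e : ℕ} (he : Fintype.card F = 2 * e + 1) (he1 : 1 ≤ e) {p f : ℕ}
    [Fact p.Prime] [CharP F p] (hF : Fintype.card F = p ^ f) (hf : f ≠ 0) {Q : QuadraticForm F (ι → F)} (hQ : Nondeg Q)
    {n : ℕ} (hn : 4 ≤ n) (hι : Fintype.card ι = 2 * n) {ε : ℤ} (hε : ε = 1 ∨ ε = -1)
    (hdc : ((dc Q : ℤ) : AlgebraicClosure F) = (-1) ^ (n * e) * (ε : AlgebraicClosure F)) {δ : ℤ}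
    (hδ : δ = -1 ∨ (Odd (n - 1) ∧ δ = 1)) {T : ℕ}
    (hT : TC (AN δ (n - 1) (Fintype.card F) / 2) (AN (δ * ε) 1 (Fintype.card F) / 2) T) :
    ∃ x : POmega F ⇑Q, orderOf x = T := by
  obtain ⟨m, rfl⟩ : ∃ m, n = m + 1 := ⟨n - 1, by omega⟩
  rw [Nat.add_sub_cancel] at hδ hT
  have hδ' : δ = 1 ∨ δ = -1 := by rcases hδ with h | ⟨-, h⟩ <;> simp [h]
  obtain ⟨Q₁, g₁, hQ₁, hg₁, ho₁, hd₁⟩ := exists_tor h2 he he1 hF hf (n := m) (by omega) hδ
  obtain ⟨Q₂, g₂, hQ₂, hg₂, ho₂, hd₂⟩ := exists_tor_two h2 he he1 hF hf (δ := δ * ε) (by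
    rcases hδ' with h | h <;> rcases hε with h' | h' <;> rw [h, h'] <;> norm_num)
  have hfin : finrank F (ι → F) = 2 * (m + 1) := by rw [Module.finrank_fintype_fun_eq_card, hι]
  have hQp := nondeg_prod hQ₁ hQ₂
  have hδK : (δ : AlgebraicClosure F) * δ = 1 := by rcases hδ' with h | h <;> rw [h] <;> norm_num
  obtain ⟨E, hE⟩ := exists_iso h2 hQp hQ (by rw [hfin, finrank_prod]; simp only [_root_.Module.finrank_fintype_fun_eq_card, _root_.Fintype.card_fin, _root_.Nat.reduceMul]; ring) (dc_eq_of_K h2 hQp hQ (by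
    rw [dc_prod, Int.cast_mul, hd₁, hd₂, hdc, Int.cast_mul, add_mul, pow_add]
    linear_combination (-1) ^ (m * e) * (-1) ^ (1 * e) * (ε : AlgebraicClosure F) * hδK))
  have hel := (El.pr h2 hQ₁ hQ₂ hg₁ hg₂).cj hE
  rw [neg_one_mul, neg_neg] at hel
  obtain ⟨x, hx⟩ := exists_pomega h2 hQ (by omega) hel
  have hqo : Fintype.card F % 2 = 1 := by omega
  have hevA := AN_even (δ := δ) (m := m) hqo
  have hevB := AN_even (δ := δ * ε) (m := 1) hqo
  have hA2 := AN_pos (δ := δ) (m := m) (q := Fintype.card F) (by omega) (by omega)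
  rw [← hevA] at ho₁
  rw [← hevB] at ho₂
  refine exists_of_dvd (x := x) ?_
  have key : ∃ j l, orderOf x = AN δ m (Fintype.card F) / 2 * j ∧ orderOf x = AN (δ * ε) 1 (Fintype.card F) / 2 * l ∧
      j % 2 = l % 2 := by
    rcases hx _ (pow_orderOf_eq_one x) with h3 | h3
    · rw [← cj_pow] at h3
      have h4 : pr g₁ g₂ ^ orderOf x = 1 := by
        have h5 := congrArg orderOf h3
        rw [orderOf_cj, orderOf_one, orderOf_eq_one_iff] at h5
        exact h5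
      rw [pr_pow] at h4
      have h5 := orderOf_pr (g₁ ^ orderOf x) (g₂ ^ orderOf x)
      rw [h4, orderOf_one] at h5
      have h6 := Nat.dvd_lcm_left (orderOf (g₁ ^ orderOf x)) (orderOf (g₂ ^ orderOf x))
      have h7 := Nat.dvd_lcm_right (orderOf (g₁ ^ orderOf x)) (orderOf (g₂ ^ orderOf x))
      rw [← h5, Nat.dvd_one] at h6 h7
      rw [orderOf_eq_one_iff] at h6 h7
      have h8 := orderOf_dvd_of_pow_eq_one h6
      have h9 := orderOf_dvd_of_pow_eq_one h7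
      rw [ho₁] at h8
      rw [ho₂] at h9
      obtain ⟨j, hj⟩ := h8
      obtain ⟨l, hl⟩ := h9
      exact ⟨2 * j, 2 * l, by rw [hj]; ring, by rw [hl]; ring, by omega⟩
    · rw [← cj_pow] at h3
      have h4 : pr g₁ g₂ ^ orderOf x = LinearEquiv.neg F := by
        rw [← cj_neg E] at h3
        exact (cjEquiv E).injective h3
      rw [pr_pow, ← pr_neg] at h4
      have h5 := prHom_injective (F := F) (a₁ := (g₁ ^ orderOf x, g₂ ^ orderOf x))
        (a₂ := (LinearEquiv.neg F, LinearEquiv.neg F)) h4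
      rw [Prod.mk.injEq] at h5
      have h1 : (fun _ => 1 : Fin (2 * m) → F) ≠ 0 := by
        intro h
        exact one_ne_zero (congrFun h ⟨0, by omega⟩)
      have h1' : (fun _ => 1 : Fin (2 * 1) → F) ≠ 0 := by
        intro h
        exact one_ne_zero (congrFun h ⟨0, by omega⟩)
      obtain ⟨j, hj, hj1⟩ := half_of_neg h2 h5.1 h1 ho₁
      obtain ⟨l, hl, hl1⟩ := half_of_neg h2 h5.2 h1' ho₂
      exact ⟨j, l, hj, hl, by rw [hj1, hl1]⟩
  obtain ⟨j, l, hj, hl, hjl⟩ := key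
  exact hT.lb (by omega) hj hl hjl

end Ex

end Cfsg.Agent.R2.Spec.P1.Eig
end

-- part: R2/Spec/P1/TopEven
section
/-!
# Team T3 (S3435), box P1b: the exact top tori of `PΩ^±_2n(q)`, `q` odd (helper15)
-/

set_option autoImplicit false
set_option linter.unusedSectionVars false

namespace Cfsg.Agent.R2.Spec.P1

open QuadraticMap Module Polynomial Cfsg Cfsg.Agent.H426.LieFam Cfsg.Agent.R2.Spec
open Cfsg.Agent.H160.QRoots Cfsg.Agent.H160.QChar Cfsg.Agent.R2.Spec.P1.Eig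
open Cfsg.Agent.LieClassical.OrthCore (Nondeg)
open Cfsg.Agent.LieClassical.OrthForms
open Cfsg.Agent.H160.QSpin Cfsg.Agent.H160.QDisc Cfsg.Agent.H160.QSemi Cfsg.Agent.H160.QFinal

universe u

section Num

theorem AN_cast {δ : ℤ} {m q : ℕ} (hδ : δ = 1 ∨ δ = -1) (hq : 1 ≤ q) : ((AN δ m q : ℕ) : ℤ) = (q : ℤ) ^ m - δ := by
  rcases hδ with rfl | rfl
  · rw [AN_one, Nat.cast_sub (Nat.one_le_pow _ _ hq)]
    push_cast
    ring
  · rw [AN_neg]
    push_cast
    ring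

theorem AN_half {δ : ℤ} {m q : ℕ} (hδ : δ = 1 ∨ δ = -1) (hq : q % 2 = 1) :
    2 * ((AN δ m q / 2 : ℕ) : ℤ) = (q : ℤ) ^ m - δ := by
  rw [← AN_cast hδ (by omega)]
  exact_mod_cast AN_even (δ := δ) (m := m) hq

/-- the quotient is odd -/
theorem tc_div {q m : ℕ} {δ : ℤ} (hδ : δ = 1 ∨ δ = -1) (hq : q % 2 = 1) (hq3 : 3 ≤ q) (hm : Odd m) :
    TC (AN δ m q / 2) (AN δ 1 q / 2) (AN δ m q / 2) := by
  left
  have ha := AN_half (m := m) hδ hq
  have hb := AN_half (m := 1) hδ hq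
  have hq1 : 1 ≤ q := by omega
  rw [pow_one] at hb
  obtain ⟨a, hA⟩ : ∃ a, AN δ m q / 2 = a := ⟨_, rfl⟩
  obtain ⟨b, hB⟩ : ∃ b, AN δ 1 q / 2 = b := ⟨_, rfl⟩
  rw [hA] at ha
  rw [hB] at hb
  rw [hA, hB]
  have hδm : δ ^ m = δ := by
    rcases hδ with rfl | rfl
    · exact one_pow _
    · exact hm.neg_one_pow
  have h1 := (Commute.all (q : ℤ) δ).geom_sum₂_mul m
  rw [hδm, ← ha, ← hb] at h1
  obtain ⟨c, hc⟩ : ∃ c, (∑ i ∈ Finset.range m, (q : ℤ) ^ i * δ ^ (m - 1 - i)) = c := ⟨_, rfl⟩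
  have hodd : Odd c := by
    rw [← hc, ← ZMod.intCast_eq_one_iff_odd]
    have h2 : ∀ i ∈ Finset.range m, (((q : ℤ) ^ i * δ ^ (m - 1 - i) : ℤ) : ZMod 2) = 1 := by
      intro i _
      rw [ZMod.intCast_eq_one_iff_odd]
      refine Odd.mul (Odd.pow ?_) (Odd.pow ?_)
      · exact_mod_cast Nat.odd_iff.2 hq
      · rcases hδ with rfl | rfl <;> decide
    rw [Int.cast_sum, Finset.sum_congr rfl h2, Finset.sum_const, Finset.card_range, nsmul_one]
    rw [ZMod.natCast_eq_one_iff_odd]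
    exact hm
  rw [hc] at h1
  have hb0 : (0 : ℤ) < b := by
    have : (3 : ℤ) ≤ q := by exact_mod_cast hq3
    rcases hδ with rfl | rfl <;> (clear * - hq hq3 hb hB; omega)
  have h2 : (a : ℤ) = b * c := by linarith only [h1]
  have hc0 : 0 ≤ c := by
    by_contra hcon
    have h3 : (b : ℤ) * c < 0 := mul_neg_of_pos_of_neg hb0 (by omega)
    omega
  obtain ⟨k, rfl⟩ := Int.eq_ofNat_of_zero_le hc0
  exact ⟨k, by exact_mod_cast hodd, by exact_mod_cast h2, rfl⟩

/-- the coprime case -/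
theorem tc_cop {q m N : ℕ} {δ ε : ℤ} (hδ : δ = 1 ∨ δ = -1) (hε : ε = 1 ∨ ε = -1) (hq : q % 2 = 1)
    (hs : (δ * ε) ^ m = -δ) (hN : (N : ℤ) = (q : ℤ) ^ (m + 1) - ε) :
    TC (AN δ m q / 2) (AN (δ * ε) 1 q / 2) (AN δ m q * AN (δ * ε) 1 q / Nat.gcd 4 N) := by
  have hδε : δ * ε = 1 ∨ δ * ε = -1 := by
    rcases hδ with h | h <;> rcases hε with h' | h' <;> rw [h, h'] <;> norm_num
  have ha := AN_half (m := m) hδ hq
  have hb := AN_half (m := 1) hδε hq
  have hevA := AN_even (δ := δ) (m := m) hq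
  have hevB := AN_even (δ := δ * ε) (m := 1) hq
  rw [pow_one] at hb
  obtain ⟨a, hA⟩ : ∃ a, AN δ m q / 2 = a := ⟨_, rfl⟩
  obtain ⟨b, hB⟩ : ∃ b, AN (δ * ε) 1 q / 2 = b := ⟨_, rfl⟩
  rw [hA] at ha hevA
  rw [hB] at hb hevB
  rw [hA, hB, ← hevA, ← hevB]
  have hδ2 : δ * δ = 1 := by rcases hδ with h | h <;> rw [h] <;> norm_num
  have hε2 : ε * ε = 1 := by rcases hε with h | h <;> rw [h] <;> norm_num
  -- coprimality
  have hcop : Nat.Coprime a b := by
    have h1 : (q : ℤ) - δ * ε ∣ (q : ℤ) ^ m - (δ * ε) ^ m := sub_dvd_pow_sub_pow _ _ _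
    rw [← hb, hs] at h1
    have h2 : ((q : ℤ) ^ m - -δ) = 2 * (a + δ) := by linear_combination -ha
    rw [h2] at h1
    have h3 : (b : ℤ) ∣ a + δ := Int.dvd_of_mul_dvd_mul_left (by norm_num : (2 : ℤ) ≠ 0) h1
    have h4 : ((Nat.gcd a b : ℕ) : ℤ) ∣ δ := by
      have h5 : ((Nat.gcd a b : ℕ) : ℤ) ∣ a + δ := (Int.natCast_dvd_natCast.2 (Nat.gcd_dvd_right a b)).trans h3
      exact (Int.dvd_iff_dvd_of_dvd_add h5).1 (Int.natCast_dvd_natCast.2 (Nat.gcd_dvd_left a b))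
    have h6 : ((Nat.gcd a b : ℕ) : ℤ) ∣ 1 := by
      rcases hδ with h | h
      · rwa [h] at h4
      · rw [h] at h4; exact (dvd_neg.1 h4)
    exact Nat.dvd_one.1 (by exact_mod_cast h6)
  -- the gcd
  have hN4 : (N : ℤ) = 4 * (a * b) + 2 * (δ * (a * ε + b)) := by
    have h1 : (q : ℤ) ^ m = 2 * a + δ := by linear_combination -ha
    have h2 : (q : ℤ) = 2 * b + δ * ε := by linear_combination -hb
    rw [hN, pow_succ, h1, h2]
    linear_combination (ε * hδ2)
  have hpar : ((a : ℤ) * ε + b) % 2 = ((a : ℤ) + b) % 2 := by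
    rcases hε with h | h <;> rw [h] <;> (clear * -; omega)
  have hN2 : 4 ∣ N ↔ (a + b) % 2 = 0 := by
    rcases hδ with h | h <;> rw [h] at hN4 <;> (clear * - hN4 hpar; omega)
  have hNe : 2 ∣ N := by omega
  have hnot : ¬ (a % 2 = 0 ∧ b % 2 = 0) := by
    rintro ⟨h6, h7⟩
    have h8 : 2 ∣ Nat.gcd a b := Nat.dvd_gcd (Nat.dvd_of_mod_eq_zero h6) (Nat.dvd_of_mod_eq_zero h7)
    rw [hcop] at h8
    omega
  right
  by_cases h4 : 4 ∣ N
  · left
    have h5 := hN2.1 h4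
    refine ⟨hcop, Nat.odd_iff.2 (by (clear * - hnot h5; omega)), Nat.odd_iff.2 (by (clear * - hnot h5; omega)), ?_⟩
    rw [Nat.gcd_eq_left h4, show 2 * a * (2 * b) = 4 * (a * b) by ring, Nat.mul_div_cancel_left _ (by norm_num)]
  · right
    refine ⟨hcop, ?_, ?_⟩
    · rintro ⟨h5, h6⟩
      rw [Nat.odd_iff] at h5 h6
      exact h4 (hN2.2 (by (clear * - h5 h6; omega)))
    · have h5 : Nat.gcd 4 N ∣ 4 := Nat.gcd_dvd_left _ _
      have h6 : 2 ∣ Nat.gcd 4 N := Nat.dvd_gcd (by norm_num) hNe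
      have h7 := Nat.le_of_dvd (by norm_num) h5
      have h8 : Nat.gcd 4 N ≠ 4 := fun h => h4 (h ▸ Nat.gcd_dvd_right _ _)
      have h9 : Nat.gcd 4 N = 2 := by
        interval_cases Nat.gcd 4 N <;> (clear * - h5 h6 h8; omega)
      rw [h9, show 2 * a * (2 * b) = 2 * (2 * (a * b)) by ring, Nat.mul_div_cancel_left _ (by norm_num)]

end Num

section Frm

variable {F : Type*} [Field F] [Fintype F] [DecidableEq F]

theorem dc_plus' (m : ℕ) : dc (plusForm m F) = quadraticChar F (-1) ^ m := by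
  have he : IsIso (hyp F m) (plusForm m F) (LinearEquiv.sumArrowLequivProdArrow (Fin m) (Fin m) F F).symm := by
    rintro ⟨x, y⟩
    rw [coe_plusForm, quadFormPlus_apply]
    rfl
  rw [dc_iso he, dc_hyp]

theorem dc_minus' (h2 : (2 : F) ≠ 0) (m : ℕ) {a b : F}
    (hab : ∀ z₁ z₂ : F, z₁ ^ 2 + a * z₁ * z₂ + b * z₂ ^ 2 = 0 → z₁ = 0 ∧ z₂ = 0) :
    dc (minusForm m F a b) = - quadraticChar F (-1) ^ (m + 1) := by
  let e : (((Fin m → F) × (Fin m → F)) × (Fin 2 → F)) ≃ₗ[F] ((Fin m ⊕ Fin m) ⊕ Fin 2 → F) :=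
    ((LinearEquiv.sumArrowLequivProdArrow (Fin m) (Fin m) F F).symm.prodCongr (LinearEquiv.refl F _)).trans
      (LinearEquiv.sumArrowLequivProdArrow (Fin m ⊕ Fin m) (Fin 2) F F).symm
  have he : IsIso ((hyp F m).prod (binF a b)) (minusForm m F a b) e := by
    rintro ⟨⟨x, y⟩, z⟩
    rw [coe_minusForm, quadFormMinus_apply, QuadraticMap.prod_apply, binF_apply]
    rfl
  rw [dc_iso he, dc_prod, dc_hyp, dc_binF]
  have h3 : quadraticChar F (4 * b - a ^ 2) = quadraticChar F (-1) * quadraticChar F (a ^ 2 - 4 * b) := by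
    rw [← map_mul]
    congr 1
    ring
  rw [h3, minus_disc h2 hab]
  ring

theorem dc_plusK (h2 : (2 : F) ≠ 0) {e : ℕ} (he : Fintype.card F = 2 * e + 1) (m : ℕ) :
    ((dc (plusForm m F) : ℤ) : AlgebraicClosure F) = (-1) ^ (m * e) * ((1 : ℤ) : AlgebraicClosure F) := by
  rw [dc_plus', Int.cast_pow, qc_eq h2 he, map_neg, map_one, ← pow_mul, mul_comm e m, Int.cast_one, mul_one]

theorem dc_minusK (h2 : (2 : F) ≠ 0) {e : ℕ} (he : Fintype.card F = 2 * e + 1) (m : ℕ) {a b : F}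
    (hab : ∀ z₁ z₂ : F, z₁ ^ 2 + a * z₁ * z₂ + b * z₂ ^ 2 = 0 → z₁ = 0 ∧ z₂ = 0) :
    ((dc (minusForm m F a b) : ℤ) : AlgebraicClosure F) =
      (-1) ^ ((m + 1) * e) * ((-1 : ℤ) : AlgebraicClosure F) := by
  rw [dc_minus' h2 m hab, Int.cast_neg, Int.cast_pow, qc_eq h2 he, map_neg, map_one, ← pow_mul, mul_comm e (m + 1),
    Int.cast_neg, Int.cast_one, mul_neg_one]

end Frm

/-- the exponents of the classes of a hyperplane -/
theorem ttor_plus {q n i : ℕ} (hn : 4 ≤ n) (hq : q % 2 = 1) (hq3 : 3 ≤ q) {δ : ℤ}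
    (hi : (i = 2 * (n - 1) ∧ δ = -1) ∨ (i = n - 1 ∧ Odd (n - 1) ∧ δ = 1)) :
    TC (AN δ (n - 1) q / 2) (AN (δ * 1) 1 q / 2) (ttor (.oplus n) q i) := by
  have hg : Nat.gcd 2 (q - 1) = 2 := Nat.gcd_eq_left ⟨(q - 1) / 2, by omega⟩
  rcases hi with ⟨h1, rfl⟩ | ⟨h1, h2, rfl⟩
  · rcases Nat.even_or_odd (n - 1) with h3 | h3
    · have h4 : n % 2 = 1 := by rw [Nat.even_iff] at h3; omega
      have h5 : ttor (.oplus n) q i = AN (-1) (n - 1) q * AN (-1 * 1) 1 q / Nat.gcd 4 (q ^ n - 1) := by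
        rw [ttor, if_neg (by omega), if_neg (by omega), if_neg (by omega), AN_neg, mul_one, AN_neg, pow_one]
      rw [h5]
      refine tc_cop (Or.inr rfl) (Or.inl rfl) hq ?_ ?_
      · rw [mul_one, h3.neg_one_pow, neg_neg]
      · rw [Nat.sub_add_cancel (by omega), Nat.cast_sub (Nat.one_le_pow _ _ (by omega))]
        push_cast
        ring
    · have h4 : n % 2 = 0 := by rw [Nat.odd_iff] at h3; omega
      have h5 : ttor (.oplus n) q i = AN (-1) (n - 1) q / 2 := by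
        rw [ttor, if_neg (by omega), if_neg (by omega), if_pos h4, AN_neg, hg]
      rw [h5, mul_one]
      exact tc_div (Or.inr rfl) hq hq3 h3
  · have h5 : ttor (.oplus n) q i = AN 1 (n - 1) q / 2 := by
      rw [ttor, if_neg (by omega), if_pos h1, AN_one, hg]
    rw [h5, mul_one]
    exact tc_div (Or.inl rfl) hq hq3 h2

theorem ttor_minus {q n i : ℕ} (hn : 4 ≤ n) (hq : q % 2 = 1) {δ : ℤ}
    (hi : (i = 2 * (n - 1) ∧ δ = -1) ∨ (i = n - 1 ∧ Odd (n - 1) ∧ δ = 1)) :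
    TC (AN δ (n - 1) q / 2) (AN (δ * -1) 1 q / 2) (ttor (.ominus n) q i) := by
  rcases hi with ⟨h1, rfl⟩ | ⟨h1, h2, rfl⟩
  · have h5 : ttor (.ominus n) q i = AN (-1) (n - 1) q * AN (-1 * -1) 1 q / Nat.gcd 4 (q ^ n + 1) := by
      rw [ttor, if_neg (by omega), if_neg (by omega), AN_neg, show (-1 : ℤ) * -1 = 1 by norm_num, AN_one, pow_one]
    rw [h5]
    refine tc_cop (Or.inr rfl) (Or.inr rfl) hq ?_ ?_
    · norm_num
    · rw [Nat.sub_add_cancel (by omega)]
      push_cast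
      ring
  · have h5 : ttor (.ominus n) q i = AN 1 (n - 1) q * AN (1 * -1) 1 q / Nat.gcd 4 (q ^ n + 1) := by
      rw [ttor, if_neg (by omega), if_pos h1, AN_one, show (1 : ℤ) * -1 = -1 by norm_num, AN_neg, pow_one]
    rw [h5]
    refine tc_cop (Or.inl rfl) (Or.inr rfl) hq ?_ ?_
    · rw [one_mul, h2.neg_one_pow]
    · rw [Nat.sub_add_cancel (by omega)]
      push_cast
      ring

end Cfsg.Agent.R2.Spec.P1
end
end

-- part: R2/Spec/P1/TopSpTwo
section
set_option linter.all false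
open scoped Cfsg.Agent.FastGrp

-- part: R2/Spec/P1/TopLinAll
section
/-!
# Team T3 (S3435), box P1b: the exact top tori of `PSL_n(q)`, `PSU_n(q)`, every `q` (helper15)
-/

set_option autoImplicit false

namespace Cfsg.Agent.R2.Spec.P1

open Finset Function Cfsg Cfsg.Agent.H426.LieFam Cfsg.Agent.R2.Spec Cfsg.Agent.R2.Spec.X7
open Cfsg.Agent.H437.Win (pow_scalar scalar_of_map roots_ne_zero count_stable sg' sg'_injective)

universe u

theorem dvd_ua_all {s : ℤ} {t : ℕ} (ht : (s - 1).natAbs = t) (m : ℕ) : t ∣ ua s m := by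
  rw [ua_eq, ht]
  exact dvd_mul_left _ _

/-- an element whose order is divisible by a prime of the class `n` -/
theorem top_mat_all {F : Type*} [Field F] {K : Type*} [Field K] [IsAlgClosed K] [Algebra F K] {s : ℤ} {p t n : ℕ}
    [Fact p.Prime] [CharP K p] (ht : (s - 1).natAbs = t) (hn : 1 ≤ n)
    (A : Matrix (Fin n) (Fin n) F) (hdetA : A.det = 1) (hinj : Injective (zp s : K → K))
    [DecidableEq K]
    (hcs : ∀ x, (A.map (algebraMap F K)).charpoly.roots.count (zp s x) = (A.map (algebraMap F K)).charpoly.roots.count x)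
    {r : ℕ} (hr : r.Prime) (hrp : r ≠ p) (hra : ∀ a, 1 ≤ a → a < n → ¬ r ∣ ua s a)
    (hA : ∀ E, (∃ z : F, A ^ E = z • (1 : Matrix (Fin n) (Fin n) F)) → r ∣ E) :
    ∃ E, (∃ z : F, A ^ E = z • (1 : Matrix (Fin n) (Fin n) F)) ∧ E * (Nat.gcd n t * t) = ua s n := by
  set Y : Matrix (Fin n) (Fin n) K := A.map (algebraMap F K) with hY
  have hdet : Y.det = 1 := by
    rw [hY, show A.map (algebraMap F K) = (algebraMap F K).mapMatrix A from rfl, ← RingHom.map_det, hdetA, map_one]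
  set Λ := Y.charpoly.roots.toFinset with hΛ
  have hmem : ∀ x, x ∈ Λ ↔ 1 ≤ Y.charpoly.roots.count x := by
    intro x
    rw [hΛ, Multiset.mem_toFinset, Multiset.one_le_count_iff_mem]
  have hst : Stab s Λ := by
    refine ⟨fun x hx => roots_ne_zero hdet (Multiset.mem_toFinset.1 hx), fun x hx => ?_⟩
    rw [hmem] at hx ⊢
    rw [hcs]
    exact hx
  have hsum : ∑ x ∈ Λ, Y.charpoly.roots.count x = n := by
    rw [hΛ, Multiset.toFinset_sum_count_eq, ← (IsAlgClosed.splits Y.charpoly).natDegree_eq_card_roots,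
      Matrix.charpoly_natDegree_eq_dim, Fintype.card_fin]
  have hprod : ∏ x ∈ Λ, x ^ Y.charpoly.roots.count x = 1 := by
    rw [hΛ, ← Finset.prod_multiset_count, ← Matrix.det_eq_prod_roots_charpoly, hdet]
  have key : ∀ k j : ℕ, (∃ z, ∀ x ∈ Λ, x ^ k = z) → (∀ x ∈ Λ, Y.charpoly.roots.count x ≤ p ^ j) →
      ∃ z : F, A ^ (k * p ^ j) = z • (1 : Matrix (Fin n) (Fin n) F) := by
    rintro k j ⟨z, hz⟩ hc
    exact scalar_of_map A hn (pow_scalar Y (k := k) (s := j) (z := z)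
      (fun x hx => hz x (Multiset.mem_toFinset.2 hx)) (fun x hx => hc x (Multiset.mem_toFinset.2 hx)))
  have hp := (Fact.out : p.Prime)
  have hcount : ∀ x ∈ Λ, Y.charpoly.roots.count x ≤ n := by
    intro x hx
    exact (Finset.single_le_sum (f := fun x => Y.charpoly.roots.count x) (fun _ _ => Nat.zero_le _) hx).trans hsum.le
  -- an eigenvalue of period `n`
  obtain ⟨x, hx, hxn⟩ : ∃ x ∈ Λ, n ≤ minimalPeriod (zp s) x := by
    by_contra hcon
    push Not at hcon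
    have h1 : ∀ x ∈ Λ, x ^ (∏ a ∈ Finset.Ico 1 n, ua s a) = 1 := by
      intro x hx
      have h2 := pow_orb (hst.ne x hx) (hst.self_mem_orb hinj hx)
      obtain ⟨k, hk⟩ := Finset.dvd_prod_of_mem (fun a => ua s a)
        (Finset.mem_Ico.2 ⟨hst.period hinj hx, hcon x hx⟩)
      rw [hk, pow_mul, h2, one_pow]
    have h2 := hA _ (key _ n ⟨1, h1⟩ fun x hx => (hcount x hx).trans (Nat.lt_pow_self hp.one_lt).le)
    rcases (hr.dvd_mul).1 h2 with h3 | h3
    · obtain ⟨a, ha, h4⟩ := (Prime.dvd_finsetProd_iff (Nat.prime_iff.1 hr) _).1 h3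
      rw [Finset.mem_Ico] at ha
      exact hra a ha.1 ha.2 h4
    · exact hrp ((Nat.prime_dvd_prime_iff_eq hr hp).1 (hr.dvd_of_dvd_pow h3))
  have hcard : Λ.card ≤ n := by
    refine le_trans ?_ hsum.le
    rw [Finset.card_eq_sum_ones]
    exact Finset.sum_le_sum fun x hx => (hmem x).1 hx
  have hsub := hst.orb_subset hx
  have horb : (orb s x).card ≤ Λ.card := Finset.card_le_card hsub
  rw [card_orb] at horb
  have hper : minimalPeriod (zp s) x = n := le_antisymm (horb.trans hcard) hxn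
  have hΛx : Λ = orb s x := (Finset.eq_of_subset_of_card_le hsub (by rw [card_orb, hper]; exact hcard)).symm
  have hcardn : Λ.card = n := by rw [hΛx, card_orb, hper]
  have hm : ∀ y ∈ Λ, Y.charpoly.roots.count y = 1 := by
    have h1 : ∑ x ∈ Λ, 1 = ∑ x ∈ Λ, Y.charpoly.roots.count x := by
      rw [hsum, ← Finset.card_eq_sum_ones, hcardn]
    intro y hy
    exact ((Finset.sum_eq_sum_iff_of_le (fun x hx => (hmem x).1 hx)).1 h1 y hy).symm
  have hx0 := hst.ne x hx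
  have hcn : Nat.gcd n t ∣ n := Nat.gcd_dvd_left _ _
  obtain ⟨d, hd⟩ := Nat.gcd_dvd_right n t
  set c := Nat.gcd n t with hc
  obtain ⟨d', hd'⟩ : ∃ d' : ℤ, s - 1 = c * d' := by
    have h1 : ((s - 1).natAbs : ℤ) = (c * d : ℕ) := by rw [ht, ← hd]
    rcases Int.natAbs_eq (s - 1) with h2 | h2
    · refine ⟨d, ?_⟩
      rw [h2, h1]; push_cast; ring
    · refine ⟨-d, ?_⟩
      rw [h2, h1]; push_cast; ring
  have hdvd : ∀ X : ℤ, (s - 1) ∣ X - n → (c : ℤ) ∣ X := by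
    intro X hX
    have h1 : (c : ℤ) ∣ X - n := (Dvd.intro _ hd'.symm).trans hX
    have h2 : (c : ℤ) ∣ n := by exact_mod_cast hcn
    have := dvd_add h1 h2
    rwa [sub_add_cancel] at this
  obtain ⟨e, he⟩ := hdvd (es s n) (es_modEq s n)
  have h1 : x ^ es s n = 1 := by
    have hpo := prod_orb (s := s) hx0
    rw [hper, ← hΛx] at hpo
    rw [← hpo, ← hprod]
    apply Finset.prod_congr rfl
    intro z hz
    rw [hm z hz, pow_one]
  have h2 : (x ^ e) ^ (s - 1) = 1 := by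
    rw [← zpow_mul, hd', ← mul_assoc, mul_comm e, ← he, zpow_mul, h1, one_zpow]
  have h3 : ∀ t ∈ Λ, t ^ e = x ^ e := by
    intro t ht
    rw [hΛx] at ht
    obtain ⟨i, -, rfl⟩ := mem_orb.1 ht
    exact iter_zpow_eq hx0 h2 i
  have h4 := key e.natAbs 0 (pow_natAbs_of_zpow h3) (fun t ht => by rw [hm t ht]; simp)
  rw [pow_zero, mul_one] at h4
  refine ⟨e.natAbs, h4, ?_⟩
  rw [ua_eq, he, Int.natAbs_mul, Int.natAbs_natCast, ht]
  ring

/-- **The upper bounds.** -/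
theorem HasMat.ub_all {F : Type*} [Field F] [Fintype F] {s : ℤ} {p n N r : ℕ} [Fact p.Prime] [CharP F p]
    (h : HasMat F (AlgebraicClosure F) s n N) {t : ℕ} (ht : (s - 1).natAbs = t) (hr : r.Prime) (hrp : r ≠ p)
    (hrN : r ∣ N) (h3 : 3 ≤ orderOf ((s : ℤ) : ZMod r)) :
    (orderOf ((s : ℤ) : ZMod r) = n → ∃ E, N ∣ E ∧ E * (Nat.gcd n t * t) = ua s n) ∧
    (orderOf ((s : ℤ) : ZMod r) + 1 = n → ∃ E, N ∣ E ∧ E * Nat.gcd n t = ua s (n - 1)) := by
  classical
  have hCP : CharP (AlgebraicClosure F) p := charP_of_injective_algebraMap (algebraMap F (AlgebraicClosure F)).injective p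
  obtain ⟨hinj, A, hdet, hcs, hA⟩ := h
  constructor
  · intro ho
    obtain ⟨E, hz, hE⟩ := top_mat_all ht (by omega) A hdet hinj hcs hr hrp (fun a ha1 ha2 hd => by
      rw [dvd_ua_iff, ho] at hd
      have := Nat.le_of_dvd ha1 hd
      omega) (fun E hE => hrN.trans (hA E hE))
    exact ⟨E, hA E hz, hE⟩
  · intro ho
    obtain ⟨E, hz, hE⟩ := sub_mat ht (by omega) A hdet hinj hcs hr hrp (fun a ha1 ha2 hd => by
      rw [dvd_ua_iff] at hd
      obtain ⟨k, hk⟩ := hd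
      rcases k with _ | _ | k
      · omega
      · omega
      · have : orderOf ((s : ℤ) : ZMod r) * 2 ≤ orderOf ((s : ℤ) : ZMod r) * (k + 1 + 1) :=
          Nat.mul_le_mul_left _ (by omega)
        omega) (fun E hE => hrN.trans (hA E hE))
    exact ⟨E, hA E hz, hE⟩

/-- **`PSL_n(q)`** -/
theorem top_facts_psl_all {p f n : ℕ} {X : Type u} [Group X] [Finite X] (hp : p.Prime)
    (h : Fam.Is p f X (.psl n)) : TopFacts (.psl n) p f X := by
  have hfp := Fact.mk hp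
  obtain ⟨hn, -, F, _, _, hch, hF, ⟨e⟩⟩ := h
  have hf : f ≠ 0 := by
    rintro rfl
    have := Fintype.one_lt_card (α := F)
    rw [hF] at this
    simp at this
  obtain ⟨q, hq⟩ : ∃ q, q = p ^ f := ⟨_, rfl⟩
  rw [← hq] at hF
  have hq2 : 2 ≤ q := by
    have h1 := Nat.le_self_pow hf p
    have h2 := hp.two_le
    omega
  have ht : ((q : ℤ) - 1).natAbs = q - 1 := by
    have := ua_plus (q := q) (by omega) 1
    rwa [ua, pow_one, pow_one] at this
  have hg0 : 0 < Nat.gcd n (q - 1) := Nat.gcd_pos_of_pos_left _ (by omega)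
  have hgt0 : 0 < Nat.gcd n (q - 1) * (q - 1) := Nat.mul_pos hg0 (by omega)
  have hgt0' : 0 < (q - 1) * Nat.gcd n (q - 1) := Nat.mul_pos (by omega) hg0
  refine ⟨?_, ?_⟩
  · rintro i ⟨hi3, hi⟩
    rw [← hq]
    rcases hi with rfl | hi
    · obtain ⟨x, hx⟩ := Cfsg.Agent.H360.Iso.exists_top (F := F) (n := i) (by omega)
      rw [Nat.card_eq_fintype_card, hF, mul_assoc] at hx
      obtain ⟨E, hE⟩   := gcd_mul_dvd_ua' (s := (q : ℤ)) (n := i) ht
      rw [ua_plus (by omega)] at hE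
      have h1 : ttor (.psl i) q i = E := by
        rw [ttor, if_pos rfl]
        exact div_eq_of_mul hgt0' (by rw [hE]; ring)
      rw [hE, mul_comm] at hx
      obtain ⟨y, hy⟩ := exists_of_dvd (Nat.dvd_of_mul_dvd_mul_right hgt0 hx)
      exact ⟨e.symm y, by rw [h1, ← hy, MulEquiv.orderOf_eq]⟩
    · obtain ⟨m, rfl⟩ : ∃ m, n = m + 1 := ⟨n - 1, by omega⟩
      have him : i = m := by omega
      subst him
      obtain ⟨x, hx⟩ := Cfsg.Agent.H360.Iso.exists_sub (F := F) (m := i) (by omega)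
      rw [Nat.card_eq_fintype_card, hF] at hx
      have hd : Nat.gcd (i + 1) (q - 1) ∣ q ^ i - 1 :=
        (Nat.gcd_dvd_right _ _).trans (Nat.sub_one_dvd_pow_sub_one q i)
      obtain ⟨E, hE⟩ := hd
      have h1 : ttor (.psl (i + 1)) q i = E := by
        rw [ttor, if_neg (by omega), Nat.add_sub_cancel]
        exact div_eq_of_mul hg0 (by rw [hE]; ring)
      rw [hE, mul_comm] at hx
      obtain ⟨y, hy⟩ := exists_of_dvd (Nat.dvd_of_mul_dvd_mul_right hg0 hx)
      exact ⟨e.symm y, by rw [h1, ← hy, MulEquiv.orderOf_eq]⟩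
  · intro r hr hrp hi x hx
    rw [← hq] at hi ⊢
    obtain ⟨hi3, hi⟩ := hi
    have hrp' : r ≠ p := fun h => hrp (by rw [h])
    rw [← MulEquiv.orderOf_eq e x] at hx ⊢
    have hM := (hasMat_psl hq hF (e x)).ub_all ht hr hrp' hx hi3
    change cls (.psl n) q r = n ∨ cls (.psl n) q r + 1 = n at hi
    rcases hi with hi | hi
    · obtain ⟨E, h1, h2⟩ := hM.1 hi
      rw [ua_plus (by omega)] at h2
      rw [ttor, if_pos hi, div_eq_of_mul (E := E) hgt0' (by rw [← h2]; ring)]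
      exact h1
    · obtain ⟨E, h1, h2⟩ := hM.2 hi
      rw [ua_plus (by omega)] at h2
      rw [ttor, if_neg (by omega), div_eq_of_mul hg0 h2]
      exact h1

/-- **`PSU_n(q)`** -/
theorem top_facts_psu_all {p f n : ℕ} {X : Type u} [Group X] [Finite X] (hp : p.Prime)
    (h : Fam.Is p f X (.psu n)) : TopFacts (.psu n) p f X := by
  have hfp := Fact.mk hp
  obtain ⟨hn, -, F, _, _, hch, hF, ⟨e0⟩⟩ := h
  have e : X ≃* PSU n F (p ^ f) := e0
  clear e0
  have hf : f ≠ 0 := by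
    rintro rfl
    have := Fintype.one_lt_card (α := F)
    rw [hF] at this
    simp at this
  generalize hq : p ^ f = q at hF e
  replace hq := hq.symm
  have hq2 : 2 ≤ q := by
    have h1 := Nat.le_self_pow hf p
    have h2 := hp.two_le
    omega
  have ht : (-(q : ℤ) - 1).natAbs = q + 1 := by omega
  have hg0 : 0 < Nat.gcd n (q + 1) := Nat.gcd_pos_of_pos_left _ (by omega)
  have hgt0 : 0 < Nat.gcd n (q + 1) * (q + 1) := Nat.mul_pos hg0 (by omega)
  have hgt0' : 0 < (q + 1) * Nat.gcd n (q + 1) := Nat.mul_pos (by omega) hg0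
  have hN : ∀ m : ℕ, ua (-(q : ℤ)) m = if m % 2 = 0 then q ^ m - 1 else q ^ m + 1 := by
    intro m
    split_ifs with hm
    · exact ua_minus_even (by omega) (Nat.even_iff.2 hm)
    · exact ua_minus_odd (Nat.odd_iff.2 (by omega))
  have hph : ∀ m : ℕ, 1 ≤ m → Cfsg.Agent.H948.UProd.ph q (m - 1) = ua (-(q : ℤ)) m := by
    intro m hm
    rw [hN, Cfsg.Agent.H948.UProd.ph, Nat.sub_add_cancel hm]
    by_cases h2 : m % 2 = 0
    · rw [if_pos h2, if_neg (by rw [Nat.even_iff]; omega)]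
    · rw [if_neg h2, if_pos (by rw [Nat.even_iff]; omega)]
  have hN1 : ua (-(q : ℤ)) (n - 1) = if n % 2 = 0 then q ^ (n - 1) + 1 else q ^ (n - 1) - 1 := by
    rw [hN]
    by_cases h2 : n % 2 = 0
    · rw [if_pos h2, if_neg (by omega)]
    · rw [if_neg h2, if_pos (by omega)]
  refine ⟨?_, ?_⟩
  · rintro i ⟨hi3, hi⟩
    rw [← hq]
    rcases hi with rfl | hi
    · obtain ⟨x, hx⟩ := Cfsg.Agent.H360.Iso.exists_topU (F := F) hF hn
      rw [hph _ (by omega), mul_assoc] at hx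
      obtain ⟨E, hE⟩ := gcd_mul_dvd_ua' (s := -(q : ℤ)) (n := i) ht
      have h1 : ttor (.psu i) q i = E := by
        rw [ttor, if_pos rfl, ← hN]
        exact div_eq_of_mul hgt0' (by rw [hE]; ring)
      rw [hE, mul_comm] at hx
      obtain ⟨y, hy⟩ := exists_of_dvd (Nat.dvd_of_mul_dvd_mul_right hgt0 hx)
      exact ⟨e.symm y, by rw [h1, ← hy, MulEquiv.orderOf_eq]⟩
    · obtain ⟨x, hx⟩ := Cfsg.Agent.H360.Iso.exists_subU (F := F) hF hn
      rw [show n - 2 = n - 1 - 1 by omega, hph _ (by omega)] at hx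
      obtain ⟨E, hE⟩ := (Nat.gcd_dvd_right n (q + 1)).trans (dvd_ua_all ht (n - 1))
      have h1 : ttor (.psu n) q i = E := by
        rw [ttor, if_neg (by omega), ← hN1]
        exact div_eq_of_mul hg0 (by rw [hE]; ring)
      rw [hE, mul_comm] at hx
      obtain ⟨y, hy⟩ := exists_of_dvd (Nat.dvd_of_mul_dvd_mul_right hg0 hx)
      exact ⟨e.symm y, by rw [h1, ← hy, MulEquiv.orderOf_eq]⟩
  · intro r hr hrp hi x hx
    rw [← hq] at hi ⊢
    obtain ⟨hi3, hi⟩ := hi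
    have hrp' : r ≠ p := fun h => hrp (by rw [h])
    rw [← MulEquiv.orderOf_eq e x] at hx ⊢
    have hM := (hasMat_psu hq (e x)).ub_all ht hr hrp' hx hi3
    change cls (.psu n) q r = n ∨ cls (.psu n) q r + 1 = n at hi
    rcases hi with hi | hi
    · obtain ⟨E, h1, h2⟩ := hM.1 hi
      rw [hN] at h2
      rw [ttor, if_pos hi, div_eq_of_mul (E := E) hgt0' (by rw [← h2]; ring)]
      exact h1
    · obtain ⟨E, h1, h2⟩ := hM.2 hi
      rw [hN1] at h2
      rw [ttor, if_neg (by omega), div_eq_of_mul hg0 h2]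
      exact h1

end Cfsg.Agent.R2.Spec.P1
end

-- part: R2/Spec/P1/TopSpTwo
section
/-!
# Team T3 (S3435), box P1b: the exact top tori of `PSp_2n(q)`, `q` even (helper15)
-/

set_option autoImplicit false
set_option linter.unusedSectionVars false

namespace Cfsg.Agent.R2.Spec.P1

open Module Polynomial Cfsg Cfsg.Agent.H426.LieFam Cfsg.Agent.R2.Spec
open Cfsg.Agent.H160.QRoots Cfsg.Agent.H160.QChar Cfsg.Agent.R2.Spec.P1.Eig
open Cfsg.Agent.LieClassical.OrthCore (Nondeg)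

universe u

theorem pow_one_of_mem_orb {K : Type*} [Field K] [DecidableEq K] {q : ℕ} {μ x : K} {d N : ℕ} (hx : x ∈ orb q μ d)
    (h : μ ^ N = 1) : x ^ N = 1 := by
  obtain ⟨i, -, rfl | rfl⟩ := mem_orb.1 hx
  · rw [← pow_mul, mul_comm, pow_mul, h, one_pow]
  · rw [inv_pow, ← pow_mul, mul_comm, pow_mul, h, one_pow, inv_one]

/-- the parity data, `p = 2` -/
theorem field_data_two {F : Type*} [Field F] [Fintype F] {f : ℕ} (hF : Fintype.card F = 2 ^ f) :
    f ≠ 0 ∧ 2 ^ f % 2 = 0 ∧ 2 ≤ 2 ^ f := by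
  have hf : f ≠ 0 := by
    rintro rfl
    have := Fintype.one_lt_card (α := F)
    rw [hF] at this
    simp at this
  obtain ⟨g, rfl⟩ := Nat.exists_eq_succ_of_ne_zero hf
  refine ⟨hf, by rw [pow_succ]; omega, ?_⟩
  have := Nat.one_le_pow g 2 (by norm_num)
  rw [pow_succ]
  omega

theorem AN_odd {δ : ℤ} {m q : ℕ} (hq : q % 2 = 0) (hq2 : 2 ≤ q) (hm : m ≠ 0) : Odd (AN δ m q) := by
  have h1 : 2 ∣ q ^ m := (Nat.dvd_of_mod_eq_zero hq).trans (dvd_pow_self q hm)
  have h2 : 1 ≤ q ^ m := Nat.one_le_pow _ _ (by omega)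
  rw [AN, Nat.odd_iff]
  split_ifs <;> omega

/-- **Upper bound for `PSp`.** -/
theorem psp_full_all {F : Type*} [Field F] [Fintype F] {p : ℕ}
    [Fact p.Prime] [CharP F p] {n : ℕ} (hn : 2 ≤ n) {y : PSp n F} {r : ℕ} (hr : r.Prime) (hrp : r ≠ p)
    (hrg : r ∣ orderOf y) (hcop : Nat.Coprime (orderOf y) p) {δ : ℤ}
    (hi : (orderOf ((Fintype.card F : ℕ) : ZMod r) = 2 * n ∧ δ = -1) ∨
      (orderOf ((Fintype.card F : ℕ) : ZMod r) = n ∧ Odd n ∧ δ = 1))
    (h3 : 3 ≤ orderOf ((Fintype.card F : ℕ) : ZMod r)) :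
    orderOf y ∣ AN δ n (Fintype.card F) := by
  classical
  obtain ⟨A, rfl⟩ := QuotientGroup.mk_surjective y
  have hinj := frob_inj F
  have hF1 : 1 < Fintype.card F := Fintype.one_lt_card
  set M : Matrix (Fin n ⊕ Fin n) (Fin n ⊕ Fin n) F := (A : Matrix (Fin n ⊕ Fin n) (Fin n ⊕ Fin n) F) with hM
  set g : Module.End F (Fin n ⊕ Fin n → F) := Matrix.toLin' M with hg
  have hfin : finrank F (Fin n ⊕ Fin n → F) = 2 * n := by
    rw [Module.finrank_fintype_fun_eq_card]; simp; ring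
  have hroots : (M.map (algebraMap F (AlgebraicClosure F))).charpoly.roots = rts g := by
    rw [Matrix.charpoly_map, rts, hg, Matrix.charpoly_toLin']
  have hJM : Matrix.transpose M * Matrix.J (Fin n) F * M = Matrix.J (Fin n) F := SymplecticGroup.mem_iff'.1 A.2
  have hinv : rts g = (rts g).map (fun x => x⁻¹) := by
    rw [← hroots]
    refine roots_inv (M := M.map (algebraMap F (AlgebraicClosure F)))
      (G := (Matrix.J (Fin n) F).map (algebraMap F (AlgebraicClosure F))) ?_ ?_ (IsAlgClosed.splits _)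
    · have h4 : ((Matrix.J (Fin n) F).map (algebraMap F (AlgebraicClosure F))).det =
          algebraMap F (AlgebraicClosure F) (Matrix.J (Fin n) F).det := by
        rw [RingHom.map_det]; rfl
      rw [h4]
      exact (_root_.map_ne_zero _).2 (Matrix.isUnit_det_J (Fin n) F).ne_zero
    · have h5 := congrArg (fun A : Matrix _ _ F => A.map (algebraMap F (AlgebraicClosure F))) hJM
      simp only [Matrix.map_mul] at h5
      exact h5
  have hdetM : M.det = 1 := SymplecticGroup.det_eq_one A.2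
  have hprod : (rts g).prod = 1 := prod_rts (by rw [hg, LinearMap.det_toLin', hdetM])
  have hED : ED (Fintype.card F) (rts g) := by
    refine ⟨fun x => ?_, fun x => ?_, ?_⟩
    · have := count_frob g x
      convert this using 2
    · conv_lhs => rw [hinv]
      exact Multiset.count_map_eq_count' _ _ inv_injective _
    · rintro x hx rfl
      rw [Multiset.prod_eq_zero hx] at hprod
      exact zero_ne_one hprod
  have hcard := card_rts g
  rw [hfin] at hcard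
  have hpow : ∀ k, g ^ k = 1 ↔ A ^ k = 1 := by
    intro k
    have h4 : (1 : Module.End F (Fin n ⊕ Fin n → F)) = Matrix.toLin' 1 := by
      rw [Matrix.toLin'_one]; rfl
    rw [hg, ← Matrix.toLin'_pow, h4, (Matrix.toLin' (R := F)).injective.eq_iff, Subtype.ext_iff]
    rfl
  have hfinG : Finite (Matrix.symplecticGroup (Fin n) F) := inferInstance
  have hN : 0 < orderOf A := orderOf_pos A
  obtain ⟨x, hx, k, hk1, hkr⟩ := exists_eig (f := g) (p := p) hN ((hpow _).2 (pow_orderOf_eq_one A))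
    (fun k hk => orderOf_dvd_of_pow_eq_one ((hpow k).1 hk)) hr hrp
    (hrg.trans (orderOf_map_dvd (QuotientGroup.mk' _) A))
  obtain ⟨hmin, hb1, hb2, R', hR, -, hc⟩ := hED.block hinj (by omega) hx hr hk1 hkr rfl h3 (m := n)
    (by rcases hi with h | h
        · exact Or.inl h.1
        · exact Or.inr ⟨h.1, h.2.1⟩) (by omega)
  have hR0 : R' = 0 := by
    rw [← Multiset.card_eq_zero]
    omega
  rw [hR0, add_zero] at hR
  have hblk : Blk (Fintype.card F) n δ x := by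
    refine ⟨hmin, ?_⟩
    rcases hi with ⟨h, rfl⟩ | ⟨h, -, rfl⟩
    · exact Or.inr ⟨rfl, hb1 h⟩
    · exact Or.inl ⟨rfl, hb2 h⟩
  obtain ⟨c, hc⟩ := scal_of_rts (f := g) (p := p) (T := AN δ n (Fintype.card F)) (z := 1) (by
      intro w hw
      rw [hR] at hw
      exact pow_one_of_mem_orb hw (hblk.pow (by omega))) (by omega)
  have h6 : orderOf (QuotientGroup.mk A : PSp n F) ∣
      AN δ n (Fintype.card F) * p ^ finrank F (Fin n ⊕ Fin n → F) := by
    apply orderOf_dvd_of_pow_eq_one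
    rw [← QuotientGroup.mk_pow, QuotientGroup.eq_one_iff, Subgroup.mem_center_iff]
    intro B
    apply Subtype.ext
    have h7 : M ^ (AN δ n (Fintype.card F) * p ^ finrank F (Fin n ⊕ Fin n → F)) = c • 1 := by
      apply (Matrix.toLin' (R := F)).injective
      rw [Matrix.toLin'_pow, ← hg, hc, map_smul, Matrix.toLin'_one]
      rfl
    show (B : Matrix (Fin n ⊕ Fin n) (Fin n ⊕ Fin n) F) * M ^ (AN δ n (Fintype.card F) * p ^ finrank F (Fin n ⊕ Fin n → F)) =
      M ^ (AN δ n (Fintype.card F) * p ^ finrank F (Fin n ⊕ Fin n → F)) * (B : Matrix (Fin n ⊕ Fin n) (Fin n ⊕ Fin n) F)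
    rw [h7, Matrix.mul_smul, Matrix.smul_mul, Matrix.mul_one, Matrix.one_mul]
  exact (hcop.pow_right _).dvd_of_dvd_mul_right h6

/-- **`PSp_2n(q)`, `q` even** -/
theorem top_facts_psp_two {f n : ℕ} {X : Type u} [Group X] [Finite X] (h : Fam.Is 2 f X (.psp n)) :
    TopFacts (.psp n) 2 f X := by
  have hfp := Fact.mk Nat.prime_two
  have hLL := h
  obtain ⟨hn, -, F, _, _, hch, hF, ⟨E⟩⟩ := h
  obtain ⟨hf, hq0, hq2⟩ := field_data_two hF
  have hg1 : Nat.gcd 2 (2 ^ f - 1) = 1 := by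
    have h1 : Nat.gcd 2 (2 ^ f - 1) ∣ 2 := Nat.gcd_dvd_left _ _
    have h2 : Nat.gcd 2 (2 ^ f - 1) ∣ 2 ^ f - 1 := Nat.gcd_dvd_right _ _
    rcases (Nat.dvd_prime Nat.prime_two).1 h1 with h | h
    · exact h
    · rw [h] at h2; omega
  have htt : ∀ (i : ℕ) (δ : ℤ), ((i = 2 * n ∧ δ = -1) ∨ (i = n ∧ Odd n ∧ δ = 1)) →
      ttor (.psp n) (2 ^ f) i = AN δ n (2 ^ f) := by
    rintro i δ (⟨h1, rfl⟩ | ⟨h1, -, rfl⟩)
    · rw [ttor, if_pos h1, hg1, Nat.div_one, AN_neg]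
    · rw [ttor, if_neg (by omega), hg1, Nat.div_one, AN_one]
  have hcardF : Nat.card F = 2 ^ f := by rw [Nat.card_eq_fintype_card, hF]
  refine ⟨?_, ?_⟩
  · intro i hi
    change i = 2 * n ∨ (i = n ∧ n % 2 = 1) at hi
    obtain ⟨δ, hδ, hi'⟩ := exists_delta hi
    rw [htt i δ hi']
    have hodd := AN_odd (δ := δ) (m := n) hq0 hq2 (by omega)
    rcases hδ with rfl | rfl
    · obtain ⟨g, hg⟩ := Cfsg.Agent.H377.exists_psp_tor_plus (F := F) (m := n) (by omega) (N := AN 1 n (2 ^ f))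
        hodd.pos (Or.inl ⟨hodd, by rw [hcardF, AN_one]⟩)
      exact ⟨E.symm g, by rw [← hg, MulEquiv.orderOf_eq]⟩
    · obtain ⟨g, hg⟩ := Cfsg.Agent.H377.exists_psp_tor_minus (F := F) (m := n) (by omega) (N := AN (-1) n (2 ^ f))
        hodd.pos (Or.inl ⟨hodd, by rw [hcardF, AN_neg]⟩)
      exact ⟨E.symm g, by rw [← hg, MulEquiv.orderOf_eq]⟩
  · intro r hr hrp hi x hx
    change cls (.psp n) (2 ^ f) r = 2 * n ∨ (cls (.psp n) (2 ^ f) r = n ∧ n % 2 = 1) at hi
    have hrp' : r ≠ 2 := fun h => hrp (by rw [h])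
    have h3 : 3 ≤ cls (.psp n) (2 ^ f) r := by omega
    have heta := eta_top hi
    have hcop := cop_of_top (t := .psp n) trivial Nat.prime_two hLL hr (two_ne_of_cls hr h3) hrp h3
      (show eta _ ≤ n by omega) (show n < eta _ + 1 by omega) hx
    obtain ⟨δ, hδ, hi'⟩ := exists_delta hi
    have hco : cls (.psp n) (2 ^ f) r = orderOf ((Fintype.card F : ℕ) : ZMod r) := by
      rw [cls_eq_co (fun _ h => by cases h), hF]; rfl
    rw [htt _ δ hi', ← MulEquiv.orderOf_eq E x, ← hF]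
    rw [← MulEquiv.orderOf_eq E x] at hx hcop
    rw [hco] at hi' h3
    exact psp_full_all hn hr hrp' hx hcop hi' h3

end Cfsg.Agent.R2.Spec.P1
end
end

-- part: R2/Spec/P1/TopEvenX_mg
section
set_option linter.all false
open scoped Cfsg.Agent.FastGrp

-- part: R2/Spec/P1/TopEvenX
section
/-!
# Team T3 (S3435), box P1b: `TopFacts` for `PΩ^±_2n(q)`, `q` odd (helper15)
-/

set_option autoImplicit false
set_option linter.unusedSectionVars false

namespace Cfsg.Agent.R2.Spec.P1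

open QuadraticMap Module Polynomial Cfsg Cfsg.Agent.H426.LieFam Cfsg.Agent.R2.Spec
open Cfsg.Agent.H160.QRoots Cfsg.Agent.H160.QChar Cfsg.Agent.R2.Spec.P1.Eig
open Cfsg.Agent.LieClassical.OrthCore (Nondeg)
open Cfsg.Agent.LieClassical.OrthForms
open Cfsg.Agent.H160.QSpin Cfsg.Agent.H160.QDisc Cfsg.Agent.H160.QSemi Cfsg.Agent.H160.QFinal

universe u

/-- the class `i` is of full type -/
def FullC (n i : ℕ) (δ : ℤ) : Prop := (i = 2 * n ∧ δ = -1) ∨ (i = n ∧ Odd n ∧ δ = 1)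

/-- the class `i` is that of a hyperplane -/
def PartC (n i : ℕ) (δ : ℤ) : Prop := (i = 2 * (n - 1) ∧ δ = -1) ∨ (i = n - 1 ∧ Odd (n - 1) ∧ δ = 1)

theorem top_plus_cases {n i : ℕ} (hn : 4 ≤ n) (h : top (.oplus n) i) : FullC n i 1 ∨ ∃ δ, PartC n i δ := by
  change (i = n ∧ n % 2 = 1) ∨ i = 2 * (n - 1) ∨ (i = n - 1 ∧ n % 2 = 0) at h
  rcases h with ⟨h1, h2⟩ | h1 | ⟨h1, h2⟩
  · exact Or.inl (Or.inr ⟨h1, Nat.odd_iff.2 h2, rfl⟩)
  · exact Or.inr ⟨-1, Or.inl ⟨h1, rfl⟩⟩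
  · exact Or.inr ⟨1, Or.inr ⟨h1, Nat.odd_iff.2 (by omega), rfl⟩⟩

theorem top_minus_cases {n i : ℕ} (hn : 4 ≤ n) (h : top (.ominus n) i) : FullC n i (-1) ∨ ∃ δ, PartC n i δ := by
  change i = 2 * n ∨ i = 2 * (n - 1) ∨ (i = n - 1 ∧ n % 2 = 0) at h
  rcases h with h1 | h1 | ⟨h1, h2⟩
  · exact Or.inl (Or.inl ⟨h1, rfl⟩)
  · exact Or.inr ⟨-1, Or.inl ⟨h1, rfl⟩⟩
  · exact Or.inr ⟨1, Or.inr ⟨h1, Nat.odd_iff.2 (by omega), rfl⟩⟩

theorem eta_full {n i : ℕ} {δ : ℤ} (h : FullC n i δ) : eta i = n := by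
  rcases h with ⟨h, -⟩ | ⟨h, h2, -⟩
  · exact eta_top (Or.inl h)
  · exact eta_top (Or.inr ⟨h, Nat.odd_iff.1 h2⟩)

theorem eta_part {n i : ℕ} {δ : ℤ} (h : PartC n i δ) : eta i = n - 1 := by
  rcases h with ⟨h, -⟩ | ⟨h, h2, -⟩
  · exact eta_top (Or.inl h)
  · exact eta_top (Or.inr ⟨h, Nat.odd_iff.1 h2⟩)

theorem PartC.pm {n i : ℕ} {δ : ℤ} (h : PartC n i δ) : δ = -1 ∨ (Odd (n - 1) ∧ δ = 1) := by
  rcases h with ⟨-, h⟩ | ⟨-, h2, h⟩
  · exact Or.inl h
  · exact Or.inr ⟨h2, h⟩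

/-- the upper bound, both types -/
theorem even_ub {F : Type*} [Field F] [Fintype F] [DecidableEq F] {ι : Type} [Fintype ι] [DecidableEq ι]
    (h2 : (2 : F) ≠ 0) {e : ℕ} (he : Fintype.card F = 2 * e + 1) {p : ℕ} [Fact p.Prime] [CharP F p]
    {Q : QuadraticForm F (ι → F)} (hQ : Nondeg Q) {n : ℕ} (hn : 4 ≤ n) (hV : Fintype.card ι = 2 * n) {ε : ℤ}
    (hε : ε = 1 ∨ ε = -1) (hdc : ((dc Q : ℤ) : AlgebraicClosure F) = (-1) ^ (n * e) * (ε : AlgebraicClosure F))
    {y : POmega F ⇑Q} {r : ℕ} (hr : r.Prime) (hrp : r ≠ p) (hrg : r ∣ orderOf y)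
    (hcop : Nat.Coprime (orderOf y) p) (h3 : 3 ≤ orderOf ((Fintype.card F : ℕ) : ZMod r)) :
    (FullC n (orderOf ((Fintype.card F : ℕ) : ZMod r)) ε →
      orderOf y ∣ AN ε n (Fintype.card F) / Nat.gcd 4 (AN ε n (Fintype.card F))) ∧
    (∀ (δ : ℤ) (T : ℕ), PartC n (orderOf ((Fintype.card F : ℕ) : ZMod r)) δ →
      TC (AN δ (n - 1) (Fintype.card F) / 2) (AN (δ * ε) 1 (Fintype.card F) / 2) T → orderOf y ∣ T) := by
  classical
  constructor
  · intro h
    exact even_full h2 he hQ (by omega) hV hr hrp hrg hcop h h3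
  · intro δ T h hT
    refine even_part h2 he hQ (by omega) hV hε hdc hr hrp hrg hcop h h3 ?_
    intro a b ha _ hab
    refine hT.ub ?_ hab
    rw [AN_even (by omega)]
    exact ha

/-- the elements, both types -/
theorem even_ex {F : Type*} [Field F] [Fintype F] [DecidableEq F] {ι : Type} [Fintype ι] [DecidableEq ι]
    (h2 : (2 : F) ≠ 0) {e : ℕ} (he : Fintype.card F = 2 * e + 1) (he1 : 1 ≤ e) {p f : ℕ} [Fact p.Prime] [CharP F p]
    (hF : Fintype.card F = p ^ f) (hf : f ≠ 0)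
    {Q : QuadraticForm F (ι → F)} (hQ : Nondeg Q) {n : ℕ} (hn : 4 ≤ n) (hV : Fintype.card ι = 2 * n) {ε : ℤ}
    (hε : ε = 1 ∨ ε = -1) (hdc : ((dc Q : ℤ) : AlgebraicClosure F) = (-1) ^ (n * e) * (ε : AlgebraicClosure F)) :
    (∀ i, FullC n i ε → ∃ x : POmega F ⇑Q, orderOf x = AN ε n (Fintype.card F) / Nat.gcd 4 (AN ε n (Fintype.card F))) ∧
    (∀ (i : ℕ) (δ : ℤ) (T : ℕ), PartC n i δ →
      TC (AN δ (n - 1) (Fintype.card F) / 2) (AN (δ * ε) 1 (Fintype.card F) / 2) T →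
      ∃ x : POmega F ⇑Q, orderOf x = T) := by
  classical
  constructor
  · intro i h
    refine full_exists h2 he he1 hF hf hQ (by omega) hV hdc ?_
    rcases h with ⟨-, h⟩ | ⟨-, h, h'⟩
    · exact Or.inl h
    · exact Or.inr ⟨h, h'⟩
  · intro i δ T h hT
    exact part_exists h2 he he1 hF hf hQ hn hV hε hdc h.pm hT

/-- **`PΩ^+_2n(q)`** -/
theorem top_facts_oplus {p f n : ℕ} {X : Type u} [Group X] [Finite X] (hp : p.Prime) (hp2 : p ≠ 2)
    (h : Fam.Is p f X (.oplus n)) : TopFacts (.oplus n) p f X := by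
  classical
  have hfp := Fact.mk hp
  have hLL := h
  obtain ⟨hn, F, _, _, hch, hF, ⟨E⟩⟩ := h
  obtain ⟨hf, -, h2, e, he1, he⟩ := field_data hp hp2 hF
  have hqo : p ^ f % 2 = 1 := by omega
  have hdc := dc_plusK h2 he n
  have hcard : Fintype.card (Fin n ⊕ Fin n) = 2 * n := by simp; ring
  obtain ⟨hx1, hx2⟩ := even_ex h2 he he1 hF hf (nondeg_plusForm n F) hn hcard (Or.inl rfl) hdc
  rw [coe_plusForm, hF] at hx1 hx2
  have hfull : ∀ i, FullC n i 1 → ttor (.oplus n) (p ^ f) i = AN 1 n (p ^ f) / Nat.gcd 4 (AN 1 n (p ^ f)) := by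
    intro i hi
    have h1 : i = n := by
      rcases hi with ⟨-, h⟩ | ⟨h, -⟩
      · norm_num at h
      · exact h
    rw [ttor, if_pos h1, AN_one]
  refine ⟨?_, ?_⟩
  · intro i hi
    rcases top_plus_cases hn hi with h1 | ⟨δ, h1⟩
    · rw [hfull i h1]
      obtain ⟨x, hx⟩ := hx1 i h1
      exact ⟨E.symm x, by rw [← hx, MulEquiv.orderOf_eq]⟩
    · obtain ⟨x, hx⟩ := hx2 i δ _ h1 (ttor_plus hn hqo (by omega) h1)
      exact ⟨E.symm x, by rw [← hx, MulEquiv.orderOf_eq]⟩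
  · intro r hr hrp hi x hx
    have hrp' : r ≠ p := fun h => hrp (by rw [h])
    have hco : cls (.oplus n) (p ^ f) r = orderOf ((Fintype.card F : ℕ) : ZMod r) := by
      rw [cls_eq_co (fun _ h => by cases h), hF]; rfl
    have hcs := top_plus_cases hn hi
    have h3 : 3 ≤ cls (.oplus n) (p ^ f) r := by
      change (cls (.oplus n) (p ^ f) r = n ∧ n % 2 = 1) ∨ cls (.oplus n) (p ^ f) r = 2 * (n - 1) ∨
        (cls (.oplus n) (p ^ f) r = n - 1 ∧ n % 2 = 0) at hi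
      omega
    have hm : mem (.oplus n) (cls (.oplus n) (p ^ f) r) ∧ nap (.oplus n) (cls (.oplus n) (p ^ f) r) := by
      rcases hcs with h1 | ⟨δ, h1⟩
      · have h4 := eta_full h1
        refine ⟨Or.inr ?_, show n < eta _ + 2 by omega⟩
        rcases h1 with ⟨-, h⟩ | ⟨h, h', -⟩
        · norm_num at h
        · exact ⟨h, Nat.odd_iff.1 h'⟩
      · have h4 := eta_part h1
        exact ⟨Or.inl (by omega), show n < eta _ + 2 by omega⟩
    have hcop := cop_of_top (t := .oplus n) trivial hp hLL hr (two_ne_of_cls hr h3) hrp h3 hm.1 hm.2 hx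
    rw [← MulEquiv.orderOf_eq E x] at hx hcop ⊢
    rw [hco] at hcs h3 ⊢
    have key : ∀ y : POmega F ⇑(plusForm n F), r ∣ orderOf y → Nat.Coprime (orderOf y) p →
        orderOf y ∣ ttor (.oplus n) (p ^ f) (orderOf ((Fintype.card F : ℕ) : ZMod r)) := by
      intro y hy1 hy2
      obtain ⟨hu1, hu2⟩ := even_ub h2 he (nondeg_plusForm n F) hn hcard (Or.inl rfl) hdc hr hrp' hy1 hy2 h3
      rcases hcs with h1 | ⟨δ, h1⟩
      · rw [hfull _ h1, ← hF]
        exact hu1 h1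
      · refine hu2 δ _ h1 ?_
        rw [hF] at h1 ⊢
        exact ttor_plus hn hqo (by omega) h1
    rw [coe_plusForm] at key
    exact key (E x) hx hcop

/-- **`PΩ^-_2n(q)`** -/
theorem top_facts_ominus {p f n : ℕ} {X : Type u} [Group X] [Finite X] (hp : p.Prime) (hp2 : p ≠ 2)
    (h : Fam.Is p f X (.ominus n)) : TopFacts (.ominus n) p f X := by
  classical
  have hfp := Fact.mk hp
  have hLL := h
  obtain ⟨hn, F, _, _, hch, a, b, hF, hab, ⟨E⟩⟩ := h
  obtain ⟨hf, -, h2, e, he1, he⟩ := field_data hp hp2 hF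
  have hqo : p ^ f % 2 = 1 := by omega
  have hdc := dc_minusK h2 he (n - 1) hab
  rw [Nat.sub_add_cancel (by omega)] at hdc
  have hcard : Fintype.card ((Fin (n - 1) ⊕ Fin (n - 1)) ⊕ Fin 2) = 2 * n := by simp; omega
  obtain ⟨hx1, hx2⟩ := even_ex h2 he he1 hF hf (nondeg_minusForm (n - 1) F a b hab) hn hcard (Or.inr rfl) hdc
  rw [coe_minusForm, hF] at hx1 hx2
  have hfull : ∀ i, FullC n i (-1) → ttor (.ominus n) (p ^ f) i = AN (-1) n (p ^ f) / Nat.gcd 4 (AN (-1) n (p ^ f)) := by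
    intro i hi
    have h1 : i = 2 * n := by
      rcases hi with ⟨h, -⟩ | ⟨-, -, h⟩
      · exact h
      · norm_num at h
    rw [ttor, if_pos h1, AN_neg]
  refine ⟨?_, ?_⟩
  · intro i hi
    rcases top_minus_cases hn hi with h1 | ⟨δ, h1⟩
    · rw [hfull i h1]
      obtain ⟨x, hx⟩ := hx1 i h1
      exact ⟨E.symm x, by rw [← hx, MulEquiv.orderOf_eq]⟩
    · obtain ⟨x, hx⟩ := hx2 i δ _ h1 (ttor_minus hn hqo h1)
      exact ⟨E.symm x, by rw [← hx, MulEquiv.orderOf_eq]⟩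
  · intro r hr hrp hi x hx
    have hrp' : r ≠ p := fun h => hrp (by rw [h])
    have hco : cls (.ominus n) (p ^ f) r = orderOf ((Fintype.card F : ℕ) : ZMod r) := by
      rw [cls_eq_co (fun _ h => by cases h), hF]; rfl
    have hcs := top_minus_cases hn hi
    have h3 : 3 ≤ cls (.ominus n) (p ^ f) r := by
      change cls (.ominus n) (p ^ f) r = 2 * n ∨ cls (.ominus n) (p ^ f) r = 2 * (n - 1) ∨
        (cls (.ominus n) (p ^ f) r = n - 1 ∧ n % 2 = 0) at hi
      omega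
    have hm : mem (.ominus n) (cls (.ominus n) (p ^ f) r) ∧ nap (.ominus n) (cls (.ominus n) (p ^ f) r) := by
      rcases hcs with h1 | ⟨δ, h1⟩
      · have h4 := eta_full h1
        refine ⟨Or.inr ?_, show n < eta _ + 2 by omega⟩
        rcases h1 with ⟨h, -⟩ | ⟨-, -, h⟩
        · exact h
        · norm_num at h
      · have h4 := eta_part h1
        exact ⟨Or.inl (by omega), show n < eta _ + 2 by omega⟩
    have hcop := cop_of_top (t := .ominus n) trivial hp hLL hr (two_ne_of_cls hr h3) hrp h3 hm.1 hm.2 hx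
    rw [← MulEquiv.orderOf_eq E x] at hx hcop ⊢
    rw [hco] at hcs h3 ⊢
    have key : ∀ y : POmega F ⇑(minusForm (n - 1) F a b), r ∣ orderOf y → Nat.Coprime (orderOf y) p →
        orderOf y ∣ ttor (.ominus n) (p ^ f) (orderOf ((Fintype.card F : ℕ) : ZMod r)) := by
      intro y hy1 hy2
      obtain ⟨hu1, hu2⟩ := even_ub h2 he (nondeg_minusForm (n - 1) F a b hab) hn hcard (Or.inr rfl) hdc hr hrp' hy1 hy2 h3
      rcases hcs with h1 | ⟨δ, h1⟩
      · rw [hfull _ h1, ← hF]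
        exact hu1 h1
      · refine hu2 δ _ h1 ?_
        rw [hF] at h1 ⊢
        exact ttor_minus hn hqo h1
    rw [coe_minusForm] at key
    exact key (E x) hx hcop

end Cfsg.Agent.R2.Spec.P1
end

-- part: R2/Spec/P1/TopOdd
section
/-!
# Team T3 (S3435), box P1b: the exact top tori of `PΩ_{2n+1}(q)` (helper15)
-/

set_option autoImplicit false

namespace Cfsg.Agent.R2.Spec.P1

open Module Polynomial Cfsg Cfsg.Agent.H426.LieFam Cfsg.Agent.R2.Spec
open Cfsg.Agent.R2.Spec.P1.Eig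
open Cfsg.Agent.LieClassical.OrthCore (Nondeg)
open Cfsg.Agent.LieClassical.OrthForms

universe u

/-- **`PΩ_{2n+1}(q)`** -/
theorem top_facts_oodd {p f n : ℕ} {X : Type u} [Group X] [Finite X] (hp : p.Prime) (hp2 : p ≠ 2)
    (h : Fam.Is p f X (.oodd n)) : TopFacts (.oodd n) p f X := by
  classical
  have hfp := Fact.mk hp
  have hLL := h
  obtain ⟨hn, -, F, _, _, hch, hF, ⟨E⟩⟩ := h
  obtain ⟨hf, -, h2, e, he1, he⟩ := field_data hp hp2 hF
  obtain ⟨q, hq⟩ : ∃ q, q = p ^ f := ⟨_, rfl⟩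
  have hqF : Fintype.card F = q := by rw [hF, hq]
  have hqo : q % 2 = 1 := by omega
  have ho : Odd (Nat.card F) := by
    rw [Nat.card_eq_fintype_card, hqF]
    exact Nat.odd_iff.2 hqo
  refine ⟨?_, ?_⟩
  · intro i hi
    change i = 2 * n ∨ (i = n ∧ n % 2 = 1) at hi
    obtain ⟨δ, hδ, hi'⟩ := exists_delta hi
    rw [← hq]
    have h1 : ttor (.oodd n) q i = AN δ n q / 2 :=
      AN_div δ hqo (by rcases hi' with h | h; exacts [Or.inl h, Or.inr ⟨h.1, h.2.2⟩]) (by omega)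
    rw [h1]
    have hev := AN_even (δ := δ) (m := n) hqo
    have hqn : q ≤ q ^ n := Nat.le_self_pow (by omega) q
    rcases hδ with rfl | rfl
    · rw [AN_one] at hev ⊢
      obtain ⟨g, hg⟩ := Cfsg.Agent.H377.OOdd.exists_even_tor ho hn (N := (q ^ n - 1) / 2) (ε := 1)
        (Cfsg.Agent.H377.elt_tor_plus (F := F) (by omega) (by rw [Nat.card_eq_fintype_card, hqF, hev]))
      exact ⟨E.symm g, by rw [← hg, MulEquiv.orderOf_eq]⟩
    · rw [AN_neg] at hev ⊢
      obtain ⟨g, hg⟩ := Cfsg.Agent.H377.OOdd.exists_even_tor ho hn (N := (q ^ n + 1) / 2) (ε := -1)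
        (Cfsg.Agent.H377.elt_tor_minus (F := F) (by omega) (by rw [Nat.card_eq_fintype_card, hqF, hev]))
      exact ⟨E.symm g, by rw [← hg, MulEquiv.orderOf_eq]⟩
  · intro r hr hrp hi x hx
    change cls (.oodd n) (p ^ f) r = 2 * n ∨ (cls (.oodd n) (p ^ f) r = n ∧ n % 2 = 1) at hi
    have hrp' : r ≠ p := fun h => hrp (by rw [h])
    have h3 : 3 ≤ cls (.oodd n) (p ^ f) r := by omega
    have heta := eta_top hi
    have hcop := cop_of_top (t := .oodd n) trivial hp hLL hr (two_ne_of_cls hr h3) hrp h3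
      (show eta _ ≤ n by omega) (show n < eta _ + 1 by omega) hx
    obtain ⟨δ, hδ, hi'⟩ := exists_delta hi
    have hco : cls (.oodd n) (p ^ f) r = orderOf ((Fintype.card F : ℕ) : ZMod r) := by
      rw [cls_eq_co (fun _ h => by cases h), hF]; rfl
    have h1 : ttor (.oodd n) (p ^ f) (cls (.oodd n) (p ^ f) r) = AN δ n (p ^ f) / 2 :=
      AN_div δ (by rw [← hq]; exact hqo)
        (by rcases hi' with h | h; exacts [Or.inl h, Or.inr ⟨h.1, h.2.2⟩]) (by omega)
    rw [h1, ← MulEquiv.orderOf_eq E x, ← hF]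
    rw [← MulEquiv.orderOf_eq E x] at hx hcop
    rw [hco] at hi' h3
    have key : ∀ y : POmega F ⇑(oddForm n F), r ∣ orderOf y → Nat.Coprime (orderOf y) p →
        orderOf y ∣ AN δ n (Fintype.card F) / 2 := fun y hy1 hy2 =>
      odd_full h2 he (nondeg_oddForm n F h2) hn (by simp; ring) hr hrp' hy1 hy2 hi' h3
    rw [coe_oddForm] at key
    exact key (E x) hx hcop

end Cfsg.Agent.R2.Spec.P1
end
end

-- part: R2/Spec/P1/TopMain
section
set_option linter.all false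

/-!
# Team T3 (S3435), box P1b: `TopFacts` for the classical families, `p` odd (helper15)
-/

set_option autoImplicit false

namespace Cfsg.Agent.R2.Spec.P1

open Cfsg Cfsg.Agent.H426.LieFam Cfsg.Agent.R2.Spec

universe u

/-- **All classical families.** -/
theorem top_facts {p f : ℕ} {t : Fam} {X : Type u} [Group X] [Finite X] (ht : Classical t) (hp : p.Prime) (hp2 : p ≠ 2)
    (h : Fam.Is p f X t) : TopFacts t p f X := by
  cases t with
  | psl n => exact top_facts_psl hp hp2 h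
  | psu n => exact top_facts_psu hp hp2 h
  | psp n => exact top_facts_psp hp hp2 h
  | oodd n => exact top_facts_oodd hp hp2 h
  | oplus n => exact top_facts_oplus hp hp2 h
  | ominus n => exact top_facts_ominus hp hp2 h
  | _ => exact ht.elim

end Cfsg.Agent.R2.Spec.P1
end

-- part: R2/Spec/P1/TopTwo
section
prune_inst 0x4c06072040d8000080018008653003c06b6000000002b8000c80002040780cb288d4227218ca0100098c4024400300048110000300240000004000400011800800880100231400100620006800004000000000000000000000000000000000000000000000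
set_option linter.all false
open scoped Cfsg.Agent.FastGrp

-- part: R2/Spec/P1/TopPl
section
/-!
# Team T3 (S3435), box P1b: isometries of odd order, every characteristic (helper15)
-/

set_option autoImplicit false
set_option linter.unusedSectionVars false

namespace Cfsg.Agent.R2.Spec.P1

open QuadraticMap Module Polynomial Cfsg Cfsg.Agent.H426.LieFam Cfsg.Agent.R2.Spec
open Cfsg.Agent.H160.QRoots Cfsg.Agent.H160.QChar Cfsg.Agent.R2.Spec.P1.Eig
open Cfsg.Agent.LieClassical.OrthCore (Nondeg O)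
open Cfsg.Agent.H160.QSpin Cfsg.Agent.H160.QSplit
open Cfsg.Agent.H377 (HasSign)
open Cfsg.Agent.H390 Cfsg.Agent.H390.NonAdj Cfsg.Agent.H390.Dec
open Cfsg.Agent.H150 (ND isCompl_fix exists_hasSign card_of_hasSign' range_inv fpf_range restrict_pow_eq_one
  eq_one_of_restrict ortho_fix polar_isom)

universe u

section Basic

variable {F V : Type*} [Field F] [AddCommGroup V] [Module F V]

/-- linear isometries of finite order as elements of the group of isometries -/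
theorem exists_equiv {Q : QuadraticForm F V} {T : V →ₗ[F] V} {N : ℕ} (hN : 0 < N) (hT : T ^ N = 1)
    (hTQ : ∀ v, Q (T v) = Q v) : ∃ g : V ≃ₗ[F] V, en g = T ∧ g ∈ O Q := by
  have h1 : T * T ^ (N - 1) = 1 := by rw [← pow_succ', Nat.sub_add_cancel hN, hT]
  have h2 : T ^ (N - 1) * T = 1 := by rw [← pow_succ, Nat.sub_add_cancel hN, hT]
  refine ⟨LinearEquiv.ofLinearMap T (T ^ (N - 1)) h1 h2, ?_, ?_⟩
  · rfl
  · exact hTQ

theorem en_pow_eq_one {g : V ≃ₗ[F] V} {k : ℕ} : g ^ k = 1 ↔ en g ^ k = 1 := by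
  rw [← en_pow]
  constructor
  · intro h; rw [h]; rfl
  · intro h; exact en_inj (by rw [h]; rfl)

end Basic

section Pow

variable {F V : Type*} [Field F] [Fintype F] [AddCommGroup V] [Module F V] [FiniteDimensional F V] [Finite V]

/-- **Full classes, every characteristic.** -/
theorem pow_full {p : ℕ} [Fact p.Prime] [CharP F p] {Q : QuadraticForm F V} (hQ : Nondeg Q) {m : ℕ}
    (hV : finrank F V = 2 * m) {T : V →ₗ[F] V} (hTQ : ∀ v, Q (T v) = Q v) {N : ℕ} (hT : T ^ N = 1) (hN : 0 < N)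
    (hcop : Nat.Coprime N p) {r k : ℕ} (hr : r.Prime) (hrp : r ≠ p) (h1 : T ^ k ≠ 1) (h2 : (T ^ k) ^ r = 1) {δ : ℤ}
    (hi : (orderOf ((Fintype.card F : ℕ) : ZMod r) = 2 * m ∧ δ = -1) ∨
      (orderOf ((Fintype.card F : ℕ) : ZMod r) = m ∧ Odd m ∧ δ = 1))
    (h3 : 3 ≤ orderOf ((Fintype.card F : ℕ) : ZMod r)) : T ^ AN δ m (Fintype.card F) = 1 := by
  classical
  have hinj := frob_inj F
  have hF1 : 1 < Fintype.card F := Fintype.one_lt_card
  have hrf := Fact.mk hr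
  obtain ⟨g, hgT, hg⟩ := exists_equiv hN hT hTQ
  have hgN : orderOf g ∣ N := orderOf_dvd_of_pow_eq_one (en_pow_eq_one.2 (by rw [hgT, hT]))
  have hcg := Nat.Coprime.coprime_dvd_left hgN hcop
  have hg0 : 0 < orderOf g := Nat.pos_of_dvd_of_pos hgN hN
  have hrg : r ∣ orderOf g := by
    have h4 : orderOf (g ^ k) = r := by
      refine orderOf_eq_prime ?_ ?_
      · rw [← pow_mul, en_pow_eq_one, hgT, pow_mul, h2]
      · intro h
        rw [en_pow_eq_one, hgT] at h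
        exact h1 h
    rw [← h4]
    exact orderOf_pow_dvd k
  obtain ⟨x, hx, k', hk1, hkr⟩ := exists_eig (f := en g) (p := p) hg0 (by rw [← en_pow, pow_orderOf_eq_one]; rfl)
    (fun k hk => orderOf_dvd_of_pow_eq_one (en_inj (by rw [en_pow, hk]; rfl))) hr hrp hrg
  have hED := ed_rts hQ hg
  have hcard := card_rts (en g)
  rw [hV] at hcard
  obtain ⟨hmin, hb1, hb2, R', hR, -, hc⟩ := hED.block hinj (by omega) hx hr hk1 hkr rfl h3 (m := m)
    (by rcases hi with h | h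
        · exact Or.inl h.1
        · exact Or.inr ⟨h.1, h.2.1⟩) (by omega)
  have hR0 : R' = 0 := by
    rw [← Multiset.card_eq_zero]
    omega
  rw [hR0, add_zero] at hR
  have hblk : Blk (Fintype.card F) m δ x := by
    refine ⟨hmin, ?_⟩
    rcases hi with ⟨h, rfl⟩ | ⟨h, -, rfl⟩
    · exact Or.inr ⟨rfl, hb1 h⟩
    · exact Or.inl ⟨rfl, hb2 h⟩
  have h5 := order_dvd_of_rts (p := p) (g := g) (k := AN δ m (Fintype.card F)) hcg (by
    intro w hw
    rw [hR] at hw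
    exact pow_one_of_mem_orb hw (hblk.pow (by omega)))
  rw [← hgT, ← en_pow_eq_one, ← orderOf_dvd_iff_pow_eq_one]
  exact h5

/-- **Planes, every characteristic.** -/
theorem pow_plane {p f : ℕ} [Fact p.Prime] [CharP F p] (hF : Fintype.card F = p ^ f) {Q : QuadraticForm F V}
    (hQ : Nondeg Q) (hV : finrank F V = 2) {ε : ℤ} (hε : ε = 1 ∨ ε = -1) (hs : HasSign (⇑Q) 1 ε) {T : V →ₗ[F] V}
    (hTQ : ∀ v, Q (T v) = Q v) {N : ℕ} (hT : T ^ N = 1) (hN : Odd N) (hcop : Nat.Coprime N p) :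
    T ^ AN ε 1 (Fintype.card F) = 1 := by
  classical
  have hinj := frob_inj F
  have hF1 : 1 < Fintype.card F := Fintype.one_lt_card
  obtain ⟨g, hgT, hg⟩ := exists_equiv hN.pos hT hTQ
  have hgN : orderOf g ∣ N := orderOf_dvd_of_pow_eq_one (en_pow_eq_one.2 (by rw [hgT, hT]))
  have hcg := Nat.Coprime.coprime_dvd_left hgN hcop
  have hg0 : 0 < orderOf g := Nat.pos_of_dvd_of_pos hgN hN.pos
  have hgo : Odd (orderOf g) := Odd.of_dvd_nat hN hgN
  have hdet := eq_one_of_odd hgo (det_sq hQ hg) (by rw [← map_pow, pow_orderOf_eq_one, map_one])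
  have hdet1 : LinearMap.det (en g) = 1 := by
    have := congrArg Units.val hdet
    rwa [LinearEquiv.coe_det] at this
  have hED := ed_rts hQ hg
  have hcard := card_rts (en g)
  rw [hV] at hcard
  obtain ⟨μ, h0, hR, hfr⟩ := hED.rest_two hcard (prod_rts hdet1)
  have hmul : ∀ k, μ ^ k = 1 → orderOf g ∣ k := by
    intro k hk
    refine order_dvd_of_rts (p := p) hcg ?_
    intro w hw
    rw [hR, Multiset.insert_eq_cons, Multiset.mem_cons, Multiset.mem_singleton] at hw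
    rcases hw with rfl | rfl
    · exact hk
    · rw [inv_pow, hk, inv_one]
  have hμg : μ ^ orderOf g = 1 := by
    refine pow_of_rts (f := en g) (by rw [← en_pow, pow_orderOf_eq_one]; rfl) ?_
    rw [hR, Multiset.insert_eq_cons]
    exact Multiset.mem_cons_self _ _
  rw [← hgT, ← en_pow_eq_one, ← orderOf_dvd_iff_pow_eq_one]
  by_cases h1 : orderOf g = 1
  · rw [h1]; exact one_dvd _
  obtain ⟨r, hr, hrg⟩ := Nat.exists_prime_and_dvd h1
  have hro : Odd r := Odd.of_dvd_nat hgo hrg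
  have hr2 : r ≠ 2 := by rintro rfl; exact absurd hro (by decide)
  have hrp : ¬ r ∣ p := by
    intro h
    have h4 := Nat.Coprime.coprime_dvd_left hrg hcg
    rw [(Nat.prime_dvd_prime_iff_eq hr (Fact.out : p.Prime)).1 h, Nat.coprime_self] at h4
    exact (Fact.out : p.Prime).one_lt.ne' h4
  -- `r ∣ q - ε`
  obtain ⟨k, hk⟩ := hrg
  have hk0 : 0 < k := by
    rcases Nat.eq_zero_or_pos k with h | h
    · rw [h, mul_zero] at hk; omega
    · exact h
  have hx1 : (g ^ k) ^ r = 1 := by rw [← pow_mul, mul_comm, ← hk, pow_orderOf_eq_one]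
  have hfpf : ∀ v, (g ^ k) v = v → v = 0 := by
    intro v hv
    refine no_fixed (g := en g) (n := k) ?_ (v := v) (by rw [← en_pow]; exact hv)
    intro w hw hw1
    have h4 : μ ^ k = 1 := by
      rw [hR, Multiset.insert_eq_cons, Multiset.mem_cons, Multiset.mem_singleton] at hw
      rcases hw with rfl | rfl
      · exact hw1
      · rw [inv_pow, inv_eq_one] at hw1
        exact hw1
    have h5 := Nat.le_of_dvd hk0 (hmul k h4)
    have h6 := hr.two_le
    rw [hk] at h5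
    have h7 : 2 * k ≤ r * k := Nat.mul_le_mul_right _ h6
    omega
  have hgk : g ^ k ∈ O Q := (O Q).pow_mem hg k
  have hNs := card_of_hasSign' (V := V) (n := 1) (by rw [hV]) hs (one_ne_zero (α := F))
  have hσ : ∀ (j : ℕ) (v : {v : V // Q v = 1}),
      (((fun v : {v : V // Q v = 1} => (⟨(g ^ k) v, by rw [hgk]; exact v.2⟩ : {v : V // Q v = 1}))^[j] v :
        {v : V // Q v = 1}) : V) = ((g ^ k) ^ j) v := by
    intro j
    induction j with
    | zero => intro v; rfl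
    | succ j ih =>
      intro v
      rw [Function.iterate_succ_apply, ih, pow_succ, LinearEquiv.mul_apply]
  have hm1 := modEq_fixed hr (fun v : {v : V // Q v = 1} => (⟨(g ^ k) v, by rw [hgk]; exact v.2⟩ : {v : V // Q v = 1}))
    (fun v => Subtype.ext (by rw [hσ, hx1]; rfl))
  have hm2 : Nat.card {a : {v : V // Q v = 1} //
      (fun v : {v : V // Q v = 1} => (⟨(g ^ k) v, by rw [hgk]; exact v.2⟩ : {v : V // Q v = 1})) a = a} = 0 := by
    rw [Nat.card_eq_zero]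
    left
    refine ⟨fun a => ?_⟩
    have h3 : (g ^ k) (a.1 : V) = a.1 := congrArg Subtype.val a.2
    have h4 := hfpf _ h3
    have h5 := a.1.2
    rw [h4, QuadraticMap.map_zero] at h5
    exact zero_ne_one h5
  rw [hm2] at hm1
  have hm3 : r ∣ Nat.card {v : V // Q v = 1} := (Nat.modEq_zero_iff_dvd).1 hm1
  have hrq : ¬ r ∣ Fintype.card F := by
    intro h
    rw [hF] at h
    exact hrp (hr.dvd_of_dvd_pow h)
  have hrε : (r : ℤ) ∣ (Fintype.card F : ℤ) - ε := by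
    have h4 : (r : ℤ) ∣ (Nat.card F : ℤ) * (Nat.card {v : V // Q v = 1} : ℤ) :=
      dvd_mul_of_dvd_right (Int.natCast_dvd_natCast.2 hm3) _
    rw [hNs, Nat.card_eq_fintype_card] at h4
    have h5 : ((Fintype.card F : ℕ) : ℤ) ^ (2 * 1) - ε * (Fintype.card F : ℤ) ^ 1 =
        (Fintype.card F : ℤ) * ((Fintype.card F : ℤ) - ε) := by ring
    rw [h5] at h4
    rcases (Nat.prime_iff_prime_int.1 hr).dvd_or_dvd h4 with h6 | h6
    · exact absurd (Int.natCast_dvd_natCast.1 h6) hrq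
    · exact h6
  -- the frobenius
  have hA : ∀ δ : ℤ, (δ = 1 ∨ δ = -1) → μ ^ AN δ 1 (Fintype.card F) = 1 → δ = ε := by
    intro δ hδ hμ
    have h4 : (r : ℤ) ∣ (Fintype.card F : ℤ) - δ := by
      have h5 : r ∣ AN δ 1 (Fintype.card F) := (Dvd.intro _ hk.symm).trans (hmul _ hμ)
      have h6 : ((AN δ 1 (Fintype.card F) : ℕ) : ℤ) = (Fintype.card F : ℤ) - δ := by
        rcases hδ with rfl | rfl
        · rw [AN_one, pow_one, Nat.cast_sub hF1.le]; rfl
        · rw [AN_neg, pow_one]; push_cast; ring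
      rw [← h6]
      exact Int.natCast_dvd_natCast.2 h5
    have h5 := dvd_sub h4 hrε
    by_contra hne
    have h6 : (r : ℤ) ∣ 2 := by
      rcases hδ with h | h <;> rcases hε with h' | h' <;> rw [h, h'] at h5 hne
      · exact absurd rfl hne
      · ring_nf at h5; exact (dvd_neg.1 h5)
      · ring_nf at h5; exact h5
      · exact absurd rfl hne
    have h7 : r ∣ 2 := by exact_mod_cast h6
    exact hr2 ((Nat.prime_dvd_prime_iff_eq hr Nat.prime_two).1 h7)
  apply hmul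
  rcases hfr with h | h
  · have h4 : μ ^ AN 1 1 (Fintype.card F) = 1 := by
      rw [AN_one, pow_one]
      apply mul_right_cancel₀ h0
      rw [← pow_succ, Nat.sub_add_cancel hF1.le, h, one_mul]
    rw [← hA 1 (Or.inl rfl) h4]
    exact h4
  · have h4 : μ ^ AN (-1) 1 (Fintype.card F) = 1 := by
      rw [AN_neg, pow_one, pow_succ, h, inv_mul_cancel₀ h0]
    rw [← hA (-1) (Or.inr rfl) h4]
    exact h4

theorem sgn_of_part {n i : ℕ} {δ : ℤ} (hi : (i = 2 * (n - 1) ∧ δ = -1) ∨ (i = n - 1 ∧ Odd (n - 1) ∧ δ = 1)) :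
    sgn i = δ ∧ eta i = n - 1 := by
  rcases hi with ⟨h1, h2⟩ | ⟨h1, h2, h3⟩
  · refine ⟨?_, eta_top (Or.inl h1)⟩
    rw [sgn, if_pos (by rw [h1]; exact even_two_mul _), h2]
  · refine ⟨?_, eta_top (Or.inr ⟨h1, Nat.odd_iff.1 h2⟩)⟩
    rw [sgn, if_neg (by rw [h1]; exact Nat.not_even_iff_odd.2 h2), h3]

/-- **The class of a hyperplane, every characteristic.** -/
theorem dvd_part {p f : ℕ} [Fact p.Prime] [CharP F p] (hF : Fintype.card F = p ^ f) {Q : QuadraticForm F V}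
    (hQ : Nondeg Q) {n : ℕ} (hn : 4 ≤ n) (hV : finrank F V = 2 * n) {ε : ℤ} (hε : ε = 1 ∨ ε = -1)
    (hs : HasSign (⇑Q) n ε) {T : V →ₗ[F] V} (hTQ : ∀ v, Q (T v) = Q v) {N : ℕ} (hN : Odd N)
    (hcop : Nat.Coprime N p) (hT : ∀ j : ℕ, T ^ j = 1 ↔ N ∣ j) {r : ℕ} (hr : r.Prime) (hrp : r ≠ p) (hrN : r ∣ N)
    (h3 : 3 ≤ orderOf ((Fintype.card F : ℕ) : ZMod r)) {δ : ℤ}
    (hi : (orderOf ((Fintype.card F : ℕ) : ZMod r) = 2 * (n - 1) ∧ δ = -1) ∨
      (orderOf ((Fintype.card F : ℕ) : ZMod r) = n - 1 ∧ Odd (n - 1) ∧ δ = 1)) :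
    N ∣ Nat.lcm (AN δ (n - 1) (Fintype.card F)) (AN (δ * ε) 1 (Fintype.card F)) := by
  have hr2 : r ≠ 2 := by
    rintro rfl
    exact absurd (Odd.of_dvd_nat hN hrN) (by decide)
  have hcoF : co (Nat.card F) r = orderOf ((Fintype.card F : ℕ) : ZMod r) := by
    rw [Nat.card_eq_fintype_card]; rfl
  have hδ : δ = 1 ∨ δ = -1 := by rcases hi with ⟨-, h⟩ | ⟨-, -, h⟩ <;> simp [h]
  have h3' := h3
  rw [← hcoF] at h3'
  have hi' := hi
  rw [← hcoF] at hi'
  obtain ⟨hsg, heta⟩ := sgn_of_part hi'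
  have hrF := natCast_ne_zero (F := F) hr (not_dvd_of_co hr h3')
  obtain ⟨k, hk⟩ := hrN
  have hk0 : 0 < k := by
    rcases Nat.eq_zero_or_pos k with h | h
    · have := hN.pos
      rw [h, mul_zero] at hk; omega
    · exact h
  obtain ⟨x, hx⟩ : ∃ x, T ^ k = x := ⟨_, rfl⟩
  have hxr : x ^ r = 1 := by
    rw [← hx, ← pow_mul, hT, hk, mul_comm]
  have hx1 : x ≠ 1 := by
    intro h
    rw [h, hT] at hx
    have h5 := Nat.le_of_dvd hk0 hx
    have h6 := hr.two_le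
    rw [hk] at h5
    have h7 : 2 * k ≤ r * k := Nat.mul_le_mul_right _ h6
    omega
  have hxQ : ∀ v, Q (x v) = Q v := by rw [← hx]; exact quad_pow hTQ k
  have hd := finrank_range_eq Q hQ hr hr2 hrF hxr hx1 hxQ rfl (isEta (co (Nat.card F) r)) (by omega)
  have hcompl := isCompl_fix hrF x hxr
  have hsum := Submodule.finrank_add_eq_of_isCompl hcompl
  have hxT : ∀ v, x (T v) = T (x v) := by
    intro v
    rw [← hx]
    exact LinearMap.congr_fun ((Commute.refl T).pow_left k).eq v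
  have hTC := (range_inv hxT).2
  have hTM := (range_inv hxT).1
  have hxM := (range_inv (x := x) (y := x) (fun v => rfl)).1
  obtain ⟨hCnd, hMnd, -, -, hfpf, -⟩ := dec Q hQ (hr.odd_of_ne_two hr2) hrF x hxr hxQ hxM
  have hC2 : finrank F (LinearMap.ker (x - 1)) = 2 := by omega
  have hM2 : finrank F (LinearMap.range (x - 1)) = 2 * (n - 1) := by omega
  have hsM := sign_of_fpf (Q.comp (LinearMap.range (x - 1)).subtype) hMnd hr hr2 h3' hd (x.restrict hxM)
    (restrict_pow_eq_one hxM hxr) (fun v => hxQ v) hfpf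
  obtain ⟨ε', hε', hsC⟩ := exists_hasSign (le_refl 1) (by rw [hC2]) (Q.comp (LinearMap.ker (x - 1)).subtype) hCnd
  have hprod := sign_of_isCompl Q hcompl (by
    intro c hc m hm
    refine ortho_fix (QuadraticMap.polarBilin Q) x (fun v w => polar_isom Q x hxQ v w) ?_ hm
    rwa [LinearMap.mem_ker, LinearMap.sub_apply, Module.End.one_apply, sub_eq_zero] at hc) hε hε' (sgn_pm _) hsC hsM hs
  rw [hsg] at hprod
  have hεδ : ε' = δ * ε := by
    rcases hδ with h | h <;> rcases hε' with h' | h' <;> rw [hprod, h, h'] <;> norm_num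
  have hTN : T ^ N = 1 := (hT N).2 dvd_rfl
  -- on the range
  have hM : (T.restrict hTM) ^ AN δ (n - 1) (Fintype.card F) = 1 := by
    have hkM : ∀ v, ((T.restrict hTM) ^ k) v = x.restrict hxM v := by
      intro v
      apply Subtype.ext
      rw [Module.End.pow_restrict]
      simp only [hx]
    have hkM' : (T.restrict hTM) ^ k = x.restrict hxM := LinearMap.ext hkM
    refine pow_full (Q := Q.comp (LinearMap.range (x - 1)).subtype) hMnd hM2 (fun v => hTQ v) (N := N)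
      (restrict_pow_eq_one hTM hTN) hN.pos hcop hr hrp (k := k) ?_ ?_ hi h3
    · rw [hkM']
      intro h
      have hne : Nontrivial (LinearMap.range (x - 1)) := Module.nontrivial_of_finrank_pos (R := F) (by omega)
      obtain ⟨w, hw⟩ := exists_ne (0 : LinearMap.range (x - 1))
      exact hw (hfpf w (by rw [h]; rfl))
    · rw [hkM']
      exact restrict_pow_eq_one hxM hxr
  have hC : (T.restrict hTC) ^ AN (δ * ε) 1 (Fintype.card F) = 1 := by
    rw [← hεδ]
    exact pow_plane hF (Q := Q.comp (LinearMap.ker (x - 1)).subtype) hCnd hC2 hε' hsC (fun v => hTQ v) (N := N)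
      (restrict_pow_eq_one hTC hTN) hN hcop
  rw [← hT]
  refine eq_one_of_restrict hcompl ?_ ?_
  · intro v hv
    obtain ⟨c, hc⟩ := Nat.dvd_lcm_right (AN δ (n - 1) (Fintype.card F)) (AN (δ * ε) 1 (Fintype.card F))
    have h4 : (T.restrict hTC) ^ Nat.lcm (AN δ (n - 1) (Fintype.card F)) (AN (δ * ε) 1 (Fintype.card F)) = 1 := by
      rw [hc, pow_mul, hC, one_pow]
    have h5 := congrArg Subtype.val (LinearMap.congr_fun h4 ⟨v, hv⟩)
    rw [Module.End.pow_restrict] at h5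
    exact h5
  · intro v hv
    obtain ⟨c, hc⟩ := Nat.dvd_lcm_left (AN δ (n - 1) (Fintype.card F)) (AN (δ * ε) 1 (Fintype.card F))
    have h4 : (T.restrict hTM) ^ Nat.lcm (AN δ (n - 1) (Fintype.card F)) (AN (δ * ε) 1 (Fintype.card F)) = 1 := by
      rw [hc, pow_mul, hM, one_pow]
    have h5 := congrArg Subtype.val (LinearMap.congr_fun h4 ⟨v, hv⟩)
    rw [Module.End.pow_restrict] at h5
    exact h5

end Pow

end Cfsg.Agent.R2.Spec.P1
end

-- part: R2/Spec/P1/TopTwo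
section
/-!
# Team T3 (S3435), box P1b: `TopFacts` in characteristic 2; `TopFacts` for every characteristic (helper15)
-/

set_option autoImplicit false
set_option linter.unusedSectionVars false

namespace Cfsg.Agent.R2.Spec.P1

open QuadraticMap Module Polynomial Cfsg Cfsg.Agent.H426.LieFam Cfsg.Agent.R2.Spec
open Cfsg.Agent.H160.QRoots Cfsg.Agent.H160.QChar Cfsg.Agent.R2.Spec.P1.Eig
open Cfsg.Agent.LieClassical.OrthCore (Nondeg O)
open Cfsg.Agent.H160.QSpin Cfsg.Agent.H160.QSplit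
open Cfsg.Agent.H377
open Cfsg.Agent.H390 Cfsg.Agent.H390.NonAdj Cfsg.Agent.H390.Dec

universe u

section Num

theorem AN_castZ {δ : ℤ} {m q : ℕ} (hδ : δ = 1 ∨ δ = -1) (hq : 1 ≤ q) : ((AN δ m q : ℕ) : ℤ) = (q : ℤ) ^ m - δ := by
  rcases hδ with rfl | rfl
  · rw [AN_one, Nat.cast_sub (Nat.one_le_pow _ _ hq)]
    push_cast
    ring
  · rw [AN_neg]
    push_cast
    ring

theorem lcm_dvd_case {q m : ℕ} {δ : ℤ} (hδ : δ = 1 ∨ δ = -1) (hq : 1 ≤ q) (hm : Odd m) :
    Nat.lcm (AN δ m q) (AN δ 1 q) = AN δ m q := by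
  apply Nat.lcm_eq_left
  rw [← Int.natCast_dvd_natCast, AN_castZ hδ hq, AN_castZ hδ hq, pow_one]
  have hδm : δ ^ m = δ := by
    rcases hδ with rfl | rfl
    · exact one_pow _
    · exact hm.neg_one_pow
  have h1 := sub_dvd_pow_sub_pow (q : ℤ) δ m
  rwa [hδm] at h1

theorem lcm_cop_case {q m : ℕ} {δ ε : ℤ} (hδ : δ = 1 ∨ δ = -1) (hε : ε = 1 ∨ ε = -1) (hq : q % 2 = 0) (hq2 : 2 ≤ q)
    (hm : m ≠ 0) (hs : (δ * ε) ^ m = -δ) :
    Nat.lcm (AN δ m q) (AN (δ * ε) 1 q) = AN δ m q * AN (δ * ε) 1 q := by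
  have hδε : δ * ε = 1 ∨ δ * ε = -1 := by
    rcases hδ with h | h <;> rcases hε with h' | h' <;> rw [h, h'] <;> norm_num
  apply Nat.Coprime.lcm_eq_mul
  have ho := AN_odd (δ := δ) hq hq2 hm
  have h1 : (q : ℤ) - δ * ε ∣ (q : ℤ) ^ m - (δ * ε) ^ m := sub_dvd_pow_sub_pow _ _ _
  rw [hs] at h1
  have hg1 : ((Nat.gcd (AN δ m q) (AN (δ * ε) 1 q) : ℕ) : ℤ) ∣ (q : ℤ) ^ m - δ := by
    rw [← AN_castZ hδ (by omega)]
    exact Int.natCast_dvd_natCast.2 (Nat.gcd_dvd_left _ _)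
  have hg2 : ((Nat.gcd (AN δ m q) (AN (δ * ε) 1 q) : ℕ) : ℤ) ∣ (q : ℤ) ^ m - -δ := by
    refine dvd_trans ?_ h1
    have h2 := AN_castZ (m := 1) (q := q) hδε (by omega)
    rw [pow_one] at h2
    rw [← h2]
    exact Int.natCast_dvd_natCast.2 (Nat.gcd_dvd_right _ _)
  have hg3 := dvd_sub hg2 hg1
  have hg4 : ((Nat.gcd (AN δ m q) (AN (δ * ε) 1 q) : ℕ) : ℤ) ∣ 2 := by
    have h5 : (q : ℤ) ^ m - -δ - ((q : ℤ) ^ m - δ) = 2 * δ := by ring
    rw [h5] at hg3
    have h6 : (2 : ℤ) * δ ∣ 2 := by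
      rcases hδ with h | h <;> rw [h] <;> norm_num
    exact hg3.trans h6
  have hg5 : Nat.gcd (AN δ m q) (AN (δ * ε) 1 q) ∣ 2 := by exact_mod_cast hg4
  rcases (Nat.dvd_prime Nat.prime_two).1 hg5 with h6 | h6
  · exact h6
  · exfalso
    have h7 := Odd.of_dvd_nat ho (Nat.gcd_dvd_left (AN δ m q) (AN (δ * ε) 1 q))
    rw [h6] at h7
    exact absurd h7 (by decide)

theorem gcd_even {q : ℕ} (hq : q % 2 = 0) (hq2 : 2 ≤ q) {n : ℕ} (hn : n ≠ 0) :
    Nat.gcd 2 (q - 1) = 1 ∧ Nat.gcd 4 (q ^ n - 1) = 1 ∧ Nat.gcd 4 (q ^ n + 1) = 1 := by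
  have h1 : 2 ∣ q ^ n := (Nat.dvd_of_mod_eq_zero hq).trans (dvd_pow_self q hn)
  have h2 : 1 ≤ q ^ n := Nat.one_le_pow _ _ (by omega)
  have key : ∀ N, N % 2 = 1 → Nat.Coprime 4 N := by
    intro N hN
    exact Nat.Coprime.pow_left 2 ((Nat.coprime_two_left).2 (Nat.odd_iff.2 hN))
  refine ⟨(Nat.coprime_two_left).2 (Nat.odd_iff.2 (by omega)), key _ (by omega), key _ (by omega)⟩

theorem ttor_plus_two {q n i : ℕ} (hn : 4 ≤ n) (hq : q % 2 = 0) (hq2 : 2 ≤ q) {δ : ℤ} (hi : PartC n i δ) :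
    ttor (.oplus n) q i = Nat.lcm (AN δ (n - 1) q) (AN (δ * 1) 1 q) := by
  obtain ⟨hg1, hg2, -⟩ := gcd_even hq hq2 (n := n) (by omega)
  rcases hi with ⟨h1, rfl⟩ | ⟨h1, h2, rfl⟩
  · rcases Nat.even_or_odd (n - 1) with h3 | h3
    · rw [lcm_cop_case (Or.inr rfl) (Or.inl rfl) hq hq2 (by omega) (by rw [mul_one, h3.neg_one_pow, neg_neg])]
      rw [Nat.even_iff] at h3
      rw [ttor, if_neg (by omega), if_neg (by omega), if_neg (by omega), hg2, Nat.div_one, mul_one, AN_neg, AN_neg,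
        pow_one]
    · rw [mul_one, lcm_dvd_case (Or.inr rfl) (by omega) h3]
      rw [Nat.odd_iff] at h3
      rw [ttor, if_neg (by omega), if_neg (by omega), if_pos (by omega), hg1, Nat.div_one, AN_neg]
  · rw [mul_one, lcm_dvd_case (Or.inl rfl) (by omega) h2, ttor, if_neg (by omega), if_pos h1, hg1, Nat.div_one, AN_one]

theorem ttor_minus_two {q n i : ℕ} (hn : 4 ≤ n) (hq : q % 2 = 0) (hq2 : 2 ≤ q) {δ : ℤ} (hi : PartC n i δ) :
    ttor (.ominus n) q i = Nat.lcm (AN δ (n - 1) q) (AN (δ * -1) 1 q) := by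
  obtain ⟨hg1, -, hg2⟩ := gcd_even hq hq2 (n := n) (by omega)
  rcases hi with ⟨h1, rfl⟩ | ⟨h1, h2, rfl⟩
  · rw [lcm_cop_case (Or.inr rfl) (Or.inr rfl) hq hq2 (by omega) (by norm_num)]
    rw [ttor, if_neg (by omega), if_neg (by omega), hg2, Nat.div_one, show (-1 : ℤ) * -1 = 1 by norm_num, AN_neg,
      AN_one, pow_one]
  · rw [lcm_cop_case (Or.inl rfl) (Or.inr rfl) hq hq2 (by omega) (by rw [one_mul, h2.neg_one_pow])]
    rw [ttor, if_neg (by omega), if_pos h1, hg2, Nat.div_one, one_mul, AN_one, AN_neg, pow_one]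

end Num

section OD2

variable {F : Type} [Field F] [Fintype F] {X : Type u} [Group X] {m : ℕ} {ε : ℤ}

theorem elt_AN {δ : ℤ} {k : ℕ} (hδ : δ = 1 ∨ δ = -1) (hk : 1 ≤ k) : Elt F k δ (AN δ k (Fintype.card F)) := by
  rw [← Nat.card_eq_fintype_card]
  rcases hδ with rfl | rfl
  · rw [AN_one]; exact elt_tor_plus hk dvd_rfl
  · rw [AN_neg]; exact elt_tor_minus hk dvd_rfl

theorem OD.ex_full (h : OD F X m ε) (hq : Fintype.card F % 2 = 0) :
    ∃ x : X, orderOf x = AN ε m (Fintype.card F) := by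
  have hm := h.hm
  refine h.ex _ (Elt.two (by omega) (AN_odd hq ?_ (by omega)) (elt_AN h.hδ (by omega)))
  exact Fintype.one_lt_card

theorem OD.ex_part (h : OD F X m ε) (hq : Fintype.card F % 2 = 0) {δ : ℤ} (hδ : δ = 1 ∨ δ = -1) :
    ∃ x : X, orderOf x = Nat.lcm (AN δ (m - 1) (Fintype.card F)) (AN (δ * ε) 1 (Fintype.card F)) := by
  have hm := h.hm
  have hε := h.hδ
  have hq2 : 2 ≤ Fintype.card F := Fintype.one_lt_card
  have hδε : δ * ε = 1 ∨ δ * ε = -1 := by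
    rcases hδ with h | h <;> rcases hε with h' | h' <;> rw [h, h'] <;> norm_num
  have h1 := (elt_AN (F := F) (k := m - 1) hδ (by omega)).prod (elt_AN (F := F) (k := 1) hδε le_rfl)
  rw [Nat.sub_add_cancel (by omega)] at h1
  have h2 : δ * (δ * ε) = ε := by rcases hδ with h | h <;> rw [h] <;> ring
  rw [h2] at h1
  refine h.ex _ (Elt.two (by omega) ?_ h1)
  have ho1 := AN_odd (δ := δ) (m := m - 1) hq hq2 (by omega)
  have ho2 := AN_odd (δ := δ * ε) (m := 1) hq hq2 one_ne_zero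
  exact Odd.of_dvd_nat (ho1.mul ho2) (Nat.lcm_dvd (dvd_mul_right _ _) (dvd_mul_left _ _))

/-- **The upper bounds, characteristic 2.** -/
theorem OD.ub_two [CharP F 2] {f : ℕ} (h : OD F X m ε) (hF : Fintype.card F = 2 ^ f) {y : X} {r : ℕ} (hr : r.Prime)
    (hr2 : r ≠ 2) (hy : r ∣ orderOf y) (hcop : Nat.Coprime (orderOf y) 2)
    (h3 : 3 ≤ orderOf ((Fintype.card F : ℕ) : ZMod r)) :
    (FullC m (orderOf ((Fintype.card F : ℕ) : ZMod r)) ε → orderOf y ∣ AN ε m (Fintype.card F)) ∧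
    (∀ δ : ℤ, PartC m (orderOf ((Fintype.card F : ℕ) : ZMod r)) δ →
      orderOf y ∣ Nat.lcm (AN δ (m - 1) (Fintype.card F)) (AN (δ * ε) 1 (Fintype.card F))) := by
  have hp2 := Fact.mk Nat.prime_two
  obtain ⟨hm, hε, -, ⟨ι, _, _, Q, hD, hι, hsg, ⟨E⟩⟩, -⟩ := h
  have hodd : Odd (orderOf y) := Nat.coprime_two_left.1 hcop.symm
  obtain ⟨T, hTQ, hT⟩ := exists_lin_of_order hD hodd ⟨E y, by rw [MulEquiv.orderOf_eq]⟩
  have hdim : finrank F (ι → F) = 2 * m := by rw [Module.finrank_fintype_fun_eq_card, hι]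
  constructor
  · intro hi
    obtain ⟨k, hk⟩ := hy
    have hk0 : 0 < k := by
      rcases Nat.eq_zero_or_pos k with h | h
      · have := hodd.pos
        rw [h, mul_zero] at hk; omega
      · exact h
    rw [← hT]
    refine pow_full hD.ND hdim hTQ ((hT _).2 dvd_rfl) hodd.pos hcop hr hr2 (k := k) ?_ ?_ hi h3
    · intro h
      rw [hT] at h
      have h5 := Nat.le_of_dvd hk0 h
      have h6 := hr.two_le
      rw [hk] at h5
      have h7 : 2 * k ≤ r * k := Nat.mul_le_mul_right _ h6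
      omega
    · rw [← pow_mul, hT, hk, mul_comm]
  · intro δ hi
    exact dvd_part hF hD.ND hm hdim hε hsg hTQ hodd hcop hT hr hr2 hy h3 hi

end OD2

/-- **`PΩ^+_2n(q)`, `q` even** -/
theorem top_facts_oplus_two {f n : ℕ} {X : Type u} [Group X] [Finite X] (h : Fam.Is 2 f X (.oplus n)) :
    TopFacts (.oplus n) 2 f X := by
  have hLL := h
  obtain ⟨hn, F, _, _, hch, hF, ⟨E⟩⟩ := h
  obtain ⟨hf, hq0, hq2⟩ := field_data_two hF
  have hod := od_plus hn E
  have hq0' : Fintype.card F % 2 = 0 := by rw [hF]; exact hq0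
  obtain ⟨hg1, hg2, -⟩ := gcd_even hq0 hq2 (n := n) (by omega)
  have hfull : ∀ i, FullC n i 1 → ttor (.oplus n) (2 ^ f) i = AN 1 n (2 ^ f) := by
    intro i hi
    have h1 : i = n := by
      rcases hi with ⟨-, h⟩ | ⟨h, -⟩
      · norm_num at h
      · exact h
    rw [ttor, if_pos h1, hg2, Nat.div_one, AN_one]
  refine ⟨?_, ?_⟩
  · intro i hi
    rcases top_plus_cases hn hi with h1 | ⟨δ, h1⟩
    · rw [hfull i h1, ← hF]
      exact hod.ex_full hq0'
    · rw [ttor_plus_two hn hq0 hq2 h1, ← hF]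
      exact hod.ex_part hq0' (by rcases h1 with ⟨-, h⟩ | ⟨-, -, h⟩ <;> simp [h])
  · intro r hr hrp hi x hx
    have hrp' : r ≠ 2 := fun h => hrp (by rw [h])
    have hco : cls (.oplus n) (2 ^ f) r = orderOf ((Fintype.card F : ℕ) : ZMod r) := by
      rw [cls_eq_co (fun _ h => by cases h), hF]; rfl
    have hcs := top_plus_cases hn hi
    have h3 : 3 ≤ cls (.oplus n) (2 ^ f) r := by
      change (cls (.oplus n) (2 ^ f) r = n ∧ n % 2 = 1) ∨ cls (.oplus n) (2 ^ f) r = 2 * (n - 1) ∨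
        (cls (.oplus n) (2 ^ f) r = n - 1 ∧ n % 2 = 0) at hi
      omega
    have hm : mem (.oplus n) (cls (.oplus n) (2 ^ f) r) ∧ nap (.oplus n) (cls (.oplus n) (2 ^ f) r) := by
      rcases hcs with h1 | ⟨δ, h1⟩
      · have h4 := eta_full h1
        refine ⟨Or.inr ?_, show n < eta _ + 2 by omega⟩
        rcases h1 with ⟨-, h⟩ | ⟨h, h', -⟩
        · norm_num at h
        · exact ⟨h, Nat.odd_iff.1 h'⟩
      · have h4 := eta_part h1
        exact ⟨Or.inl (by omega), show n < eta _ + 2 by omega⟩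
    have hcop := cop_of_top (t := .oplus n) trivial Nat.prime_two hLL hr (two_ne_of_cls hr h3) hrp h3 hm.1 hm.2 hx
    rw [hco] at hcs h3 ⊢
    obtain ⟨hu1, hu2⟩ := hod.ub_two hF hr hrp' hx hcop h3
    rcases hcs with h1 | ⟨δ, h1⟩
    · rw [hfull _ h1, ← hF]
      exact hu1 h1
    · rw [ttor_plus_two hn hq0 hq2 h1, ← hF]
      exact hu2 δ h1

/-- **`PΩ^-_2n(q)`, `q` even** -/
theorem top_facts_ominus_two {f n : ℕ} {X : Type u} [Group X] [Finite X] (h : Fam.Is 2 f X (.ominus n)) :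
    TopFacts (.ominus n) 2 f X := by
  have hLL := h
  obtain ⟨hn, F, _, _, hch, a, b, hF, hab, ⟨E⟩⟩ := h
  obtain ⟨hf, hq0, hq2⟩ := field_data_two hF
  have hod := od_minus hn hab E
  have hq0' : Fintype.card F % 2 = 0 := by rw [hF]; exact hq0
  obtain ⟨hg1, -, hg2⟩ := gcd_even hq0 hq2 (n := n) (by omega)
  have hfull : ∀ i, FullC n i (-1) → ttor (.ominus n) (2 ^ f) i = AN (-1) n (2 ^ f) := by
    intro i hi
    have h1 : i = 2 * n := by
      rcases hi with ⟨h, -⟩ | ⟨-, -, h⟩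
      · exact h
      · norm_num at h
    rw [ttor, if_pos h1, hg2, Nat.div_one, AN_neg]
  refine ⟨?_, ?_⟩
  · intro i hi
    rcases top_minus_cases hn hi with h1 | ⟨δ, h1⟩
    · rw [hfull i h1, ← hF]
      exact hod.ex_full hq0'
    · rw [ttor_minus_two hn hq0 hq2 h1, ← hF]
      exact hod.ex_part hq0' (by rcases h1 with ⟨-, h⟩ | ⟨-, -, h⟩ <;> simp [h])
  · intro r hr hrp hi x hx
    have hrp' : r ≠ 2 := fun h => hrp (by rw [h])
    have hco : cls (.ominus n) (2 ^ f) r = orderOf ((Fintype.card F : ℕ) : ZMod r) := by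
      rw [cls_eq_co (fun _ h => by cases h), hF]; rfl
    have hcs := top_minus_cases hn hi
    have h3 : 3 ≤ cls (.ominus n) (2 ^ f) r := by
      change cls (.ominus n) (2 ^ f) r = 2 * n ∨ cls (.ominus n) (2 ^ f) r = 2 * (n - 1) ∨
        (cls (.ominus n) (2 ^ f) r = n - 1 ∧ n % 2 = 0) at hi
      omega
    have hm : mem (.ominus n) (cls (.ominus n) (2 ^ f) r) ∧ nap (.ominus n) (cls (.ominus n) (2 ^ f) r) := by
      rcases hcs with h1 | ⟨δ, h1⟩
      · have h4 := eta_full h1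
        refine ⟨Or.inr ?_, show n < eta _ + 2 by omega⟩
        rcases h1 with ⟨h, -⟩ | ⟨-, -, h⟩
        · exact h
        · norm_num at h
      · have h4 := eta_part h1
        exact ⟨Or.inl (by omega), show n < eta _ + 2 by omega⟩
    have hcop := cop_of_top (t := .ominus n) trivial Nat.prime_two hLL hr (two_ne_of_cls hr h3) hrp h3 hm.1 hm.2 hx
    rw [hco] at hcs h3 ⊢
    obtain ⟨hu1, hu2⟩ := hod.ub_two hF hr hrp' hx hcop h3
    rcases hcs with h1 | ⟨δ, h1⟩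
    · rw [hfull _ h1, ← hF]
      exact hu1 h1
    · rw [ttor_minus_two hn hq0 hq2 h1, ← hF]
      exact hu2 δ h1

/-- **All classical families, every characteristic.** -/
theorem top_facts_all {p f : ℕ} {t : Fam} {X : Type u} [Group X] [Finite X] (ht : Classical t) (hp : p.Prime)
    (h : Fam.Is p f X t) : TopFacts t p f X := by
  by_cases hp2 : p = 2
  · subst hp2
    cases t with
    | psl n => exact top_facts_psl_all hp h
    | psu n => exact top_facts_psu_all hp h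
    | psp n => exact top_facts_psp_two h
    | oodd n =>
      exfalso
      obtain ⟨-, ho, F, _, _, -, hF, -⟩ := h
      obtain ⟨-, h0, -⟩ := field_data_two hF
      rw [Nat.odd_iff] at ho
      omega
    | oplus n => exact top_facts_oplus_two h
    | ominus n => exact top_facts_ominus_two h
    | _ => exact ht.elim
  · exact top_facts ht hp hp2 h

end Cfsg.Agent.R2.Spec.P1
end
end

-- part: R2/Spec/F1/DuelEx
section
prune_inst 0x4c0607244018200080018009653003e0686000100002b8001d900030e0e86df2bad422721fc901b0219cca2e450784008110000f90250000024000600411800a088a9560273d1ad0cf60007809884000000000000000000000000000000041004000000000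
set_option linter.all false
open scoped Cfsg.Agent.FastGrp

/-!
# The two isolated numbers (helper23): existence of the `Duel`

* `order_fac2` : the order of an element of `G` is `κ h E` with `κ ∣ |K|`, `h ∣ |G / K : S|`, `E` an order of `S`;
* `exists_duel` : `RegT t`, `t` not `psp n`, `oodd n` with `n` even.
-/

set_option autoImplicit false
set_option linter.unusedSectionVars false
set_option linter.unusedVariables false

namespace Cfsg.Agent.R2.Spec.F1

open Subgroup Cfsg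
open Cfsg.Agent.H426.LieFam Cfsg.Agent.R2.Spec Cfsg.Agent.R2.Spec.P1
open Cfsg.Agent.H420.QR
open Cfsg.Agent.R2.Spec.E (PairOK outB Duel)

universe u w

/-- **The order of an element.** -/
theorem order_fac2 {G : Type u} [Group G] [Finite G] {K : Subgroup G} [K.Normal] {S : Subgroup (G ⧸ K)} [S.Normal]
    (x : G) : ∃ κ h E, orderOf x = κ * h * E ∧ κ ∣ Nat.card K ∧ h ∣ S.index ∧ ∃ y : S, orderOf y = E := by
  obtain ⟨a, ha⟩ : ∃ a, a = QuotientGroup.mk' K x := ⟨_, rfl⟩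
  have h1 : orderOf a ∣ orderOf x := by
    rw [ha]
    exact orderOf_map_dvd _ _
  have ha0 : orderOf a ≠ 0 := (orderOf_pos _).ne'
  have h2 : x ^ orderOf a ∈ K := by
    rw [← QuotientGroup.eq_one_iff]
    change QuotientGroup.mk' K (x ^ orderOf a) = 1
    rw [map_pow, ← ha, pow_orderOf_eq_one]
  have h3 : orderOf (x ^ orderOf a) ∣ Nat.card K := by
    rw [← Subgroup.orderOf_mk _ h2]
    exact orderOf_dvd_natCard _
  rw [orderOf_pow_of_dvd ha0 h1] at h3
  obtain ⟨h, hh⟩ : ∃ h, h = orderOf (QuotientGroup.mk' S a) := ⟨_, rfl⟩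
  have h4 : h ∣ S.index := by
    rw [hh]
    exact orderOf_dvd_natCard _
  have h5 : h ∣ orderOf a := by
    rw [hh]
    exact orderOf_map_dvd _ _
  have h6 : a ^ h ∈ S := by
    rw [← QuotientGroup.eq_one_iff]
    change QuotientGroup.mk' S (a ^ h) = 1
    rw [map_pow, hh, pow_orderOf_eq_one]
  have h0 : h ≠ 0 := by
    rw [hh]
    exact (orderOf_pos _).ne'
  refine ⟨orderOf x / orderOf a, h, orderOf a / h, ?_, h3, h4, ⟨a ^ h, h6⟩, ?_⟩
  · rw [mul_assoc, Nat.mul_div_cancel' h5, Nat.div_mul_cancel h1]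
  · rw [Subgroup.orderOf_mk, orderOf_pow_of_dvd h0 h5]

/-- **The order of the outer automorphism group divides `outB`.** -/
theorem out_dvd {t : Fam} (ht : BigS t) {v f : ℕ} {S : Type u} [Group S] [Finite S]
    (hZ : center S = ⊥) (hv : v.Prime) (h : Fam.Is v f S t) : Nat.card (Cfsg.Out S) ∣ outB t v f := by
  have hfin := mulAut_finite S
  have h1 : Nat.card (MulAut S) = Nat.card (Cfsg.Out S) * Nat.card S := by
    have h2 : Nat.card (MulAut S) = Nat.card (Cfsg.Out S) * Nat.card (Cfsg.Inn S) :=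
      Subgroup.card_eq_card_quotient_mul_card_subgroup _
    rwa [card_inn hZ] at h2
  obtain ⟨hc, n1, n2, n3, n4⟩ := ht
  have hvf := Fact.mk hv
  have key : ∀ {M : Type} [Group M] (e : S ≃* M) {b : ℕ}, Nat.card (MulAut M) ∣ b * Nat.card M →
      Nat.card (Cfsg.Out S) ∣ b := by
    intro M _ e b hb
    rw [Nat.card_congr (MulAut.congr e).toEquiv.symm, Nat.card_congr e.toEquiv.symm, h1] at hb
    exact Nat.dvd_of_mul_dvd_mul_right Nat.card_pos hb
  cases t with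
  | psl n =>
    obtain ⟨hn, h4, F, _, _, _, hF, ⟨e⟩⟩ := h
    have hf := one_le_of_card (F := F) (by rw [Nat.card_eq_fintype_card, hF])
    refine key e ?_
    have hcard := S0813.result v f hf hF n hn h4
    rw [Cfsg.Agent.H183.OutPSL.card_pgl_eq hn, hF] at hcard
    rw [hcard]
    change _ ∣ 2 * Nat.gcd n (v ^ f - 1) * f * _
    have hn2 : ¬ n = 2 := fun hn2 => n1 (by rw [hn2])
    rw [if_neg hn2]
    apply dvd_of_eq; ring
  | psu n =>
    obtain ⟨hn, h4, F, _, _, _, hF, ⟨e⟩⟩ := h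
    have hF' : Nat.card F = v ^ (2 * f) := by rw [Nat.card_eq_fintype_card, hF, ← pow_mul, mul_comm]
    have hf2 := one_le_of_card hF'
    have hf : 1 ≤ f := by omega
    refine key e ?_
    rw [S0815.result v f hf rfl hF n hn h4]
    change _ ∣ 2 * Nat.gcd n (v ^ f + 1) * f * _
    apply dvd_of_eq; ring
  | psp n =>
    obtain ⟨hn, h4, F, _, _, _, hF, ⟨e⟩⟩ := h
    have hf := one_le_of_card (F := F) (by rw [Nat.card_eq_fintype_card, hF])
    refine key e ?_
    rw [S0814.result v f hf hF n hn h4]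
    change _ ∣ 2 * f * _
    have hn2 : ¬ (n = 2 ∧ v = 2) := fun hn2 => n4 (by rw [hn2.1])
    rw [if_neg hn2, one_mul]
    exact Nat.mul_dvd_mul_right (Nat.mul_dvd_mul_right (Nat.gcd_dvd_left _ _) _) _
  | oodd n =>
    obtain ⟨hn, h4, F, _, _, _, hF, ⟨e⟩⟩ := h
    have hf := one_le_of_card (F := F) (by rw [Nat.card_eq_fintype_card, hF])
    have hvo : Odd v := (Nat.odd_pow_iff (by omega)).1 h4
    exact key e (dvd_of_eq (S0816.result v f hf hF hvo n hn))
  | oplus n =>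
    obtain ⟨hn, F, _, _, _, hF, ⟨e⟩⟩ := h
    have hf := one_le_of_card (F := F) (by rw [Nat.card_eq_fintype_card, hF])
    refine key e ?_
    rw [S0817.result v f hf hF n hn]
    change _ ∣ (if n = 4 then 24 * f else 8 * f) * _
    have h7 : (if v = 2 then 2 else (if Even (n * (v ^ f - 1) / 2) then 8 else 4)) ∣ 8 := by
      split_ifs
      · exact ⟨4, by norm_num⟩
      · exact dvd_rfl
      · exact ⟨2, by norm_num⟩
    refine Nat.mul_dvd_mul_right ?_ _
    by_cases h8 : n = 4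
    · rw [if_pos h8, if_pos h8, show (24 : ℕ) = 3 * 8 by norm_num]
      exact Nat.mul_dvd_mul_right (Nat.mul_dvd_mul dvd_rfl h7) _
    · rw [if_neg h8, if_neg h8, one_mul]
      exact Nat.mul_dvd_mul_right h7 _
  | ominus n =>
    obtain ⟨hn, F, _, _, _, a, b, hF, hab, ⟨e⟩⟩ := h
    have hf := one_le_of_card (F := F) (by rw [Nat.card_eq_fintype_card, hF])
    refine key e ?_
    rw [S0818.result v f hf hF n hn a b hab]
    change _ ∣ 8 * f * _
    have h7 : (if v = 2 then 2 else (if Even (n * (v ^ f - 1) / 2) then 4 else 8)) ∣ 8 := by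
      split_ifs
      · exact ⟨4, by norm_num⟩
      · exact ⟨2, by norm_num⟩
      · exact dvd_rfl
    exact Nat.mul_dvd_mul_right (Nat.mul_dvd_mul_right h7 _) _
  | g2 => exact hc.elim
  | f4 => exact hc.elim
  | e6 => exact hc.elim
  | e7 => exact hc.elim
  | e8 => exact hc.elim
  | td4 => exact hc.elim
  | te6 => exact hc.elim
  | sz => exact hc.elim
  | tf4 => exact hc.elim
  | ree => exact hc.elim

/-- the isolated classes -/
theorem top_of_iso {t : Fam} (ht : Classical t) {i : ℕ} (h3 : 3 ≤ i) (hm : mem t i) (hi : nap t i) : top t i := by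
  cases t with
  | psl n =>
    change i ≤ n at hm
    change n < i + 2 at hi
    exact ⟨h3, by omega⟩
  | psu n =>
    change i ≤ n at hm
    change n < i + 2 at hi
    exact ⟨h3, by omega⟩
  | psp n =>
    change eta i ≤ n at hm
    change n < eta i + 1 at hi
    change i = 2 * n ∨ (i = n ∧ n % 2 = 1)
    rcases eta_cases i with ⟨h1, h2⟩ | ⟨h1, h2⟩
    · rw [Nat.odd_iff] at h1
      omega
    · omega
  | oodd n =>
    change eta i ≤ n at hm
    change n < eta i + 1 at hi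
    change i = 2 * n ∨ (i = n ∧ n % 2 = 1)
    rcases eta_cases i with ⟨h1, h2⟩ | ⟨h1, h2⟩
    · rw [Nat.odd_iff] at h1
      omega
    · omega
  | oplus n =>
    change eta i + 1 ≤ n ∨ (i = n ∧ n % 2 = 1) at hm
    change n < eta i + 2 at hi
    change (i = n ∧ n % 2 = 1) ∨ i = 2 * (n - 1) ∨ (i = n - 1 ∧ n % 2 = 0)
    rcases eta_cases i with ⟨h1, h2⟩ | ⟨h1, h2⟩
    · rw [Nat.odd_iff] at h1
      omega
    · rw [Nat.even_iff] at h1
      omega
  | ominus n =>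
    change eta i + 1 ≤ n ∨ i = 2 * n at hm
    change n < eta i + 2 at hi
    change i = 2 * n ∨ i = 2 * (n - 1) ∨ (i = n - 1 ∧ n % 2 = 0)
    rcases eta_cases i with ⟨h1, h2⟩ | ⟨h1, h2⟩
    · rw [Nat.odd_iff] at h1
      omega
    · omega
  | _ => exact ht.elim

theorem pair_left {t : Fam} {i j : ℕ} (h : PairOK t i j) (hn : 5 ≤ rk t) :
    3 ≤ i ∧ mem t i ∧ nap t i ∧ rk t < 2 * wt t i ∧ i ≠ j := by
  cases t with
  | psl n =>
    change 5 ≤ n at hn
    change (i = n ∧ j + 1 = n) ∨ (i + 1 = n ∧ j = n) at h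
    exact ⟨by omega, show i ≤ n by omega, show n < i + 2 by omega, show n < 2 * i by omega, by omega⟩
  | psu n =>
    change 5 ≤ n at hn
    change (i = n ∧ j + 1 = n) ∨ (i + 1 = n ∧ j = n) at h
    exact ⟨by omega, show i ≤ n by omega, show n < i + 2 by omega, show n < 2 * i by omega, by omega⟩
  | psp n =>
    change 5 ≤ n at hn
    change n % 2 = 1 ∧ ((i = n ∧ j = 2 * n) ∨ (i = 2 * n ∧ j = n)) at h
    have h1 : eta i = n := by
      rcases h.2 with h2 | h2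
      · rw [h2.1]; exact eta_odd h.1
      · rw [h2.1]; exact eta_two_mul' n
    exact ⟨by omega, show eta i ≤ n by omega, show n < eta i + 1 by omega, show n < 2 * eta i by omega, by omega⟩
  | oodd n =>
    change 5 ≤ n at hn
    change n % 2 = 1 ∧ ((i = n ∧ j = 2 * n) ∨ (i = 2 * n ∧ j = n)) at h
    have h1 : eta i = n := by
      rcases h.2 with h2 | h2
      · rw [h2.1]; exact eta_odd h.1
      · rw [h2.1]; exact eta_two_mul' n
    exact ⟨by omega, show eta i ≤ n by omega, show n < eta i + 1 by omega, show n < 2 * eta i by omega, by omega⟩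
  | oplus n =>
    change 5 ≤ n at hn
    have e := eta_two_mul' (n - 1)
    rcases h with ⟨h0, ⟨h1, h2⟩ | ⟨h1, h2⟩⟩ | ⟨h0, ⟨h1, h2⟩ | ⟨h1, h2⟩⟩
    · have h3 : eta i = n := by rw [h1]; exact eta_odd h0
      exact ⟨by omega, Or.inr ⟨h1, h0⟩, show n < eta i + 2 by omega, show n < 2 * eta i by omega, by omega⟩
    · rw [← h1] at e
      exact ⟨by omega, Or.inl (by omega), show n < eta i + 2 by omega, show n < 2 * eta i by omega, by omega⟩
    · have h3 : eta i = n - 1 := by rw [h1]; exact eta_odd (by omega)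
      exact ⟨by omega, Or.inl (by omega), show n < eta i + 2 by omega, show n < 2 * eta i by omega, by omega⟩
    · rw [← h1] at e
      exact ⟨by omega, Or.inl (by omega), show n < eta i + 2 by omega, show n < 2 * eta i by omega, by omega⟩
  | ominus n =>
    change 5 ≤ n at hn
    have e := eta_two_mul' (n - 1)
    have e' := eta_two_mul' n
    rcases h with ⟨h1, h2⟩ | ⟨h1, h2⟩
    · rw [← h1] at e'
      exact ⟨by omega, Or.inr h1, show n < eta i + 2 by omega, show n < 2 * eta i by omega, by omega⟩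
    · rw [← h1] at e
      exact ⟨by omega, Or.inl (by omega), show n < eta i + 2 by omega, show n < 2 * eta i by omega, by omega⟩
  | _ => exact h.elim

theorem exists_pair {t : Fam} (ht : Classical t) (hex : ∀ n, (t = .psp n ∨ t = .oodd n) → n % 2 = 1) (hn : 5 ≤ rk t) :
    ∃ i j, PairOK t i j := by
  cases t with
  | psl n =>
    change 5 ≤ n at hn
    exact ⟨n, n - 1, Or.inl ⟨rfl, by omega⟩⟩
  | psu n =>
    change 5 ≤ n at hn
    exact ⟨n, n - 1, Or.inl ⟨rfl, by omega⟩⟩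
  | psp n => exact ⟨n, 2 * n, hex n (Or.inl rfl), Or.inl ⟨rfl, rfl⟩⟩
  | oodd n => exact ⟨n, 2 * n, hex n (Or.inr rfl), Or.inl ⟨rfl, rfl⟩⟩
  | oplus n =>
    rcases Nat.mod_two_eq_zero_or_one n with h | h
    · exact ⟨n - 1, 2 * (n - 1), Or.inr ⟨h, Or.inl ⟨rfl, rfl⟩⟩⟩
    · exact ⟨n, 2 * (n - 1), Or.inl ⟨h, Or.inl ⟨rfl, rfl⟩⟩⟩
  | ominus n => exact ⟨2 * n, 2 * (n - 1), Or.inl ⟨rfl, rfl⟩⟩
  | _ => exact ht.elim

section

variable {t : Fam} {p f : ℕ} {L : Type w} [Group L] [Finite L] {G : Type u} [Group G] [Finite G]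
variable {K : Subgroup G} [K.Normal] {S : Subgroup (G ⧸ K)} [S.Normal]
variable {t' : Fam} {v f' : ℕ}

/-- **One of the two isolated numbers, prime to the characteristic of `S`.** -/
theorem LS.clean (h : LS t p f L G) (hL : Fam.Is p f L t) (hR : Red G K S) (hF : Frm G K S t' v f') (hS : BigS t')
    (hp2 : p ≠ 2) (hT : IsoRk t) (hn : 5 ≤ rk t) {i j : ℕ} (hij : PairOK t i j) (hv : ¬ v ∣ ttor t (p ^ f) i) :
    ∃ i' H : ℕ, top t' i' ∧ 3 ≤ i' ∧ mem t' i' ∧ nap t' i' ∧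
      (∀ r : ℕ, r.Prime → cls t (p ^ f) r = i → r ≠ v ∧ r ∣ Nat.card S ∧ cls t' (v ^ f') r = i') ∧
      ttor t (p ^ f) i = H * ttor t' (v ^ f') i' ∧ (∀ r : ℕ, r.Prime → cls t (p ^ f) r = i → ¬ r ∣ H) ∧
      ∃ h κ : ℕ, H ∣ h * κ ∧ 1 ≤ h ∧ h ∣ Nat.card (Cfsg.Out S) ∧ h ∣ outB t' v f' ∧ 1 ≤ κ ∧
        κ ∣ ttor t (p ^ f) i ∧
        (κ ≠ 1 → ∀ w : ℕ, In t (p ^ f) j w → 3 ≤ cls t' (v ^ f') w ∧ An t' (cls t' (v ^ f') w)) ∧
        ∀ s : ℕ, s.Prime → s ∣ κ → s ∣ Nat.card K ∧ s ≠ v ∧ s ≠ p ∧ cls t (p ^ f) s ≤ 2 := by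
  have hq3 := h.q_three hp2
  obtain ⟨hi3, him, hin, hib, hije⟩ := pair_left hij hn
  obtain ⟨hj3, hjm, hjn, hjb, -⟩ := pair_left (pair_symm hij) hn
  have htopi := top_of_iso h.cla hi3 him hin
  have htopj := top_of_iso h.cla hj3 hjm hjn
  have htf := top_facts_all h.cla h.prime hL
  have htf' := top_facts_all hF.cla hF.prime hF.is
  obtain ⟨M, hM⟩ : ∃ M, M = ttor t (p ^ f) i := ⟨_, rfl⟩
  obtain ⟨xL, hxL⟩ := htf.elt _ htopi
  rw [← hM] at hxL
  -- the orders divisible by a prime of the class `i`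
  have hub : ∀ {r o : ℕ}, In t (p ^ f) i r → r ∣ o → (∃ g : G, orderOf g = o) → o ∣ M := by
    intro r o hr hro hg
    obtain ⟨y, hy⟩ := (h.ord _).1 hg
    have := htf.ub r hr.prime (hr.not_dvd h.fpos) (by rw [hr.cls_eq]; exact htopi) y (by rw [hy]; exact hro)
    rw [hr.cls_eq, hy, ← hM] at this
    exact this
  have hubj : ∀ {r o : ℕ}, In t (p ^ f) j r → r ∣ o → (∃ g : G, orderOf g = o) → o ∣ ttor t (p ^ f) j := by
    intro r o hr hro hg
    obtain ⟨y, hy⟩ := (h.ord _).1 hg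
    have := htf.ub r hr.prime (hr.not_dvd h.fpos) (by rw [hr.cls_eq]; exact htopj) y (by rw [hy]; exact hro)
    rw [hr.cls_eq, hy] at this
    exact this
  -- the primes of the class `i`
  have hgood : ∀ {r : ℕ}, In t (p ^ f) i r → ¬ r ∣ Nat.card K * S.index ∧ r ∣ Nat.card S := fun {r} hr =>
    h.good_iso hR hF hp2 hT hr.prime (by rw [hr.cls_eq]; exact hi3) (by rw [hr.cls_eq]; exact him)
      (by rw [hr.cls_eq]; exact hin)
  have hdvd : ∀ {r : ℕ}, In t (p ^ f) i r → r ∣ M := by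
    intro r hr
    have hfr := Fact.mk hr.prime
    obtain ⟨g, hg⟩ := exists_prime_orderOf_dvd_card' (G := G) r (hr.dvd h)
    exact hub hr dvd_rfl ⟨g, hg⟩
  have hnev : ∀ {r : ℕ}, In t (p ^ f) i r → r ≠ v := by
    rintro r hr rfl
    exact hv (by rw [← hM]; exact hdvd hr)
  have hnap : ∀ {r : ℕ}, In t (p ^ f) i r → 3 ≤ cls t' (v ^ f') r ∧ nap t' (cls t' (v ^ f') r) := by
    intro r hr
    refine hF.v_nap hS hr.prime hr.ne_two (hnev hr) (hgood hr).2 fun hg => ?_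
    have := hub hr (Dvd.intro_left _ rfl) (exists_of_S hg)
    exact hv (by rw [← hM]; exact (Dvd.intro _ rfl).trans this)
  obtain ⟨w0, hw0⟩ := exists_in h hq3 hi3 him
  obtain ⟨a1, a2⟩ := hnap hw0
  have hm0 := hF.mem_cls hw0.prime hw0.ne_two (hgood hw0).2 a1
  have huniq : ∀ r : ℕ, r.Prime → cls t (p ^ f) r = i → cls t' (v ^ f') r = cls t' (v ^ f') w0 := by
    intro r hr hri
    have hrI : In t (p ^ f) i r := ⟨hr, hri, hi3, him⟩
    by_cases e : r = w0
    · rw [e]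
    obtain ⟨b1, b2⟩ := hnap hrI
    refine hF.same_top hS hr hw0.prime e (hgood hrI).2 (hgood hw0).2 b1 a1 (hF.nap_big hS b2) (hF.nap_big hS a2)
      (adj_S_of_good hr hw0.prime (hgood hrI).1 (hgood hw0).1 ?_)
    rw [h.adj_iff hrI hw0 e]
    exact fun hna => na_ne hna rfl
  have htop' := top_of_iso hF.cla a1 hm0 a2
  obtain ⟨P, hP⟩ : ∃ P, P = ttor t' (v ^ f') (cls t' (v ^ f') w0) := ⟨_, rfl⟩
  -- the decomposition
  obtain ⟨x, hx⟩ := (h.ord M).2 ⟨xL, hxL⟩
  obtain ⟨κ, a, E, hE, hκ, ha, y, hy⟩ := order_fac2 (K := K) (S := S) x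
  rw [hx] at hE
  have hwM := hdvd hw0
  have hwE : w0 ∣ E := by
    rw [hE] at hwM
    rcases hw0.prime.dvd_mul.1 hwM with h1 | h1
    · exfalso
      rcases hw0.prime.dvd_mul.1 h1 with h2 | h2
      · exact (hgood hw0).1 ((h2.trans hκ).mul_right _)
      · exact (hgood hw0).1 (Dvd.dvd.mul_left (h2.trans ha) _)
    · exact h1
  have hEP : E ∣ P := by
    have := htf'.ub w0 hw0.prime (fun hd => (cls_facts hw0.prime a1).2.1 (hd.trans (dvd_pow_self v hF.f_ne))) htop' y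
      (by rw [hy]; exact hwE)
    rwa [hy, ← hP] at this
  have hPM : P ∣ M := by
    obtain ⟨y', hy'⟩ := htf'.elt _ htop'
    rw [← hP] at hy'
    exact hub hw0 (hwE.trans hEP) (exists_of_S ⟨y', hy'⟩)
  have hM0 : M ≠ 0 := by
    rw [← hxL]
    exact (orderOf_pos xL).ne'
  obtain ⟨H, hH⟩ := hPM
  obtain ⟨c, hc⟩ := hEP
  have hP0 : P ≠ 0 := by
    rintro rfl
    rw [zero_mul] at hH
    exact hM0 hH
  have hE0 : E ≠ 0 := by
    rintro rfl
    rw [zero_mul] at hc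
    exact hP0 hc
  have hκ0 : κ ≠ 0 := by
    rintro rfl
    rw [zero_mul, zero_mul] at hE
    exact hM0 hE
  have ha0 : a ≠ 0 := by
    rintro rfl
    rw [mul_zero, zero_mul] at hE
    exact hM0 hE
  have hHd : H ∣ a * κ := by
    have h1 : E * (c * H) = E * (a * κ) := by
      calc E * (c * H) = (E * c) * H := by ring
        _ = P * H := by rw [← hc]
        _ = M := hH.symm
        _ = κ * a * E := hE
        _ = E * (a * κ) := by ring
    have h2 := Nat.eq_of_mul_eq_mul_left (Nat.pos_of_ne_zero hE0) h1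
    exact ⟨c, by rw [← h2]; ring⟩
  have hfin := mulAut_finite S
  have hfinO : Finite (Cfsg.Out S) := Quotient.finite _
  have haO : a ∣ Nat.card (Cfsg.Out S) := ha.trans hF.index_dvd_out
  have hOpos : 0 < Nat.card (Cfsg.Out S) := Nat.card_pos
  have hκM : κ ∣ M := by rw [hE, mul_assoc]; exact Dvd.intro _ rfl
  have hcop := pair_coprime hij (by omega) (h.q_odd hp2) hq3
  rw [← hM] at hcop
  have hKs : ∀ s : ℕ, s.Prime → s ∣ κ → s ≠ v ∧ s ≠ p ∧ cls t (p ^ f) s ≤ 2 := by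
    intro s hs hsκ
    have hsM := hsκ.trans hκM
    have hsv : s ≠ v := by
      rintro rfl
      exact hv (by rw [← hM]; exact hsM)
    refine ⟨hsv, ?_, h.kprime_cls hR hF hS hn hq3 hs hsv (hsκ.trans hκ)⟩
    rintro rfl
    have hsw : w0 ≠ s := fun e => hw0.not_dvd h.fpos (by rw [e])
    have h1 : ∃ g : G, orderOf g = w0 * s :=
      exists_dvd_order hM0 (((Nat.coprime_primes hw0.prime hs).2 hsw).mul_dvd_of_dvd_of_dvd hwM hsM) ⟨x, hx⟩
    exact (h.adjp_iff hw0).1 h1 hin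
  have hcopH : ∀ r : ℕ, r.Prime → cls t (p ^ f) r = i → ¬ r ∣ H := by
    intro r hr hri hd
    have hrI : In t (p ^ f) i r := ⟨hr, hri, hi3, him⟩
    rcases hr.dvd_mul.1 (hd.trans hHd) with h1 | h1
    · exact (hgood hrI).1 (Dvd.dvd.mul_left (h1.trans ha) _)
    · exact (hgood hrI).1 ((h1.trans hκ).mul_right _)
  refine ⟨cls t' (v ^ f') w0, H, htop', a1, hm0, a2, fun r hr hri => ⟨hnev ⟨hr, hri, hi3, him⟩,
    (hgood ⟨hr, hri, hi3, him⟩).2, huniq r hr hri⟩, by rw [← hM, ← hP, hH, mul_comm], hcopH, a, κ, hHd,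
    Nat.pos_of_ne_zero ha0, haO, haO.trans (out_dvd hS hF.center hF.prime hF.is),
    Nat.pos_of_ne_zero hκ0, by rw [← hM]; exact hκM, ?_, fun s hs hsκ => ⟨hsκ.trans hκ, hKs s hs hsκ⟩⟩
  intro hκ1 w1 hw1
  obtain ⟨s, hs, hsκ⟩ := Nat.exists_prime_and_dvd hκ1
  obtain ⟨b1, b2, b3⟩ := hKs s hs hsκ
  have hg1 : ¬ w1 ∣ Nat.card K * S.index ∧ w1 ∣ Nat.card S :=
    h.good_iso hR hF hp2 hT hw1.prime (by rw [hw1.cls_eq]; exact hj3) (by rw [hw1.cls_eq]; exact hjm)
      (by rw [hw1.cls_eq]; exact hjn)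
  have hws : w1 ≠ s := by
    rintro rfl
    rw [hw1.cls_eq] at b3
    omega
  have hna : ¬ ∃ g : G, orderOf g = s * w1 := by
    intro hg
    have h1 := hubj hw1 (Dvd.intro_left _ rfl) hg
    have h2 : s ∣ ttor t (p ^ f) j := (Dvd.intro _ rfl).trans h1
    have h3 : s ∣ 1 := by
      rw [← hcop]
      exact Nat.dvd_gcd (hsκ.trans hκM) h2
    exact hs.one_lt.ne' (Nat.dvd_one.1 h3)
  exact (hF.k_an hS hs b1 (hsκ.trans hκ) hw1.prime hw1.ne_two hws hg1.2 hna).2

/-- **The other number**, if its primes are isolated in `S`. -/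
theorem LS.iso_num (h : LS t p f L G) (hL : Fam.Is p f L t) (hR : Red G K S) (hF : Frm G K S t' v f')
    (hp2 : p ≠ 2) (hT : IsoRk t) {j w : ℕ} (hw : In t (p ^ f) j w) (hj : nap t j) (h3 : 3 ≤ cls t' (v ^ f') w)
    (htop' : top t' (cls t' (v ^ f') w)) :
    ∃ H' : ℕ, ttor t (p ^ f) j = H' * ttor t' (v ^ f') (cls t' (v ^ f') w) ∧
      ∀ r : ℕ, r.Prime → cls t (p ^ f) r = j → ¬ r ∣ H' := by
  have htf := top_facts_all h.cla h.prime hL
  have htf' := top_facts_all hF.cla hF.prime hF.is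
  have htopj := top_of_iso h.cla hw.reg hw.mem hj
  obtain ⟨M, hM⟩ : ∃ M, M = ttor t (p ^ f) j := ⟨_, rfl⟩
  obtain ⟨xL, hxL⟩ := htf.elt _ htopj
  rw [← hM] at hxL
  have hub : ∀ {r o : ℕ}, In t (p ^ f) j r → r ∣ o → (∃ g : G, orderOf g = o) → o ∣ M := by
    intro r o hr hro hg
    obtain ⟨y, hy⟩ := (h.ord _).1 hg
    have := htf.ub r hr.prime (hr.not_dvd h.fpos) (by rw [hr.cls_eq]; exact htopj) y (by rw [hy]; exact hro)
    rw [hr.cls_eq, hy, ← hM] at this
    exact this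
  have hgood : ∀ {r : ℕ}, In t (p ^ f) j r → ¬ r ∣ Nat.card K * S.index ∧ r ∣ Nat.card S := fun {r} hr =>
    h.good_iso hR hF hp2 hT hr.prime (by rw [hr.cls_eq]; exact hr.reg) (by rw [hr.cls_eq]; exact hr.mem)
      (by rw [hr.cls_eq]; exact hj)
  have hwM : w ∣ M := by
    have hfr := Fact.mk hw.prime
    obtain ⟨g, hg⟩ := exists_prime_orderOf_dvd_card' (G := G) w (hw.dvd h)
    exact hub hw dvd_rfl ⟨g, hg⟩
  obtain ⟨P, hP⟩ : ∃ P, P = ttor t' (v ^ f') (cls t' (v ^ f') w) := ⟨_, rfl⟩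
  obtain ⟨x, hx⟩ := (h.ord M).2 ⟨xL, hxL⟩
  obtain ⟨κ, a, E, hE, hκ, ha, y, hy⟩ := order_fac2 (K := K) (S := S) x
  rw [hx] at hE
  have hwE : w ∣ E := by
    rw [hE] at hwM
    rcases hw.prime.dvd_mul.1 hwM with h1 | h1
    · exfalso
      rcases hw.prime.dvd_mul.1 h1 with h2 | h2
      · exact (hgood hw).1 ((h2.trans hκ).mul_right _)
      · exact (hgood hw).1 (Dvd.dvd.mul_left (h2.trans ha) _)
    · exact h1
  have hEP : E ∣ P := by
    have := htf'.ub w hw.prime (fun hd => (cls_facts hw.prime h3).2.1 (hd.trans (dvd_pow_self v hF.f_ne))) htop' y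
      (by rw [hy]; exact hwE)
    rwa [hy, ← hP] at this
  have hPM : P ∣ M := by
    obtain ⟨y', hy'⟩ := htf'.elt _ htop'
    rw [← hP] at hy'
    exact hub hw (hwE.trans hEP) (exists_of_S ⟨y', hy'⟩)
  have hM0 : M ≠ 0 := by
    rw [← hxL]
    exact (orderOf_pos xL).ne'
  obtain ⟨H, hH⟩ := hPM
  obtain ⟨c, hc⟩ := hEP
  have hP0 : P ≠ 0 := by
    rintro rfl
    rw [zero_mul] at hH
    exact hM0 hH
  have hE0 : E ≠ 0 := by
    rintro rfl
    rw [zero_mul] at hc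
    exact hP0 hc
  have hHd : H ∣ a * κ := by
    have h1 : E * (c * H) = E * (a * κ) := by
      calc E * (c * H) = (E * c) * H := by ring
        _ = P * H := by rw [← hc]
        _ = M := hH.symm
        _ = κ * a * E := hE
        _ = E * (a * κ) := by ring
    have h2 := Nat.eq_of_mul_eq_mul_left (Nat.pos_of_ne_zero hE0) h1
    exact ⟨c, by rw [← h2]; ring⟩
  refine ⟨H, by rw [← hM, ← hP, hH, mul_comm], ?_⟩
  intro r hr hri hd
  have hrI : In t (p ^ f) j r := ⟨hr, hri, hw.reg, hw.mem⟩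
  rcases hr.dvd_mul.1 (hd.trans hHd) with h1 | h1
  · exact (hgood hrI).1 (Dvd.dvd.mul_left (h1.trans ha) _)
  · exact (hgood hrI).1 ((h1.trans hκ).mul_right _)

/-- the radical meets at most one of the two numbers (apart from `v`) -/
theorem LS.not_both (h : LS t p f L G) (hL : Fam.Is p f L t) (hR : Red G K S) (hF : Frm G K S t' v f') (hS : BigS t')
    (hp2 : p ≠ 2) (hT : IsoRk t) (hn : 5 ≤ rk t) {i j : ℕ} (hij : PairOK t i j) {s s' : ℕ} (hs : s.Prime)
    (hs' : s'.Prime) (hsv : s ≠ v) (hsv' : s' ≠ v) (hsK : s ∣ Nat.card K) (hsK' : s' ∣ Nat.card K)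
    (hsM : s ∣ ttor t (p ^ f) i) (hsN : s' ∣ ttor t (p ^ f) j) : False := by
  have hq3 := h.q_three hp2
  have htf := top_facts_all h.cla h.prime hL
  have hcop := pair_coprime hij (by omega) (h.q_odd hp2) hq3
  have key : ∀ {i j : ℕ}, PairOK t i j → Nat.Coprime (ttor t (p ^ f) i) (ttor t (p ^ f) j) →
      ∀ {s : ℕ}, s.Prime → s ≠ v → s ∣ Nat.card K → s ∣ ttor t (p ^ f) i → ∃ w, In t (p ^ f) j w ∧ w ∣ Nat.card S ∧
        w ≠ v ∧ An t' (cls t' (v ^ f') w) := by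
    intro i j hij hcop s hs hsv hsK hsM
    obtain ⟨hj3, hjm, hjn, hjb, -⟩ := pair_left (pair_symm hij) hn
    obtain ⟨w1, hw1⟩ := exists_in h hq3 hj3 hjm
    have hgj : ¬ w1 ∣ Nat.card K * S.index ∧ w1 ∣ Nat.card S :=
      h.good_iso hR hF hp2 hT hw1.prime (by rw [hw1.cls_eq]; exact hj3) (by rw [hw1.cls_eq]; exact hjm)
        (by rw [hw1.cls_eq]; exact hjn)
    have hws : w1 ≠ s := fun e => hgj.1 (by rw [e]; exact hsK.mul_right _)
    have hna : ¬ ∃ g : G, orderOf g = s * w1 := by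
      intro hg
      obtain ⟨y, hy⟩ := (h.ord _).1 hg
      have h1 := htf.ub w1 hw1.prime (hw1.not_dvd h.fpos)
        (by rw [hw1.cls_eq]; exact top_of_iso h.cla hj3 hjm hjn) y (by rw [hy]; exact Dvd.intro_left _ rfl)
      rw [hw1.cls_eq, hy] at h1
      have h3 : s ∣ 1 := by
        rw [← hcop]
        exact Nat.dvd_gcd hsM ((Dvd.intro _ rfl).trans h1)
      exact hs.one_lt.ne' (Nat.dvd_one.1 h3)
    obtain ⟨g1, g2, g3⟩ := hF.k_an hS hs hsv hsK hw1.prime hw1.ne_two hws hgj.2 hna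
    exact ⟨w1, hw1, hgj.2, g1, g3⟩
  obtain ⟨w1, hw1, hw1S, hw1v, hw1A⟩ := key hij hcop hs hsv hsK hsM
  obtain ⟨w0, hw0, hw0S, hw0v, hw0A⟩ := key (pair_symm hij) hcop.symm hs' hsv' hsK' hsN
  obtain ⟨hi3, him, hin, hib, hije⟩ := pair_left hij hn
  obtain ⟨hj3, hjm, hjn, hjb, -⟩ := pair_left (pair_symm hij) hn
  have hnaL : na t i j := na_of_big h.cla ⟨hi3, him, hib⟩ ⟨hj3, hjm, hjb⟩ hije
  exact h.not_adj_S hw0 hw1 hnaL (adj_same' hF.cla hF.prime hF.is hw0.prime hw1.prime hw0.ne_two hw1.ne_two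
    (hw0.ne hw1 (na_ne hnaL)) hw0v hw1v hw0S hw1S (an_unique hF.cla hw0A hw1A))

theorem nap_of_an {t : Fam} (ht : Classical t) {i : ℕ} (hi : An t i) : nap t i := by
  cases t with
  | psl n =>
    have h : i = n := hi
    exact show n < i + 2 by omega
  | psu n =>
    have h : i % 2 = 1 ∧ (i = n ∨ i + 1 = n) := hi
    exact show n < i + 2 by omega
  | psp n =>
    have h : i = 2 * n := hi
    have h1 := eta_two_mul' n
    rw [← h] at h1
    exact show n < eta i + 1 by omega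
  | oodd n =>
    have h : i = 2 * n := hi
    have h1 := eta_two_mul' n
    rw [← h] at h1
    exact show n < eta i + 1 by omega
  | oplus n =>
    have h : i + 2 = 2 * n := hi
    have h1 := eta_two_mul' (n - 1)
    rw [show 2 * (n - 1) = i by omega] at h1
    exact show n < eta i + 2 by omega
  | ominus n =>
    have h : i = 2 * n := hi
    have h1 := eta_two_mul' n
    rw [← h] at h1
    exact show n < eta i + 2 by omega
  | _ => exact ht.elim

/-- **The characteristic of `S` in the second number**: it is of class at most two in `L`, or `S` is of type `Ω⁻`. -/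
theorem LS.v_low (h : LS t p f L G) (hL : Fam.Is p f L t) (hR : Red G K S) (hF : Frm G K S t' v f') (hS : BigS t')
    (hp2 : p ≠ 2) (hvp : v ≠ p) (hT : IsoRk t) (hn : 5 ≤ rk t) {i j : ℕ} (hij : PairOK t i j)
    (hvM : ¬ v ∣ ttor t (p ^ f) i) (hvN : v ∣ ttor t (p ^ f) j) {w1 : ℕ} (hw1 : In t (p ^ f) j w1)
    (hr3 : 3 ≤ cls t' (v ^ f') w1) (hA : An t' (cls t' (v ^ f') w1)) : cls t (p ^ f) v ≤ 2 ∨ ∃ m, t' = .ominus m := by
  by_contra hcon
  rw [not_or, not_le] at hcon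
  obtain ⟨hk, hno⟩ := hcon
  have hq3 := h.q_three hp2
  obtain ⟨hi3, him, hin, hib, hije⟩ := pair_left hij hn
  obtain ⟨hj3, hjm, hjn, hjb, -⟩ := pair_left (pair_symm hij) hn
  have htf := top_facts_all h.cla h.prime hL
  -- `v` as a prime of `L`
  have hv5 := (cls_facts hF.prime (show 3 ≤ cls t (p ^ f) v by omega)).1
  have hvG : v ∣ Nat.card G := by
    rw [card_eq_mul (K := K) (S := S)]
    exact Dvd.dvd.mul_right hF.vdvd _
  have hvp' : ¬ v ∣ p := fun hd => hvp ((Nat.prime_dvd_prime_iff_eq hF.prime h.prime).1 hd)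
  have hvm : mem t (cls t (p ^ f) v) :=
    (h.adj.dvd v hF.prime (by omega) hvp' (by omega)).1 ((h.dvd_iff hF.prime).1 hvG)
  have hvI : In t (p ^ f) (cls t (p ^ f) v) v := ⟨hF.prime, rfl, by omega, hvm⟩
  obtain ⟨a, b, ha, hb, hab, hka, hkb⟩ := top_two' h.cla hn (show 3 ≤ cls t (p ^ f) v by omega) hvm
  -- the second class is adjacent to `v`
  have hw1v : w1 ≠ v := h.iso_ne_v hR hF hS hp2 hvp.symm hT hw1 hjn
  have hjv : ¬ na t (cls t (p ^ f) v) j := by
    intro hna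
    have hne := hvI.ne hw1 (na_ne hna)
    have hw1N : w1 ∣ ttor t (p ^ f) j := by
      have hfr := Fact.mk hw1.prime
      obtain ⟨y, hy⟩ := exists_prime_orderOf_dvd_card' (G := L) w1 ((h.dvd_iff hw1.prime).1 (hw1.dvd h))
      have := htf.ub w1 hw1.prime (hw1.not_dvd h.fpos)
        (by rw [hw1.cls_eq]; exact top_of_iso h.cla hj3 hjm hjn) y (by rw [hy])
      rw [hw1.cls_eq, hy] at this
      exact this
    obtain ⟨x, hx⟩ := htf.elt _ (top_of_iso h.cla hj3 hjm hjn)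
    have hN0 : ttor t (p ^ f) j ≠ 0 := by rw [← hx]; exact (orderOf_pos x).ne'
    have h1 : ∃ g : G, orderOf g = v * w1 := exists_dvd_order hN0
      (((Nat.coprime_primes hF.prime hw1.prime).2 hne).mul_dvd_of_dvd_of_dvd hvN hw1N) ((h.ord _).2 ⟨x, hx⟩)
    exact (h.adj_iff hvI hw1 hne).1 h1 hna
  -- a third class
  obtain ⟨l, hl, hli, hlj, hkl⟩ : ∃ l, Big t l ∧ l ≠ i ∧ l ≠ j ∧ na t (cls t (p ^ f) v) l := by
    by_cases h1 : a = i
    · refine ⟨b, hb, fun h2 => hab (by rw [h1, h2]), fun h2 => hjv (by rw [← h2]; exact hkb), hkb⟩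
    · exact ⟨a, ha, h1, fun h2 => hjv (by rw [← h2]; exact hka), hka⟩
  obtain ⟨w2, hw2⟩ := exists_in h hq3 hl.1 hl.2.1
  obtain ⟨w0, hw0⟩ := exists_in h hq3 hi3 him
  have hgj : ¬ w1 ∣ Nat.card K * S.index ∧ w1 ∣ Nat.card S :=
    h.good_iso hR hF hp2 hT hw1.prime (by rw [hw1.cls_eq]; exact hj3) (by rw [hw1.cls_eq]; exact hjm)
      (by rw [hw1.cls_eq]; exact hjn)
  have hgi : ¬ w0 ∣ Nat.card K * S.index ∧ w0 ∣ Nat.card S :=
    h.good_iso hR hF hp2 hT hw0.prime (by rw [hw0.cls_eq]; exact hi3) (by rw [hw0.cls_eq]; exact him)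
      (by rw [hw0.cls_eq]; exact hin)
  have hw0v : w0 ≠ v := h.iso_ne_v hR hF hS hp2 hvp.symm hT hw0 hin
  have hw2v : w2 ≠ v := (hvI.ne hw2 (na_ne hkl)).symm
  have hna2 : ¬ ∃ g : G, orderOf g = v * w2 := fun hg => (h.adj_iff hvI hw2 hw2v.symm).1 hg hkl
  have hg2 := hF.good_of_na_v hS hw2.prime hw2.five hw2v (hw2.dvd h) hna2
  have hna0 : ¬ ∃ g : G, orderOf g = v * w0 := by
    rintro ⟨g, hg⟩
    obtain ⟨y, hy⟩ := (h.ord _).1 ⟨g, hg⟩
    have := htf.ub w0 hw0.prime (hw0.not_dvd h.fpos)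
      (by rw [hw0.cls_eq]; exact top_of_iso h.cla hi3 him hin) y (by rw [hy]; exact Dvd.intro_left _ rfl)
    rw [hw0.cls_eq, hy] at this
    exact hvM ((Dvd.intro _ rfl).trans this)
  have hna1 : ¬ ∃ g : S, orderOf g = v * w1 := by
    intro hg
    have h2 := (adjFacts hF.cla hF.prime hF.is).adjp w1 hw1.prime hw1.ne_two
      (fun hd => hw1v ((Nat.prime_dvd_prime_iff_eq hw1.prime hF.prime).1 hd)) hr3
      (hF.mem_cls hw1.prime hw1.ne_two hgj.2 hr3)
    exact h2.1 (by rwa [mul_comm]) (nap_of_an hF.cla hA)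
  have n01 := h.not_adj_S (S := S) hw0 hw1 (na_of_big h.cla ⟨hi3, him, hib⟩ ⟨hj3, hjm, hjb⟩ hije)
  have n02 := h.not_adj_S (S := S) hw0 hw2 (na_of_big h.cla ⟨hi3, him, hib⟩ hl (Ne.symm hli))
  have n12 := h.not_adj_S (S := S) hw1 hw2 (na_of_big h.cla ⟨hj3, hjm, hjb⟩ hl (Ne.symm hlj))
  have d01 := hw0.ne hw1 hije
  have d02 := hw0.ne hw2 (Ne.symm hli)
  have d12 := hw1.ne hw2 (Ne.symm hlj)
  have hsym : ∀ {x y : ℕ}, (¬ ∃ g : S, orderOf g = x * y) → ¬ ∃ g : S, orderOf g = y * x := by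
    intro x y hxy
    rwa [mul_comm]
  have hfew := hF.v_few (X := {w0, w1, w2}) (by
    intro x hx
    rw [Finset.mem_insert, Finset.mem_insert, Finset.mem_singleton] at hx
    rcases hx with rfl | rfl | rfl
    · exact ⟨hw0.prime, hw0.five, hw0v, hgi.2⟩
    · exact ⟨hw1.prime, hw1.five, hw1v, hgj.2⟩
    · exact ⟨hw2.prime, hw2.five, hw2v, hg2.2⟩) (by
    intro x hx
    rw [Finset.mem_insert, Finset.mem_insert, Finset.mem_singleton] at hx
    rcases hx with rfl | rfl | rfl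
    · exact fun hg => hna0 (exists_of_S hg)
    · exact hna1
    · exact fun hg => hna2 (exists_of_S hg)) (by
    intro x hx y hy hxy
    rw [Finset.mem_insert, Finset.mem_insert, Finset.mem_singleton] at hx hy
    rcases hx with rfl | rfl | rfl <;> rcases hy with rfl | rfl | rfl
    · exact absurd rfl hxy
    · exact n01
    · exact n02
    · exact hsym n01
    · exact absurd rfl hxy
    · exact n12
    · exact hsym n02
    · exact hsym n12
    · exact absurd rfl hxy)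
  have hcard : ({w0, w1, w2} : Finset ℕ).card = 3 := Finset.card_eq_three.2 ⟨w0, w1, w2, d01, d02, d12, rfl⟩
  exact hno (hfew.2 (by rw [hcard])).1

/-- **The second number if the radical meets the first one.** -/
theorem LS.gam (h : LS t p f L G) (hL : Fam.Is p f L t) (hR : Red G K S) (hF : Frm G K S t' v f') (hS : BigS t')
    (hp2 : p ≠ 2) (hT : IsoRk t) (hn : 5 ≤ rk t) {i j : ℕ} (hij : PairOK t i j) {s : ℕ} (hs : s.Prime) (hsv : s ≠ v)
    (hsK : s ∣ Nat.card K) (hsM : s ∣ ttor t (p ^ f) i) {w : ℕ} (hw : In t (p ^ f) j w)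
    (h3 : 3 ≤ cls t' (v ^ f') w) (htop' : top t' (cls t' (v ^ f') w)) :
    ∃ h' e : ℕ, (∀ H' : ℕ, ttor t (p ^ f) j = H' * ttor t' (v ^ f') (cls t' (v ^ f') w) → H' ∣ h' * v ^ e) ∧
      h' ∣ outB t' v f' ∧ v ^ e ∣ ttor t (p ^ f) j := by
  obtain ⟨hj3, hjm, hj, hjb, -⟩ := pair_left (pair_symm hij) hn
  have htf := top_facts_all h.cla h.prime hL
  have htf' := top_facts_all hF.cla hF.prime hF.is
  have htopj := top_of_iso h.cla hw.reg hw.mem hj
  obtain ⟨M, hM⟩ : ∃ M, M = ttor t (p ^ f) j := ⟨_, rfl⟩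
  obtain ⟨xL, hxL⟩ := htf.elt _ htopj
  rw [← hM] at hxL
  have hub : ∀ {r o : ℕ}, In t (p ^ f) j r → r ∣ o → (∃ g : G, orderOf g = o) → o ∣ M := by
    intro r o hr hro hg
    obtain ⟨y, hy⟩ := (h.ord _).1 hg
    have := htf.ub r hr.prime (hr.not_dvd h.fpos) (by rw [hr.cls_eq]; exact htopj) y (by rw [hy]; exact hro)
    rw [hr.cls_eq, hy, ← hM] at this
    exact this
  have hgood : ∀ {r : ℕ}, In t (p ^ f) j r → ¬ r ∣ Nat.card K * S.index ∧ r ∣ Nat.card S := fun {r} hr =>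
    h.good_iso hR hF hp2 hT hr.prime (by rw [hr.cls_eq]; exact hr.reg) (by rw [hr.cls_eq]; exact hr.mem)
      (by rw [hr.cls_eq]; exact hj)
  have hwM : w ∣ M := by
    have hfr := Fact.mk hw.prime
    obtain ⟨g, hg⟩ := exists_prime_orderOf_dvd_card' (G := G) w (hw.dvd h)
    exact hub hw dvd_rfl ⟨g, hg⟩
  obtain ⟨P, hP⟩ : ∃ P, P = ttor t' (v ^ f') (cls t' (v ^ f') w) := ⟨_, rfl⟩
  obtain ⟨x, hx⟩ := (h.ord M).2 ⟨xL, hxL⟩
  obtain ⟨κ, a, E, hE, hκ, ha, y, hy⟩ := order_fac2 (K := K) (S := S) x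
  rw [hx] at hE
  have hwE : w ∣ E := by
    rw [hE] at hwM
    rcases hw.prime.dvd_mul.1 hwM with h1 | h1
    · exfalso
      rcases hw.prime.dvd_mul.1 h1 with h2 | h2
      · exact (hgood hw).1 ((h2.trans hκ).mul_right _)
      · exact (hgood hw).1 (Dvd.dvd.mul_left (h2.trans ha) _)
    · exact h1
  have hEP : E ∣ P := by
    have := htf'.ub w hw.prime (fun hd => (cls_facts hw.prime h3).2.1 (hd.trans (dvd_pow_self v hF.f_ne))) htop' y
      (by rw [hy]; exact hwE)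
    rwa [hy, ← hP] at this
  have hM0 : M ≠ 0 := by
    rw [← hxL]
    exact (orderOf_pos xL).ne'
  have hκM : κ ∣ M := by rw [hE, mul_assoc]; exact Dvd.intro _ rfl
  have hκ0 : κ ≠ 0 := by
    rintro rfl
    rw [zero_mul, zero_mul] at hE
    exact hM0 hE
  -- only `v`
  obtain ⟨e, he⟩ : ∃ e, κ = v ^ e := by
    refine ⟨_, Nat.eq_prime_pow_of_unique_prime_dvd hκ0 fun {s'} hs' hsκ' => ?_⟩
    by_contra hne
    exact h.not_both hL hR hF hS hp2 hT hn hij hs hs' hsv hne hsK (hsκ'.trans hκ) hsM (by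
      rw [← hM]; exact hsκ'.trans hκM)
  obtain ⟨c, hc⟩ := hEP
  refine ⟨a, e, ?_, ?_, by rw [← he, ← hM]; exact hκM⟩
  · intro H hH
    rw [← hM, ← hP] at hH
    have hP0 : P ≠ 0 := by
      rintro rfl
      rw [mul_zero] at hH
      exact hM0 hH
    have hE0 : E ≠ 0 := by
      rintro rfl
      rw [zero_mul] at hc
      exact hP0 hc
    have h1 : E * (c * H) = E * (a * κ) := by
      calc E * (c * H) = H * (E * c) := by ring
        _ = H * P := by rw [← hc]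
        _ = M := hH.symm
        _ = κ * a * E := hE
        _ = E * (a * κ) := by ring
    have h2 := Nat.eq_of_mul_eq_mul_left (Nat.pos_of_ne_zero hE0) h1
    exact ⟨c, by rw [← he, ← h2]; ring⟩
  · have hfin := mulAut_finite S
    have hfinO : Finite (Cfsg.Out S) := Quotient.finite _
    exact (ha.trans hF.index_dvd_out).trans (out_dvd hS hF.center hF.prime hF.is)

/-- **The duel for a prime of the second class which is regular in `S`.** -/
theorem LS.duel_of (h : LS t p f L G) (hL : Fam.Is p f L t) (hR : Red G K S) (hF : Frm G K S t' v f') (hvp : v ≠ p)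
    (hp2 : p ≠ 2) (hT : IsoRk t) (hn : 5 ≤ rk t) (hS : BigS t') {i j : ℕ} (hij : PairOK t i j)
    (hv : ¬ v ∣ ttor t (p ^ f) i)
    (hdirty : (∃ s : ℕ, s.Prime ∧ s ∣ Nat.card K ∧ s ∣ ttor t (p ^ f) i) → v ∣ ttor t (p ^ f) j)
    {w1 : ℕ} (hw1 : In t (p ^ f) j w1) (hreg : 3 ≤ cls t' (v ^ f') w1) :
    ∃ i' j' H : ℕ, Duel t p f i j t' v f' i' j' w1 H S := by
  have hq3 := h.q_three hp2
  obtain ⟨hi3, him, hin, hib, hije⟩ := pair_left hij hn
  obtain ⟨hj3, hjm, hjn, hjb, -⟩ := pair_left (pair_symm hij) hn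
  have htopj := top_of_iso h.cla hj3 hjm hjn
  have htf := top_facts_all h.cla h.prime hL
  obtain ⟨i', H, c1, c2, c3, c4, c5, c6, c7, a, κ, d1, d2, d3, d4, d5, d6, d7, d8⟩ :=
    h.clean hL hR hF hS hp2 hT hn hij hv
  have hgj : ¬ w1 ∣ Nat.card K * S.index ∧ w1 ∣ Nat.card S :=
    h.good_iso hR hF hp2 hT hw1.prime (by rw [hw1.cls_eq]; exact hj3) (by rw [hw1.cls_eq]; exact hjm)
      (by rw [hw1.cls_eq]; exact hjn)
  obtain ⟨w0, hw0⟩ := exists_in h hq3 hi3 him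
  obtain ⟨e1, e2, e3⟩ := c5 w0 hw0.prime hw0.cls_eq
  have hnaL : na t i j := na_of_big h.cla ⟨hi3, him, hib⟩ ⟨hj3, hjm, hjb⟩ hije
  have hne := hw0.ne hw1 (na_ne hnaL)
  have hnaS := h.not_adj_S (S := S) hw0 hw1 hnaL
  rw [hF.na_of hw0.prime hw1.prime hne (by rw [e3]; exact c2) hreg e2 hgj.2, not_not, e3] at hnaS
  refine ⟨i', cls t' (v ^ f') w1, H, ?_⟩
  exact
    { p_prime := h.prime
      p_ne := hp2
      f_pos := h.fpos
      cla := h.cla
      pair := hij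
      v_prime := hF.prime
      vp := hvp
      f'_pos := Nat.pos_of_ne_zero hF.f_ne
      big := hS
      is := hF.is
      vM := hv
      topi' := c1
      eqM := c6
      copH := c7
      copMN := pair_coprime hij (by omega) (h.q_odd hp2) hq3
      primi := fun r hr hri => ⟨(c5 r hr hri).2.1, (c5 r hr hri).2.2⟩
      w_prime := hw1.prime
      w5 := hw1.five
      clsw := hw1.cls_eq
      clsw' := rfl
      j'3 := hreg
      memj' := hF.mem_cls hw1.prime hw1.ne_two hgj.2 hreg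
      na' := hnaS
      wS := hgj.2
      ordw := by
        intro y hy
        obtain ⟨z, hz⟩ := (h.ord _).1 (exists_of_S ⟨y, rfl⟩)
        have := htf.ub w1 hw1.prime (hw1.not_dvd h.fpos) (by rw [hw1.cls_eq]; exact htopj) z (by rw [hz]; exact hy)
        rw [hw1.cls_eq, hz] at this
        exact this
      copH' := fun ht => h.iso_num hL hR hF hp2 hT hw1 hjn hreg ht
      cof := ⟨a, κ, d1, d4, d5, d6, fun hκ => by
        obtain ⟨s, hs, hsκ⟩ := Nat.exists_prime_and_dvd hκ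
        obtain ⟨k1, k2, k3, k4⟩ := d8 s hs hsκ
        have hvN := hdirty ⟨s, hs, k1, hsκ.trans d6⟩
        have hA := (d7 hκ w1 hw1).2
        have hmem' := hF.mem_cls hw1.prime hw1.ne_two hgj.2 hreg
        obtain ⟨h', e, g1, g2, g3⟩ := h.gam hL hR hF hS hp2 hT hn hij hs k2 k1 (hsκ.trans d6) hw1 hreg
          (top_of_iso hF.cla hreg hmem' (nap_of_an hF.cla hA))
        exact ⟨hA, hvN, h', e, g1, g2, g3, h.v_low hL hR hF hS hp2 hvp hT hn hij hv hvN hw1 hreg hA⟩,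
        fun s hs hsκ => (d8 s hs hsκ).2⟩ }

/-- one of the two numbers is prime to `v`; if the radical meets it then `v` divides the other number -/
theorem LS.exists_clean (h : LS t p f L G) (hL : Fam.Is p f L t) (hR : Red G K S) (hF : Frm G K S t' v f')
    (hS : BigS t') (hp2 : p ≠ 2) (hT : IsoRk t) (hn : 5 ≤ rk t)
    (hex : ∀ n, (t = .psp n ∨ t = .oodd n) → n % 2 = 1) : ∃ i j, PairOK t i j ∧ ¬ v ∣ ttor t (p ^ f) i ∧
      ((∃ s : ℕ, s.Prime ∧ s ∣ Nat.card K ∧ s ∣ ttor t (p ^ f) i) → v ∣ ttor t (p ^ f) j) := by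
  obtain ⟨i, j, hij⟩ := exists_pair h.cla hex hn
  have hcop := pair_coprime hij (by omega) (h.q_odd hp2) (h.q_three hp2)
  by_cases h1 : v ∣ ttor t (p ^ f) i
  · refine ⟨j, i, pair_symm hij, fun h2 => ?_, fun _ => h1⟩
    have h3 : v ∣ 1 := by
      rw [← hcop]
      exact Nat.dvd_gcd h1 h2
    exact hF.prime.one_lt.ne' (Nat.dvd_one.1 h3)
  · by_cases h2 : v ∣ ttor t (p ^ f) j
    · exact ⟨i, j, hij, h1, fun _ => h2⟩
    · by_cases h3 : ∃ s : ℕ, s.Prime ∧ s ∣ Nat.card K ∧ s ∣ ttor t (p ^ f) i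
      · refine ⟨j, i, pair_symm hij, h2, fun h4 => ?_⟩
        exfalso
        obtain ⟨s, hs, hsK, hsM⟩ := h3
        obtain ⟨s', hs', hsK', hsN⟩ := h4
        exact h.not_both hL hR hF hS hp2 hT hn hij hs hs' (fun e => h1 (by rw [← e]; exact hsM))
          (fun e => h2 (by rw [← e]; exact hsN)) hsK hsK' hsM hsN
      · exact ⟨i, j, hij, h1, fun h4 => absurd h4 h3⟩

/-- **Existence of the duel.** -/
theorem exists_duel (h : LS t p f L G) (hL : Fam.Is p f L t) (hR : Red G K S) (hF : Frm G K S t' v f') (hvp : v ≠ p)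
    (hp2 : p ≠ 2) (hT : RegT t) (hS : BigS t') (hex : ∀ n, (t = .psp n ∨ t = .oodd n) → n % 2 = 1) :
    ∃ i j i' j' w H : ℕ, Duel t p f i j t' v f' i' j' w H S := by
  have hn := rk_five hT
  have hT' := small_isoRk hT
  have hq3 := h.q_three hp2
  obtain ⟨i, j, hij, hv, hd⟩ := h.exists_clean hL hR hF hS hp2 hT' hn hex
  obtain ⟨hj3, hjm, hjn, hjb, -⟩ := pair_left (pair_symm hij) hn
  obtain ⟨w1, hw1⟩ := exists_in h hq3 hj3 hjm
  have hwv := h.iso_ne_v hR hF hS hp2 hvp.symm hT' hw1 hjn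
  obtain ⟨i', j', H, hD⟩ := h.duel_of hL hR hF hvp hp2 hT' hn hS hij hv hd hw1
    (h.iso_reg hR hF hS hp2 hT hw1 hwv hjn)
  exact ⟨i, j, i', j', w1, H, hD⟩

/-- **Existence of the duel, or a prime of the second class irregular in `S`** (`IsoRk t`). -/
theorem exists_duel_or (h : LS t p f L G) (hL : Fam.Is p f L t) (hR : Red G K S) (hF : Frm G K S t' v f')
    (hvp : v ≠ p) (hp2 : p ≠ 2) (hT : IsoRk t) (hn : 5 ≤ rk t) (hS : BigS t')
    (hex : ∀ n, (t = .psp n ∨ t = .oodd n) → n % 2 = 1) :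
    (∃ i j i' j' w H : ℕ, Duel t p f i j t' v f' i' j' w H S) ∨
    ∃ i j i' H a : ℕ, PairOK t i j ∧ ¬ v ∣ ttor t (p ^ f) i ∧ top t' i' ∧ 3 ≤ i' ∧ mem t' i' ∧ nap t' i' ∧
      (∀ r : ℕ, r.Prime → cls t (p ^ f) r = i → r ≠ v ∧ r ∣ Nat.card S ∧ cls t' (v ^ f') r = i') ∧
      ttor t (p ^ f) i = H * ttor t' (v ^ f') i' ∧ (∀ r : ℕ, r.Prime → cls t (p ^ f) r = i → ¬ r ∣ H) ∧
      H ∣ a ∧ 1 ≤ a ∧ a ∣ Nat.card (Cfsg.Out S) ∧ a ∣ outB t' v f' ∧
      (∀ r : ℕ, r.Prime → cls t (p ^ f) r = j → r ≠ v ∧ ¬ r ∣ Nat.card K * S.index ∧ r ∣ Nat.card S ∧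
        cls t' (v ^ f') r ≤ 2) ∧
      ∀ r : ℕ, r.Prime → cls t (p ^ f) r = j → ∀ x : S, r ∣ orderOf x → orderOf x ∣ ttor t (p ^ f) j := by
  have hq3 := h.q_three hp2
  obtain ⟨i, j, hij, hv, hd⟩ := h.exists_clean hL hR hF hS hp2 hT hn hex
  obtain ⟨hj3, hjm, hjn, hjb, -⟩ := pair_left (pair_symm hij) hn
  by_cases hex2 : ∃ w1, In t (p ^ f) j w1 ∧ 3 ≤ cls t' (v ^ f') w1
  · obtain ⟨w1, hw1, hreg⟩ := hex2
    left
    obtain ⟨i', j', H, hD⟩ := h.duel_of hL hR hF hvp hp2 hT hn hS hij hv hd hw1 hreg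
    exact ⟨i, j, i', j', w1, H, hD⟩
  · right
    push Not at hex2
    obtain ⟨i', H, c1, c2, c3, c4, c5, c6, c7, a, κ, d1, d2, d3, d4, d5, d6, d7, d8⟩ :=
      h.clean hL hR hF hS hp2 hT hn hij hv
    have htopj := top_of_iso h.cla hj3 hjm hjn
    have htf := top_facts_all h.cla h.prime hL
    have hκ : κ = 1 := by
      by_contra hcon
      obtain ⟨w1, hw1⟩ := exists_in h hq3 hj3 hjm
      have := (d7 hcon w1 hw1).1
      have := hex2 w1 hw1
      omega
    refine ⟨i, j, i', H, a, hij, hv, c1, c2, c3, c4, c5, c6, c7, by rw [hκ, mul_one] at d1; exact d1, d2, d3, d4, ?_, ?_⟩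
    · intro r hr hrj
      have hrI : In t (p ^ f) j r := ⟨hr, hrj, hj3, hjm⟩
      obtain ⟨g1, g2⟩ := h.good_iso hR hF hp2 hT hr (by rw [hrj]; exact hj3) (by rw [hrj]; exact hjm)
        (by rw [hrj]; exact hjn)
      have := hex2 r hrI
      exact ⟨h.iso_ne_v hR hF hS hp2 hvp.symm hT hrI hjn, g1, g2, by omega⟩
    · intro r hr hrj x hx
      have hrI : In t (p ^ f) j r := ⟨hr, hrj, hj3, hjm⟩
      obtain ⟨z, hz⟩ := (h.ord _).1 (exists_of_S ⟨x, rfl⟩)
      have := htf.ub r hr (hrI.not_dvd h.fpos) (by rw [hrj]; exact htopj) z (by rw [hz]; exact hx)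
      rw [hrj, hz] at this
      exact this

end

end Cfsg.Agent.R2.Spec.F1
end

-- part: R2/Spec/F1/ExcFrm
section
set_option linter.all false
open scoped Cfsg.Agent.FastGrp

/-!
# The frame, `S` exceptional (helper23)

`ExFrm G K S t v f` : `K` nilpotent normal, `S` simple normal in `G / K` with trivial centralizer, `S` exceptional of family
`t` over the field with `v ^ f` elements.

* `ExFrm.kcase` : `r ∣ |K|`, `r ≠ v`, `x ∣ |S|` odd, not adjacent to `r` in `G`: `x = v`, or `x` is not adjacent to `v` in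
  `S`, or `v = 2` and `x` is a Fermat prime, or `t = tf4`;
* `ExFrm.vcase` : `r = v` : `x` is not adjacent to `v` in `S`;
* `ExFrm.fcase` : `r ≥ 5` does not divide `|K|` and divides the index: `x ≠ v` and `x ≡ 1 mod r`;
* `ExFrm.bad` : the three cases;
* `LS.ehc` : the field case: the congruences `HC`; `LS.ebad` : class form.
-/

set_option autoImplicit false
set_option linter.unusedSectionVars false
set_option linter.unusedVariables false

namespace Cfsg.Agent.R2.Spec.F1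

open Subgroup Cfsg
open Cfsg.Agent.H426.LieFam Cfsg.Agent.R2.Spec Cfsg.Agent.R2.Spec.P1
open Cfsg.Agent.H420.QR

universe u w

/-- the frame, `S` exceptional -/
structure ExFrm (G : Type u) [Group G] (K : Subgroup G) [K.Normal] (S : Subgroup (G ⧸ K)) [S.Normal] (t : Fam)
    (v f : ℕ) : Prop where
  nil : Group.IsNilpotent ↥K
  simple : IsSimpleGroup ↥S
  nonab : ∃ a b : ↥S, a * b ≠ b * a
  cent : centralizer (S : Set (G ⧸ K)) = ⊥
  exc : Exc t
  prime : v.Prime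
  is : Fam.Is v f ↥S t

/-- Borel–Tits for the exceptional groups except `Sz`, `Ree`, `²F₄` -/
theorem isLieFilt_exc {t : Fam} (ht : Exc t) (h1 : t ≠ .sz) (h2 : t ≠ .ree) (h3 : t ≠ .tf4) {v f : ℕ}
    (hv : v.Prime) {S : Type u} [Group S] (h : Fam.Is v f S t) : Cfsg.Agent.KFacts.RgdLieCharP.IsLieFilt v S := by
  have key : ∀ {F : Type} [Field F] [Fintype F] {n : ℕ}, Fintype.card F = (v ^ f) ^ n → IsPrimePow (v ^ f) := by
    intro F _ _ n hF
    exact hv.isPrimePow.pow (by have := Cfsg.Agent.R2.Spec.X4.H18.f_pos_of_card hF; omega)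
  cases t with
  | g2 =>
    obtain ⟨h3, F, i1, i2, hch, hF, ⟨e⟩⟩ := h
    refine Or.inr (Or.inr (Or.inr (Or.inr (Or.inr (Or.inr (Or.inl ?_))))))
    exact ⟨F, i1, i2, hch, Or.inl ⟨by rw [hF]; exact h3, ⟨e⟩⟩⟩
  | f4 =>
    obtain ⟨F, i1, i2, hch, hF, ⟨e⟩⟩ := h
    refine Or.inr (Or.inr (Or.inr (Or.inr (Or.inr (Or.inr (Or.inl ?_))))))
    exact ⟨F, i1, i2, hch, Or.inr (Or.inl ⟨e⟩)⟩
  | e6 =>
    obtain ⟨F, i1, i2, hch, hF, ⟨e⟩⟩ := h
    refine Or.inr (Or.inr (Or.inr (Or.inr (Or.inr (Or.inr (Or.inl ?_))))))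
    exact ⟨F, i1, i2, hch, Or.inr (Or.inr (Or.inl ⟨e⟩))⟩
  | e7 =>
    obtain ⟨F, i1, i2, hch, hF, ⟨e⟩⟩ := h
    refine Or.inr (Or.inr (Or.inr (Or.inr (Or.inr (Or.inr (Or.inl ?_))))))
    exact ⟨F, i1, i2, hch, Or.inr (Or.inr (Or.inr (Or.inl ⟨e⟩)))⟩
  | e8 =>
    obtain ⟨F, i1, i2, hch, hF, ⟨e⟩⟩ := h
    refine Or.inr (Or.inr (Or.inr (Or.inr (Or.inr (Or.inr (Or.inl ?_))))))
    exact ⟨F, i1, i2, hch, Or.inr (Or.inr (Or.inr (Or.inr ⟨e⟩)))⟩
  | te6 =>
    obtain ⟨F, i1, i2, hch, hF, ⟨e⟩⟩ := h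
    refine Or.inr (Or.inr (Or.inr (Or.inr (Or.inr (Or.inr (Or.inr ?_))))))
    exact ⟨F, i1, i2, hch, _, key hF, Or.inl ⟨hF, ⟨e⟩⟩⟩
  | td4 =>
    obtain ⟨F, i1, i2, hch, hF, ⟨e⟩⟩ := h
    refine Or.inr (Or.inr (Or.inr (Or.inr (Or.inr (Or.inr (Or.inr ?_))))))
    exact ⟨F, i1, i2, hch, _, key hF, Or.inr ⟨hF, ⟨e⟩⟩⟩
  | sz => exact absurd rfl h1
  | ree => exact absurd rfl h2
  | tf4 => exact absurd rfl h3
  | psl n => exact ht.elim
  | psp n => exact ht.elim
  | psu n => exact ht.elim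
  | oodd n => exact ht.elim
  | oplus n => exact ht.elim
  | ominus n => exact ht.elim

/-- Suzuki groups: the characteristic is isolated -/
theorem sz_isol {v f : ℕ} {S : Type u} [Group S] (h : Fam.Is v f S .sz) {x : ℕ} (hx : x.Prime) (hxv : x ≠ v) :
    ¬ ∃ g : S, orderOf g = x * v := by
  obtain ⟨hv2, m, hm, -, F, _, _, hF, ⟨e⟩⟩ := h
  obtain ⟨e'⟩ := Cfsg.Agent.OddCyclic.ClaimC.SzIso.iso hm hF
  rw [hv2] at hxv ⊢
  rintro ⟨g, hg⟩
  obtain ⟨z, hz⟩ := exists_congr_order (e.trans e'.symm).symm ⟨g, hg⟩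
  have hz1 : z ≠ 1 := by
    rintro rfl
    rw [orderOf_one] at hz
    have := hx.two_le
    omega
  obtain ⟨U, ⟨hU, hzU⟩, -⟩ := Cfsg.Agent.S2238.result hm hF z hz1
  have hfin : Finite ↥(Cfsg.Sz F m) := inferInstance
  have h2 : orderOf z ∣ Nat.card U := by
    rw [← Subgroup.orderOf_mk z hzU]
    exact orderOf_dvd_natCard _
  rw [hz] at h2
  rcases hU with ⟨P, rfl⟩ | ⟨-, hc⟩
  · have hF2 := Fact.mk Nat.prime_two
    obtain ⟨n, hn⟩ := (IsPGroup.iff_card.1 P.isPGroup')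
    rw [hn] at h2
    exact hxv ((Nat.prime_dvd_prime_iff_eq hx Nat.prime_two).1 (hx.dvd_of_dvd_pow ((Dvd.intro _ rfl).trans h2)))
  · have e0 : 2 ∣ 2 ^ (2 * m + 1) := dvd_pow_self 2 (by omega)
    have e2 : 2 ∣ 2 ^ (m + 1) := dvd_pow_self 2 (by omega)
    have e3 : 1 ≤ 2 ^ (2 * m + 1) := Nat.one_le_two_pow
    have e4 : 2 ^ (m + 1) ≤ 2 ^ (2 * m + 1) := Nat.pow_le_pow_right (by norm_num) (by omega)
    have h3 : 2 ∣ Nat.card U := (Dvd.intro_left _ rfl).trans h2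
    simp only [Set.mem_insert_iff, Set.mem_singleton_iff] at hc
    rcases hc with hc | hc | hc <;> rw [hc] at h3 <;> omega

theorem ree_isol {v f : ℕ} {S : Type u} [Group S] (h : Fam.Is v f S .ree) {x : ℕ} (hx : x.Prime) (hx2 : x ≠ 2)
    (hxv : x ≠ v) : ¬ ∃ g : S, orderOf g = x * v := by
  obtain ⟨hv3, m, hm, -, F, _, _, hF, ⟨e⟩⟩ := h
  rw [hv3] at hxv ⊢
  intro hg
  have hg' := exists_congr_order e.symm hg
  rw [Cfsg.Agent.S1159.result hm hF] at hg'
  revert hg'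
  have e0 : 3 ∣ 3 ^ (2 * m + 1) := dvd_pow_self 3 (by omega)
  have e2 : 3 ∣ 3 ^ (m + 1) := dvd_pow_self 3 (by omega)
  have e3 : 1 ≤ 3 ^ (2 * m + 1) := Nat.one_le_pow _ _ (by norm_num)
  have e4 : 3 ^ (m + 1) ≤ 3 ^ (2 * m + 1) := Nat.pow_le_pow_right (by norm_num) (by omega)
  have e5 : 3 ∣ x * 3 := Dvd.intro_left _ rfl
  have e6 : 3 ^ (2 * m + 1) % 2 = 1 := by
    rw [Nat.pow_mod]
    norm_num
  have h1 : ¬ x ∣ 3 := fun hd => hxv ((Nat.prime_dvd_prime_iff_eq hx Nat.prime_three).1 hd)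
  have h2 : ¬ x ∣ 2 := fun hd => hx2 ((Nat.prime_dvd_prime_iff_eq hx Nat.prime_two).1 hd)
  rintro (h | h | h | h | h | h)
  · exact h2 (Nat.dvd_of_mul_dvd_mul_right (by norm_num : 0 < 3) h)
  · exact h1 (Nat.dvd_of_mul_dvd_mul_right (by norm_num : 0 < 3) h)
  · have := e5.trans h
    omega
  · have := e5.trans h
    omega
  · have := e5.trans h
    omega
  · have := e5.trans h
    omega

variable {G : Type u} [Group G] [Finite G] {K : Subgroup G} [K.Normal] {S : Subgroup (G ⧸ K)} [S.Normal] {t' : Fam}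
  {v f' : ℕ}

theorem ExFrm.center (h : ExFrm G K S t' v f') : center S = ⊥ := by
  have := h.simple
  rcases (inferInstance : (Subgroup.center S).Normal).eq_bot_or_eq_top with h1 | h1
  · exact h1
  · exfalso
    obtain ⟨a, b, hab⟩ := h.nonab
    have h2 : a ∈ Subgroup.center S := by rw [h1]; exact mem_top a
    exact hab (Subgroup.mem_center_iff.1 h2 b).symm

/-- **Primes of the radical.** -/
theorem ExFrm.kcase (h : ExFrm G K S t' v f') {r x : ℕ} (hr : r.Prime) (hrK : r ∣ Nat.card K) (hrv : r ≠ v)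
    (hx : x.Prime) (hx2 : x ≠ 2) (hxr : x ≠ r) (hna : ¬ ∃ g : G, orderOf g = r * x) :
    x = v ∨ (¬ ∃ g : S, orderOf g = x * v) ∨ (v = 2 ∧ ∃ k : ℕ, x = 2 ^ k + 1) ∨ t' = .tf4 := by
  by_contra hcon
  push Not at hcon
  obtain ⟨hxv, hadj, hfer, htf⟩ := hcon
  have hsz : t' ≠ .sz := by
    rintro rfl
    exact sz_isol h.is hx hxv hadj
  have hree : t' ≠ .ree := by
    rintro rfl
    exact ree_isol h.is hx hx2 hxv hadj
  have hfv := Fact.mk h.prime
  have := h.simple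
  have hfer' : v ≠ 2 ∨ ∀ k : ℕ, x ≠ 2 ^ k + 1 := by
    by_cases h2 : v = 2
    · exact Or.inr fun k => hfer h2 k
    · exact Or.inl h2
  apply hna
  rw [mul_comm]
  exact kadj h.nil h.simple hr hx h.prime hx2 (Ne.symm hxv) (Ne.symm hrv) hxr hrK
    (MovW.of_mov (Cfsg.Agent.H228.MovAdj.mov_of_adj (isLieFilt_exc h.exc hsz hree htf h.prime h.is) h.nonab hx hxv
      hadj) hfer')

/-- **The characteristic in the radical.** -/
theorem ExFrm.vcase (h : ExFrm G K S t' v f') {x : ℕ} (hna : ¬ ∃ g : G, orderOf g = v * x) :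
    ¬ ∃ g : S, orderOf g = x * v := by
  intro hg
  apply hna
  rw [mul_comm]
  exact exists_of_S hg

/-- **Field automorphisms.** -/
theorem ExFrm.fcase (h : ExFrm G K S t' v f') {r x : ℕ} (hr : r.Prime) (hr5 : 5 ≤ r) (hrK : ¬ r ∣ Nat.card K)
    (hrB : r ∣ Nat.card K * S.index) (hx : x.Prime) (hx5 : 5 ≤ x) (hxr : x ≠ r) (hxS : x ∣ Nat.card S)
    (hna : ¬ ∃ g : G, orderOf g = r * x) : x ≠ v ∧ x % r = 1 := by
  have hri : r ∣ S.index := (hr.dvd_mul.1 hrB).resolve_left hrK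
  have hfd := fldDat_all h.exc h.prime h.is hr hr5
  have key : (x = v ∨ 5 ≤ x ∧ x % r ≠ 1) → False := fun hc =>
    hna (exists_of_quot (hfd.adj h.cent hr hri hx hxr.symm hc hxS))
  refine ⟨fun hxv => key (Or.inl hxv), ?_⟩
  by_contra hmod
  exact key (Or.inr ⟨hx5, hmod⟩)

section L

variable {t : Fam} {p f : ℕ} {L : Type w} [Group L] [Finite L]

/-- **The field case: the congruences**, `S` exceptional. -/
theorem LS.ehc (h : LS t p f L G) (hR : Red G K S) (hF : ExFrm G K S t' v f') {i r : ℕ} (hr : In t (p ^ f) i r)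
    (hbad : r ∣ Nat.card K * S.index) (hrK : ¬ r ∣ Nat.card K) {l : ℕ} (hl3 : 3 ≤ l)
    (hl : mem t l) (hil : na t i l) (hk : ∃ k z, In t (p ^ f) k z ∧ na t i k ∧ na t l k) : HC (sg t (p ^ f)) r l := by
  obtain ⟨k, z, hz, hik, hlk⟩ := hk
  intro y hy hyl
  have hyI : In t (p ^ f) l y := ⟨hy, hyl, hl3, hl⟩
  obtain ⟨h1, h2⟩ := h.good_of_bad hR hr hyI hz hil hik hlk hbad
  have hne := hr.ne hyI (na_ne hil)
  exact (hF.fcase hr.prime hr.five hrK hbad hy hyI.five hne.symm h2 fun hg => (h.adj_iff hr hyI hne).1 hg hil).2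

end L

end Cfsg.Agent.R2.Spec.F1
end

-- part: R2/Spec/X4/H10/RowSO
section
prune_inst 0x4c0606244058200080000009613003a06b600010000230001f840010e0906db2a8d4227006c801902184cb28010400048110000f002400000040034000002002088aa5600f1d9ad0cd60007801084000000000000000000000000000000041004000000000
set_option linter.all false
open scoped Cfsg.Agent.FastGrp

-- part: R2/Spec/X4/H10/Shape
section
/-!
# X4, the symplectic and orthogonal rows: the shapes of the isolated tori (helper10)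
-/

set_option autoImplicit false
set_option linter.unusedSectionVars false
set_option linter.unusedVariables false

namespace Cfsg.Agent.R2.Spec.X4.H10

open Subgroup Cfsg
open Cfsg.Agent.H426.LieFam Cfsg.Agent.R2.Spec Cfsg.Agent.R2.Spec.P1 Cfsg.Agent.R2.Spec.F1
open Cfsg.Agent.H72 Cfsg.Agent.H377

universe u

/-- a big class `j` : `tnum = u ^ s + e₂` with `s + m = N` -/
def Low (t : Fam) (u N : ℕ) (e1 : ℤ) (j : ℕ) : Prop :=
  ∃ (s m : ℕ) (e2 : ℤ), 1 ≤ s ∧ s + m = N ∧ (e2 = 1 ∨ e2 = -1) ∧ (tnum t u j : ℤ) = (u : ℤ) ^ s + e2 ∧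
    (m = 0 → e1 = -e2) ∧ (e2 = -1 → s % 2 = 1)

/-- one factor -/
def Single (t : Fam) (u i T : ℕ) : Prop :=
  ∃ (N : ℕ) (g e1 : ℤ), 2 ≤ N ∧ (e1 = 1 ∨ e1 = -1) ∧ (g = 1 ∨ g = 2 ∨ g = 4) ∧ (g = 1 ∨ (u : ℤ) % 2 = 1) ∧
    (T : ℤ) * g = (u : ℤ) ^ N + e1 ∧ (tnum t u i : ℤ) = (u : ℤ) ^ N + e1 ∧ (e1 = -1 → N % 2 = 1) ∧
    (An t i → e1 = 1) ∧ ∀ j, Big t j → j ≠ i → Low t u N e1 j

/-- two factors -/
def Double (t : Fam) (u i T : ℕ) : Prop :=
  ∃ (N : ℕ) (g e1 e2 e3 : ℤ), 3 ≤ N ∧ (T : ℤ) * g = ((u : ℤ) + e3) * ((u : ℤ) ^ N + e1) ∧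
    (tnum t u i : ℤ) = (u : ℤ) ^ N + e1 ∧ (e1 = -1 → N % 2 = 1) ∧ (An t i → e1 = 1) ∧
    ((e1 = 1 ∧ e2 = -1 ∧ e3 = 1 ∧ (g = 1 ∨ (g = 4 ∧ 5 ≤ (u : ℤ)))) ∨ (e1 = -1 ∧ e2 = 1 ∧ e3 = 1 ∧ g = 1) ∨
      (e1 = 1 ∧ e2 = 1 ∧ e3 = -1 ∧ (g = 1 ∨ g = 4))) ∧ (g = 1 → (u : ℤ) % 2 = 0) ∧
    (g = 4 → (u : ℤ) % 2 = 1 ∧ 4 ≤ N) ∧ g ∣ (u : ℤ) * (u : ℤ) ^ N + e2 ∧
    ∀ j, Big t j → j ≠ i → Low t u N e1 j ∨
      ((tnum t u j : ℤ) = (u : ℤ) * (u : ℤ) ^ N + e2 ∧ top t j ∧ ttor t u j * g.toNat = tnum t u j)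

section num

variable {u k : ℕ}

theorem cast_pow_sub (hu : 1 ≤ u) (k : ℕ) : ((u ^ k - 1 : ℕ) : ℤ) = (u : ℤ) ^ k + -1 := by
  push_cast [Nat.cast_sub (Nat.one_le_pow k u hu)]
  ring

theorem gcd_two_cases (u : ℕ) (hu : 1 ≤ u) :
    (Nat.gcd 2 (u - 1) = 1 ∧ u % 2 = 0) ∨ (Nat.gcd 2 (u - 1) = 2 ∧ u % 2 = 1) := by
  rcases (Nat.dvd_prime Nat.prime_two).1 (Nat.gcd_dvd_left 2 (u - 1)) with h | h
  · left
    refine ⟨h, ?_⟩
    by_contra hcon
    have : 2 ∣ Nat.gcd 2 (u - 1) := Nat.dvd_gcd dvd_rfl (by omega)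
    rw [h] at this
    omega
  · right
    refine ⟨h, ?_⟩
    have : 2 ∣ u - 1 := by rw [← h]; exact Nat.gcd_dvd_right 2 (u - 1)
    omega

theorem pow_mod_two (hu : u % 2 = 1) (k : ℕ) : u ^ k % 2 = 1 := by
  simp [Nat.pow_mod, hu]

theorem gcd_four_cases (m : ℕ) : Nat.gcd 4 m = 1 ∨ Nat.gcd 4 m = 2 ∨ Nat.gcd 4 m = 4 := by
  have h := Nat.gcd_dvd_left 4 m
  have h1 := Nat.le_of_dvd (by norm_num) h
  have h2 : 0 < Nat.gcd 4 m := Nat.gcd_pos_of_pos_left _ (by norm_num)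
  interval_cases Nat.gcd 4 m <;> omega

/-- `g = (4, m)`, `m` even or odd -/
theorem gcd_four_even {m : ℕ} (hm : m % 2 = 0) : Nat.gcd 4 m ≠ 1 := by
  intro h
  have : 2 ∣ Nat.gcd 4 m := Nat.dvd_gcd (by norm_num) (by omega)
  rw [h] at this
  omega

theorem gcd_four_eq {m : ℕ} (h : Nat.gcd 4 m = 4) : m % 4 = 0 := by
  have : 4 ∣ m := by rw [← h]; exact Nat.gcd_dvd_right 4 m
  omega

theorem tnum_nodd {t : Fam} (h : SpO t) {u s : ℕ} (hs : s % 2 = 1) : tnum t u s = u ^ s - 1 := by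
  have h1 : ¬ Even s := by rw [Nat.even_iff]; omega
  cases t <;> first | exact h.elim | simp only [tnum, if_neg h1]

theorem tnum_neven {t : Fam} (h : SpO t) {u s : ℕ} : tnum t u (2 * s) = u ^ s + 1 := by
  have h1 : (2 * s) / 2 = s := by omega
  cases t <;> first | exact h.elim | simp only [tnum, if_pos (even_two_mul s), h1]

theorem tnum_even {t : Fam} (h : SpO t) {u s : ℕ} (hu : 1 ≤ u) : (tnum t u (2 * s) : ℤ) = (u : ℤ) ^ s + 1 := by
  have h1 : (2 * s) / 2 = s := by omega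
  cases t <;> first | exact h.elim | (simp only [tnum, if_pos (even_two_mul s), h1]; push_cast; ring)

theorem tnum_odd {t : Fam} (h : SpO t) {u s : ℕ} (hu : 1 ≤ u) (hs : s % 2 = 1) :
    (tnum t u s : ℤ) = (u : ℤ) ^ s + -1 := by
  have h1 : ¬ Even s := by rw [Nat.even_iff]; omega
  cases t <;> first | exact h.elim | (simp only [tnum, if_neg h1]; exact cast_pow_sub hu s)

theorem sq_mod_four (hu : u % 2 = 1) (k : ℕ) (hk : k % 2 = 0) : u ^ k % 4 = 1 := by
  obtain ⟨j, rfl⟩ : ∃ j, k = 2 * j := ⟨k / 2, by omega⟩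
  rw [pow_mul]
  have h1 : u ^ 2 % 4 = 1 := by
    have : u % 4 = 1 ∨ u % 4 = 3 := by omega
    rcases this with h | h <;> rw [Nat.pow_mod, h]
  rw [Nat.pow_mod, h1, one_pow]
  rfl

theorem odd_mod_four (hu : u % 2 = 1) (k : ℕ) (hk : k % 2 = 1) : u ^ k % 4 = u % 4 := by
  obtain ⟨j, rfl⟩ : ∃ j, k = j + 1 := ⟨k - 1, by omega⟩
  rw [pow_succ, Nat.mul_mod, sq_mod_four hu j (by omega), one_mul, Nat.mod_mod]

end num

/-- the low big classes -/
theorem low_of {t : Fam} (h : SpO t) {u N j : ℕ} {e1 : ℤ} (hu : 1 ≤ u) (hj3 : 3 ≤ j) (hjN : eta j ≤ N)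
    (he : eta j = N → (j = 2 * N ∧ e1 = -1) ∨ (j = N ∧ e1 = 1 ∧ N % 2 = 1)) : Low t u N e1 j := by
  rcases eta_cases j with ⟨h5, h6⟩ | ⟨h5, h6⟩
  · rw [Nat.odd_iff] at h5
    refine ⟨j, N - j, -1, by omega, by omega, Or.inr rfl, tnum_odd h hu h5, ?_, fun _ => h5⟩
    intro hm
    have h7 := he (by omega)
    rcases h7 with ⟨h7, -⟩ | ⟨-, h7, -⟩
    · omega
    · rw [h7]; ring
  · rw [Nat.even_iff] at h5
    obtain ⟨s, rfl⟩ : ∃ s, j = 2 * s := ⟨j / 2, by omega⟩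
    have h8 : eta (2 * s) = s := by omega
    refine ⟨s, N - s, 1, by omega, by omega, Or.inl rfl, tnum_even h hu, ?_, fun h => by norm_num at h⟩
    intro hm
    have h7 := he (by omega)
    rcases h7 with ⟨-, h7⟩ | ⟨h7, -, -⟩
    · rw [h7]
    · omega

section

variable {t : Fam} {v f : ℕ} {S : Type u} [Group S]

theorem div_cast {X g : ℕ} {Y : ℤ} (hd : g ∣ X) (hX : (X : ℤ) = Y) : ((X / g : ℕ) : ℤ) * (g : ℤ) = Y := by
  rw [← hX]
  exact_mod_cast Nat.div_mul_cancel hd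

theorem shape (h : SpO t) (hv : v.Prime) (hI : Fam.Is v f S t) {i : ℕ} (hi : top t i)
    (hodd : ttor t (v ^ f) i % 2 = 1) : Single t (v ^ f) i (ttor t (v ^ f) i) ∨ Double t (v ^ f) i (ttor t (v ^ f) i) := by
  have hf := H4.is_f_ne h.cla hI
  have hq2 : 2 ≤ v ^ f := hv.two_le.trans (Nat.le_self_pow hf v)
  set u := v ^ f with hu
  have hu1 : 1 ≤ u := by omega
  have hgc := gcd_two_cases u hu1
  have g2 : ((Nat.gcd 2 (u - 1) : ℕ) : ℤ) = 1 ∨ ((Nat.gcd 2 (u - 1) : ℕ) : ℤ) = 2 ∨ ((Nat.gcd 2 (u - 1) : ℕ) : ℤ) = 4 := by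
    rcases hgc with ⟨h1, -⟩ | ⟨h1, -⟩ <;> rw [h1] <;> norm_num
  have g2' : ((Nat.gcd 2 (u - 1) : ℕ) : ℤ) = 1 ∨ (u : ℤ) % 2 = 1 := by
    rcases hgc with ⟨h1, -⟩ | ⟨h1, h2⟩
    · left; rw [h1]; norm_num
    · right; omega
  have hm2 : ∀ k, Nat.gcd 2 (u - 1) ∣ u ^ k - 1 := fun k =>
    (Nat.gcd_dvd_right 2 (u - 1)).trans (by simpa only [_root_.one_pow] using Nat.sub_dvd_pow_sub_pow u 1 k)
  have hp2 : ∀ k, Nat.gcd 2 (u - 1) ∣ u ^ k + 1 := by
    intro k
    rcases hgc with ⟨h1, h2⟩ | ⟨h1, h2⟩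
    · rw [h1]; exact one_dvd _
    · rw [h1]
      have := pow_mod_two h2 k
      omega
  have hm4 : ∀ X : ℕ, ((Nat.gcd 4 X : ℕ) : ℤ) = 1 ∨ ((Nat.gcd 4 X : ℕ) : ℤ) = 2 ∨ ((Nat.gcd 4 X : ℕ) : ℤ) = 4 := by
    intro X
    rcases gcd_four_cases X with h | h | h <;> rw [h] <;> norm_num
  have hpu : ∀ k, 1 ≤ k → u % 2 = 0 → u ^ k % 2 = 0 := fun k hk h0 => pow_even (Nat.even_iff.2 h0) hk
  have hle : ∀ k : ℕ, 1 ≤ k → u ≤ u ^ k := fun k hk => Nat.le_self_pow (by omega) _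
  cases t with
  | psp n =>
    obtain ⟨hn, -⟩ := hI
    change i = 2 * n ∨ (i = n ∧ n % 2 = 1) at hi
    left
    rcases hi with rfl | ⟨rfl, hi⟩
    · refine ⟨n, (Nat.gcd 2 (u - 1) : ℕ), 1, hn, Or.inl rfl, g2, g2', ?_, tnum_even h hu1, fun h => by norm_num at h,
        fun _ => rfl, ?_⟩
      · rw [ttor, if_pos rfl]
        exact div_cast (hp2 n) (by push_cast; ring)
      · intro j hj hji
        obtain ⟨hj3, hjm, hjb⟩ := hj
        change eta j ≤ n at hjm
        refine low_of h hu1 hj3 hjm fun he => ?_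
        rcases eta_cases j with ⟨h5, h6⟩ | ⟨h5, h6⟩
        · rw [Nat.odd_iff] at h5
          right
          refine ⟨by omega, rfl, by omega⟩
        · (clear * - hji he h6; omega)
    · refine ⟨i, (Nat.gcd 2 (u - 1) : ℕ), -1, hn, Or.inr rfl, g2, g2', ?_, tnum_odd h hu1 hi, fun _ => hi, ?_, ?_⟩
      · rw [ttor, if_neg (by omega)]
        exact div_cast (hm2 i) (cast_pow_sub hu1 i)
      · intro hA
        change i = 2 * i at hA
        omega
      · intro j hj hji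
        obtain ⟨hj3, hjm, hjb⟩ := hj
        change eta j ≤ i at hjm
        refine low_of h hu1 hj3 hjm fun he => ?_
        rcases eta_cases j with ⟨h5, h6⟩ | ⟨h5, h6⟩
        · omega
        · left
          refine ⟨by omega, rfl⟩
  | oodd n =>
    obtain ⟨hn, -⟩ := hI
    change i = 2 * n ∨ (i = n ∧ n % 2 = 1) at hi
    left
    rcases hi with rfl | ⟨rfl, hi⟩
    · refine ⟨n, (Nat.gcd 2 (u - 1) : ℕ), 1, by omega, Or.inl rfl, g2, g2', ?_, tnum_even h hu1,
        fun h => by norm_num at h, fun _ => rfl, ?_⟩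
      · rw [ttor, if_pos rfl]
        exact div_cast (hp2 n) (by push_cast; ring)
      · intro j hj hji
        obtain ⟨hj3, hjm, hjb⟩ := hj
        change eta j ≤ n at hjm
        refine low_of h hu1 hj3 hjm fun he => ?_
        rcases eta_cases j with ⟨h5, h6⟩ | ⟨h5, h6⟩
        · rw [Nat.odd_iff] at h5
          right
          refine ⟨by omega, rfl, by omega⟩
        · omega
    · refine ⟨i, (Nat.gcd 2 (u - 1) : ℕ), -1, by omega, Or.inr rfl, g2, g2', ?_, tnum_odd h hu1 hi, fun _ => hi, ?_, ?_⟩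
      · rw [ttor, if_neg (by omega)]
        exact div_cast (hm2 i) (cast_pow_sub hu1 i)
      · intro hA
        change i = 2 * i at hA
        omega
      · intro j hj hji
        obtain ⟨hj3, hjm, hjb⟩ := hj
        change eta j ≤ i at hjm
        refine low_of h hu1 hj3 hjm fun he => ?_
        rcases eta_cases j with ⟨h5, h6⟩ | ⟨h5, h6⟩
        · omega
        · left
          refine ⟨by omega, rfl⟩
  | oplus n =>
    obtain ⟨hn, -⟩ := hI
    change (i = n ∧ n % 2 = 1) ∨ i = 2 * (n - 1) ∨ (i = n - 1 ∧ n % 2 = 0) at hi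
    rcases hi with ⟨rfl, hi⟩ | rfl | ⟨rfl, hi⟩
    · left
      refine ⟨i, (Nat.gcd 4 (u ^ i - 1) : ℕ), -1, by omega, Or.inr rfl, hm4 _, ?_, ?_, tnum_odd h hu1 hi, fun _ => hi,
        ?_, ?_⟩
      · by_cases h0 : u % 2 = 1
        · right; omega
        · left
          rw [gcd_four_odd (by have := hpu i (by omega) (by omega); have := hle i (by omega); omega)]
          norm_num
      · rw [ttor, if_pos rfl]
        exact div_cast (Nat.gcd_dvd_right _ _) (cast_pow_sub hu1 i)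
      · intro hA
        change i + 2 = 2 * i at hA
        omega
      · intro j hj hji
        obtain ⟨hj3, hjm, hjb⟩ := hj
        change eta j + 1 ≤ i ∨ (j = i ∧ i % 2 = 1) at hjm
        exact low_of h hu1 hj3 (by omega) fun he => by omega
    · by_cases hn2 : n % 2 = 0
      · left
        refine ⟨n - 1, (Nat.gcd 2 (u - 1) : ℕ), 1, by omega, Or.inl rfl, g2, g2', ?_, tnum_even h hu1,
          fun h => by norm_num at h, fun _ => rfl, ?_⟩
        · rw [ttor, if_neg (by omega), if_neg (by omega), if_pos hn2]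
          exact div_cast (hp2 (n - 1)) (by push_cast; ring)
        · intro j hj hji
          obtain ⟨hj3, hjm, hjb⟩ := hj
          change eta j + 1 ≤ n ∨ (j = n ∧ n % 2 = 1) at hjm
          refine low_of h hu1 hj3 (by omega) fun he => ?_
          rcases eta_cases j with ⟨h5, h6⟩ | ⟨h5, h6⟩
          · rw [Nat.odd_iff] at h5
            right
            refine ⟨by omega, rfl, by omega⟩
          · (clear * - hn hji he h6; solve | lia | omega)
      · right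
        have hn2 : n % 2 = 1 := by omega
        have hTdef : ttor (.oplus n) u (2 * (n - 1)) = (u ^ (n - 1) + 1) * (u + 1) / Nat.gcd 4 (u ^ n - 1) := by
          rw [ttor, if_neg (by omega), if_neg (by omega), if_neg (by omega)]
        have hgd : Nat.gcd 4 (u ^ n - 1) ∣ (u ^ (n - 1) + 1) * (u + 1) := by
          by_cases h0 : u % 2 = 1
          · refine (Nat.gcd_dvd_left _ _).trans ?_
            have h1 := pow_mod_two h0 (n - 1)
            obtain ⟨a, ha⟩ : 2 ∣ u ^ (n - 1) + 1 := by omega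
            obtain ⟨b, hb⟩ : 2 ∣ u + 1 := by omega
            exact ⟨a * b, by rw [ha, hb]; ring⟩
          · rw [gcd_four_odd (by have := hpu n (by omega) (by omega); have := hle n (by omega); omega)]
            exact one_dvd _
        have hTg : ttor (.oplus n) u (2 * (n - 1)) * Nat.gcd 4 (u ^ n - 1) = (u ^ (n - 1) + 1) * (u + 1) := by
          rw [hTdef]; exact Nat.div_mul_cancel hgd
        -- the value of `g`
        have hg : (Nat.gcd 4 (u ^ n - 1) = 1 ∧ u % 2 = 0) ∨ (Nat.gcd 4 (u ^ n - 1) = 4 ∧ u % 4 = 1) := by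
          by_cases h0 : u % 2 = 1
          · right
            have h1 := sq_mod_four h0 (n - 1) (by omega)
            have h2 := odd_mod_four h0 n hn2
            have h3 := hle n (by omega)
            rcases gcd_four_cases (u ^ n - 1) with h4 | h4 | h4
            · exact absurd h4 (gcd_four_even (by omega))
            · exfalso
              rw [h4] at hTg
              obtain ⟨a, ha⟩ : 2 ∣ u + 1 := by omega
              obtain ⟨b, hb⟩ : ∃ b, u ^ (n - 1) + 1 = 2 * b := ⟨(u ^ (n - 1) + 1) / 2, by omega⟩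
              -- `T = 2 a b'`
              have h5 : ttor (.oplus n) u (2 * (n - 1)) = 2 * (b * a) := by
                rw [ha, hb] at hTg
                have : ttor (.oplus n) u (2 * (n - 1)) * 2 = (2 * (b * a)) * 2 := by rw [hTg]; ring
                exact Nat.eq_of_mul_eq_mul_right (by norm_num) this
              omega
            · have := gcd_four_eq h4
              exact ⟨h4, by (clear * - h0 h2 this; omega)⟩
          · left
            exact ⟨gcd_four_odd (by have := hpu n (by omega) (by omega); have := hle n (by omega); omega), by omega⟩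
        refine ⟨n - 1, (Nat.gcd 4 (u ^ n - 1) : ℕ), 1, -1, 1, by omega, ?_, tnum_even h hu1, fun h => by norm_num at h,
          fun _ => rfl, ?_, ?_, ?_, ?_, ?_⟩
        · have := congrArg (Nat.cast : ℕ → ℤ) hTg
          push_cast at this ⊢
          rw [this]
          ring
        · left
          refine ⟨rfl, rfl, rfl, ?_⟩
          rcases hg with ⟨h1, -⟩ | ⟨h1, h2⟩
          · left; rw [h1]; norm_num
          · right
            rw [h1]
            refine ⟨by norm_num, ?_⟩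
            have : u ≠ 1 := by omega
            omega
        · intro h1
          rcases hg with ⟨-, h2⟩ | ⟨h2, -⟩
          · omega
          · rw [h2] at h1; norm_num at h1
        · intro h1
          rcases hg with ⟨h2, -⟩ | ⟨-, h2⟩
          · rw [h2] at h1; norm_num at h1
          · omega
        · have h1 : ((Nat.gcd 4 (u ^ n - 1) : ℕ) : ℤ) ∣ ((u ^ n - 1 : ℕ) : ℤ) := by
            exact_mod_cast Nat.gcd_dvd_right 4 (u ^ n - 1)
          rw [cast_pow_sub hu1] at h1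
          rwa [← pow_succ', show n - 1 + 1 = n by omega]
        · intro j hj hji
          obtain ⟨hj3, hjm, hjb⟩ := hj
          change eta j + 1 ≤ n ∨ (j = n ∧ n % 2 = 1) at hjm
          rcases hjm with hjm | ⟨rfl, -⟩
          · left
            refine low_of h hu1 hj3 (by omega) fun he => ?_
            rcases eta_cases j with ⟨h5, h6⟩ | ⟨h5, h6⟩
            · rw [Nat.odd_iff] at h5
              omega
            · (clear * - hji he h6; solve | lia | omega)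
          · right
            refine ⟨?_, Or.inl ⟨rfl, hn2⟩, ?_⟩
            · rw [tnum_odd h hu1 hn2, ← pow_succ', show j - 1 + 1 = j by omega]
            · rw [ttor, if_pos rfl, Int.toNat_natCast, Nat.div_mul_cancel (Nat.gcd_dvd_right _ _), tnum_nodd h hn2]
    · left
      refine ⟨n - 1, (Nat.gcd 2 (u - 1) : ℕ), -1, by omega, Or.inr rfl, g2, g2', ?_, tnum_odd h hu1 (by omega),
        fun _ => by omega, ?_, ?_⟩
      · rw [ttor, if_neg (by omega), if_pos rfl]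
        exact div_cast (hm2 (n - 1)) (cast_pow_sub hu1 (n - 1))
      · intro hA
        change n - 1 + 2 = 2 * n at hA
        omega
      · intro j hj hji
        obtain ⟨hj3, hjm, hjb⟩ := hj
        change eta j + 1 ≤ n ∨ (j = n ∧ n % 2 = 1) at hjm
        refine low_of h hu1 hj3 (by omega) fun he => ?_
        rcases eta_cases j with ⟨h5, h6⟩ | ⟨h5, h6⟩
        · (clear * - hji he h6; solve | lia | omega)
        · left
          refine ⟨by omega, rfl⟩
  | ominus n =>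
    obtain ⟨hn, -⟩ := hI
    change i = 2 * n ∨ i = 2 * (n - 1) ∨ (i = n - 1 ∧ n % 2 = 0) at hi
    rcases hi with rfl | rfl | ⟨rfl, hi⟩
    · left
      refine ⟨n, (Nat.gcd 4 (u ^ n + 1) : ℕ), 1, by omega, Or.inl rfl, hm4 _, ?_, ?_, tnum_even h hu1,
        fun h => by norm_num at h, fun _ => rfl, ?_⟩
      · by_cases h0 : u % 2 = 1
        · right; omega
        · left
          rw [gcd_four_odd (by have := hpu n (by omega) (by omega); omega)]
          norm_num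
      · rw [ttor, if_pos rfl]
        exact div_cast (Nat.gcd_dvd_right _ _) (by push_cast; ring)
      · intro j hj hji
        obtain ⟨hj3, hjm, hjb⟩ := hj
        change eta j + 1 ≤ n ∨ j = 2 * n at hjm
        exact low_of h hu1 hj3 (by omega) fun he => by (clear * - hji hjm he; solve | lia | omega)
    · right
      have hTdef : ttor (.ominus n) u (2 * (n - 1)) = (u ^ (n - 1) + 1) * (u - 1) / Nat.gcd 4 (u ^ n + 1) := by
        rw [ttor, if_neg (by omega), if_neg (by omega)]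
      have hgd : Nat.gcd 4 (u ^ n + 1) ∣ (u ^ (n - 1) + 1) * (u - 1) := by
        by_cases h0 : u % 2 = 1
        · refine (Nat.gcd_dvd_left _ _).trans ?_
          have h1 := pow_mod_two h0 (n - 1)
          obtain ⟨a, ha⟩ : 2 ∣ u ^ (n - 1) + 1 := by omega
          obtain ⟨b, hb⟩ : 2 ∣ u - 1 := by omega
          exact ⟨a * b, by rw [ha, hb]; ring⟩
        · rw [gcd_four_odd (by have := hpu n (by omega) (by omega); omega)]
          exact one_dvd _
      have hTg : ttor (.ominus n) u (2 * (n - 1)) * Nat.gcd 4 (u ^ n + 1) = (u ^ (n - 1) + 1) * (u - 1) := by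
        rw [hTdef]; exact Nat.div_mul_cancel hgd
      have hg : (Nat.gcd 4 (u ^ n + 1) = 1 ∧ u % 2 = 0) ∨ (Nat.gcd 4 (u ^ n + 1) = 4 ∧ u % 2 = 1 ∧ n % 2 = 1) := by
        by_cases h0 : u % 2 = 1
        · right
          have h3 := pow_mod_two h0 n
          have h3' := pow_mod_two h0 (n - 1)
          rcases gcd_four_cases (u ^ n + 1) with h4 | h4 | h4
          · exact absurd h4 (gcd_four_even (by omega))
          · exfalso
            rw [h4] at hTg
            obtain ⟨a, ha⟩ : 2 ∣ u - 1 := by omega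
            obtain ⟨b, hb⟩ : ∃ b, u ^ (n - 1) + 1 = 2 * b := ⟨(u ^ (n - 1) + 1) / 2, by omega⟩
            have h5 : ttor (.ominus n) u (2 * (n - 1)) = 2 * (b * a) := by
              rw [ha, hb] at hTg
              have : ttor (.ominus n) u (2 * (n - 1)) * 2 = (2 * (b * a)) * 2 := by rw [hTg]; ring
              exact Nat.eq_of_mul_eq_mul_right (by norm_num) this
            omega
          · refine ⟨h4, h0, ?_⟩
            by_contra hcon
            have h5 := sq_mod_four h0 n (by omega)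
            have := gcd_four_eq h4
            omega
        · left
          exact ⟨gcd_four_odd (by have := hpu n (by omega) (by omega); omega), by omega⟩
      refine ⟨n - 1, (Nat.gcd 4 (u ^ n + 1) : ℕ), 1, 1, -1, by omega, ?_, tnum_even h hu1, fun h => by norm_num at h,
        fun _ => rfl, ?_, ?_, ?_, ?_, ?_⟩
      · have := congrArg (Nat.cast : ℕ → ℤ) hTg
        push_cast [Nat.cast_sub hu1] at this ⊢
        rw [this]
        ring
      · right; right
        refine ⟨rfl, rfl, rfl, ?_⟩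
        rcases hg with ⟨h1, -⟩ | ⟨h1, -⟩
        · left; rw [h1]; norm_num
        · right; rw [h1]; norm_num
      · intro h1
        rcases hg with ⟨-, h2⟩ | ⟨h2, -⟩
        · omega
        · rw [h2] at h1; norm_num at h1
      · intro h1
        rcases hg with ⟨h2, -⟩ | ⟨-, h2, h3⟩
        · rw [h2] at h1; norm_num at h1
        · omega
      · have h1 : ((Nat.gcd 4 (u ^ n + 1) : ℕ) : ℤ) ∣ ((u ^ n + 1 : ℕ) : ℤ) := by
          exact_mod_cast Nat.gcd_dvd_right 4 (u ^ n + 1)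
        push_cast at h1
        rwa [← pow_succ', show n - 1 + 1 = n by omega]
      · intro j hj hji
        obtain ⟨hj3, hjm, hjb⟩ := hj
        change eta j + 1 ≤ n ∨ j = 2 * n at hjm
        rcases hjm with hjm | rfl
        · left
          refine low_of h hu1 hj3 (by omega) fun he => ?_
          rcases eta_cases j with ⟨h5, h6⟩ | ⟨h5, h6⟩
          · rw [Nat.odd_iff] at h5
            right
            refine ⟨by omega, rfl, by omega⟩
          · (clear * - hji he h6; solve | lia | omega)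
        · right
          refine ⟨?_, Or.inl rfl, ?_⟩
          · rw [tnum_even h hu1, ← pow_succ', show n - 1 + 1 = n by omega]
          · rw [ttor, if_pos rfl, Int.toNat_natCast, Nat.div_mul_cancel (Nat.gcd_dvd_right _ _), tnum_neven h]
    · right
      have hTdef : ttor (.ominus n) u (n - 1) = (u ^ (n - 1) - 1) * (u + 1) / Nat.gcd 4 (u ^ n + 1) := by
        rw [ttor, if_neg (by omega), if_pos rfl]
      have hgd : Nat.gcd 4 (u ^ n + 1) ∣ (u ^ (n - 1) - 1) * (u + 1) := by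
        by_cases h0 : u % 2 = 1
        · refine (Nat.gcd_dvd_left _ _).trans ?_
          have h1 := pow_mod_two h0 (n - 1)
          obtain ⟨a, ha⟩ : 2 ∣ u ^ (n - 1) - 1 := by omega
          obtain ⟨b, hb⟩ : 2 ∣ u + 1 := by omega
          exact ⟨a * b, by rw [ha, hb]; ring⟩
        · rw [gcd_four_odd (by have := hpu n (by omega) (by omega); omega)]
          exact one_dvd _
      have hTg : ttor (.ominus n) u (n - 1) * Nat.gcd 4 (u ^ n + 1) = (u ^ (n - 1) - 1) * (u + 1) := by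
        rw [hTdef]; exact Nat.div_mul_cancel hgd
      have hg : Nat.gcd 4 (u ^ n + 1) = 1 ∧ u % 2 = 0 := by
        by_cases h0 : u % 2 = 1
        · exfalso
          have h3 := sq_mod_four h0 n hi
          have h3' := pow_mod_two h0 (n - 1)
          rcases gcd_four_cases (u ^ n + 1) with h4 | h4 | h4
          · exact absurd h4 (gcd_four_even (by omega))
          · rw [h4] at hTg
            obtain ⟨a, ha⟩ : 2 ∣ u + 1 := by omega
            obtain ⟨b, hb⟩ : ∃ b, u ^ (n - 1) - 1 = 2 * b := ⟨(u ^ (n - 1) - 1) / 2, by omega⟩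
            have h5 : ttor (.ominus n) u (n - 1) = 2 * (b * a) := by
              rw [ha, hb] at hTg
              have : ttor (.ominus n) u (n - 1) * 2 = (2 * (b * a)) * 2 := by rw [hTg]; ring
              exact Nat.eq_of_mul_eq_mul_right (by norm_num) this
            omega
          · have := gcd_four_eq h4
            omega
        · exact ⟨gcd_four_odd (by have := hpu n (by omega) (by omega); omega), by omega⟩
      refine ⟨n - 1, (Nat.gcd 4 (u ^ n + 1) : ℕ), -1, 1, 1, by omega, ?_, tnum_odd h hu1 (by omega),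
        fun _ => by omega, ?_, ?_, ?_, ?_, ?_, ?_⟩
      · have := congrArg (Nat.cast : ℕ → ℤ) hTg
        push_cast [Nat.cast_sub (Nat.one_le_pow (n - 1) u hu1)] at this ⊢
        rw [this]
        ring
      · intro hA
        change n - 1 = 2 * n at hA
        omega
      · right; left
        refine ⟨rfl, rfl, rfl, ?_⟩
        rw [hg.1]; norm_num
      · intro h1
        have := hg.2
        omega
      · intro h1
        rw [hg.1] at h1; norm_num at h1
      · rw [hg.1]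
        exact one_dvd _
      · intro j hj hji
        obtain ⟨hj3, hjm, hjb⟩ := hj
        change eta j + 1 ≤ n ∨ j = 2 * n at hjm
        rcases hjm with hjm | rfl
        · left
          refine low_of h hu1 hj3 (by omega) fun he => ?_
          rcases eta_cases j with ⟨h5, h6⟩ | ⟨h5, h6⟩
          · (clear * - hji he h6; solve | lia | omega)
          · left
            refine ⟨by omega, rfl⟩
        · right
          refine ⟨?_, Or.inl rfl, ?_⟩
          · rw [tnum_even h hu1, ← pow_succ', show n - 1 + 1 = n by omega]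
          · rw [ttor, if_pos rfl, Int.toNat_natCast, Nat.div_mul_cancel (Nat.gcd_dvd_right _ _), tnum_neven h]
  | _ => exact h.elim

end

end Cfsg.Agent.R2.Spec.X4.H10
end

-- part: R2/Spec/X4/H10/RowSO
section
/-!
# X4: `S` symplectic or orthogonal is impossible (helper10)
-/

set_option autoImplicit false
set_option linter.unusedSectionVars false
set_option linter.unusedVariables false

namespace Cfsg.Agent.R2.Spec.X4.H10

open Subgroup Cfsg
open Cfsg.Agent.H426.LieFam Cfsg.Agent.R2.Spec Cfsg.Agent.R2.Spec.P1 Cfsg.Agent.R2.Spec.F1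
open Cfsg.Agent.H72 Cfsg.Agent.H377

universe u

variable {p q k A k' B m i : ℕ} {W : ℕ → Prop} {S : Type u} [Group S] {t : Fam} {v f : ℕ}

/-- the context of the row -/
structure Cx (p q k A k' B m i : ℕ) (W : ℕ → Prop) (S : Type u) [Group S] (t : Fam) (v f : ℕ) : Prop where
  h : SX p q k A k' B m i W S
  hg : Good W m i
  hv : v.Prime
  hvp : v ≠ p
  ht : SpO t
  hI : Fam.Is v f S t

theorem Cx.two_le (C : Cx p q k A k' B m i W S t v f) : 2 ≤ v ^ f :=
  C.hv.two_le.trans (Nat.le_self_pow (H4.is_f_ne C.ht.cla C.hI) v)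

theorem Cx.k_big (C : Cx p q k A k' B m i W S t v f) {r : ℕ} (hr : r.Prime) (hrk : r ∣ k) :
    BG t v f r ∧ top t (cls t (v ^ f) r) ∧ r ∣ Nat.card S ∧ 7 ≤ r := by
  have := C.h.fin
  have h1 := C.h.lw.side.prime C.h.lw.q2 hr (Or.inl hrk)
  have h2 := C.h.good_k C.hg hr hrk
  have h3 := C.h.dvd_card hr (C.h.W_prime hr (Or.inl hrk)) h2.1 h2.2
  obtain ⟨h4, h5, h6⟩ := topc C.ht C.hv C.hI hr (by omega) h3 (C.h.twoS hr hrk)
  exact ⟨⟨h4, big_of_top C.ht C.hI h6⟩, h6, h3, h1.1⟩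

theorem Cx.dvd_v (C : Cx p q k A k' B m i W S t v f) {r : ℕ} (hr : r.Prime) (hrv : r ≠ v) : ¬ r ∣ v := fun hd =>
  hrv ((Nat.prime_dvd_prime_iff_eq hr C.hv).1 hd)

/-- the isolated class of `k` -/
theorem Cx.iso (C : Cx p q k A k' B m i W S t v f) : ∃ i0 : ℕ, top t i0 ∧
    (∀ r : ℕ, r.Prime → r ∣ k → cls t (v ^ f) r = i0) ∧ k ∣ tnum t (v ^ f) i0 ∧ ttor t (v ^ f) i0 ∣ A := by
  have := C.h.fin
  have hk1 := C.h.lw.k_pos.1
  obtain ⟨d, n⟩ := LW.ns C.h.lw
  obtain ⟨j, hj, hs, hd⟩ := dvd_tnum C.ht C.hv C.hI hk1 (by have := n.k2; omega) (C.h.kS C.hg)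
    (fun r hr hrk => (C.k_big hr hrk).1)
  obtain ⟨r, hr, hrk⟩ := Nat.exists_prime_and_dvd hk1.ne'
  have h1 := C.k_big hr hrk
  have h2 := h1.2.1
  rw [hs r hr hrk] at h2
  have hT := top_facts_all C.ht.cla C.hv C.hI
  obtain ⟨x, hx⟩ := C.h.kS C.hg
  have h3 := hT.ub r hr (C.dvd_v hr h1.1.1) h1.2.1 x (by rw [hx]; exact hrk)
  rw [hx, hs r hr hrk] at h3
  obtain ⟨y, hy⟩ := hT.elt j h2
  have h4 := C.h.uk hr hrk y (by rw [hy]; exact hrk.trans h3)
  rw [hy] at h4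
  exact ⟨j, h2, hs, hd, h4⟩

/-- the second factor -/
def Dbl (t : Fam) (v f : ℕ) (N : ℕ) (g e1 A : ℤ) (j : ℕ) : Prop :=
  ∃ h e2 e3 : ℤ, 3 ≤ N ∧ h % 2 = 1 ∧ 0 < h ∧
    h * (((v ^ f : ℕ) : ℤ) + e3) * (((v ^ f : ℕ) : ℤ) ^ N + e1) = g * A ∧
    ((e1 = 1 ∧ e2 = -1 ∧ e3 = 1 ∧ (g = 1 ∨ (g = 4 ∧ 5 ≤ ((v ^ f : ℕ) : ℤ)))) ∨ (e1 = -1 ∧ e2 = 1 ∧ e3 = 1 ∧ g = 1) ∨
      (e1 = 1 ∧ e2 = 1 ∧ e3 = -1 ∧ (g = 1 ∨ g = 4))) ∧ (g = 1 → ((v ^ f : ℕ) : ℤ) % 2 = 0) ∧
    (g = 4 → ((v ^ f : ℕ) : ℤ) % 2 = 1 ∧ 4 ≤ N) ∧ g ∣ ((v ^ f : ℕ) : ℤ) * ((v ^ f : ℕ) : ℤ) ^ N + e2 ∧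
    (tnum t (v ^ f) j : ℤ) = ((v ^ f : ℕ) : ℤ) * ((v ^ f : ℕ) : ℤ) ^ N + e2 ∧ top t j ∧
    ttor t (v ^ f) j * g.toNat = tnum t (v ^ f) j

/-- the numbers of the isolated class -/
theorem Cx.data (C : Cx p q k A k' B m i W S t v f) {i0 : ℕ} (hi : top t i0) (hk : k ∣ tnum t (v ^ f) i0)
    (hTA : ttor t (v ^ f) i0 ∣ A) : ∃ (N : ℕ) (g e1 H : ℤ), 17 ≤ (q : ℤ) ∧ 2 ≤ N ∧ (e1 = 1 ∨ e1 = -1) ∧
      (g = 1 ∨ g = 2 ∨ g = 4) ∧ (g = 1 ∨ ((v ^ f : ℕ) : ℤ) % 2 = 1) ∧ 0 < H ∧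
      H * (((v ^ f : ℕ) : ℤ) ^ N + e1) = g * A ∧ (k : ℤ) ∣ ((v ^ f : ℕ) : ℤ) ^ N + e1 ∧ (e1 = -1 → N % 2 = 1) ∧
      (An t i0 → e1 = 1) ∧ ∀ j, Big t j → j ≠ i0 → Low t (v ^ f) N e1 j ∨ Dbl t v f N g e1 A j := by
  have hf := H4.is_f_ne C.ht.cla C.hI
  have hu2 := C.two_le
  obtain ⟨h, hh⟩ := hTA
  have hAo := C.h.lw.side.A_odd
  have hTo : ttor t (v ^ f) i0 % 2 = 1 := by
    by_contra hcon
    have : 2 ∣ A := by rw [hh]; exact Dvd.dvd.mul_right (Nat.dvd_of_mod_eq_zero (by omega)) h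
    omega
  have hho : h % 2 = 1 := by
    by_contra hcon
    have : 2 ∣ A := by rw [hh]; exact Dvd.dvd.mul_left (Nat.dvd_of_mod_eq_zero (by omega)) _
    omega
  have hAz : (A : ℤ) = (ttor t (v ^ f) i0 : ℤ) * (h : ℤ) := by rw [hh]; push_cast; ring
  have hkz : (k : ℤ) ∣ (tnum t (v ^ f) i0 : ℤ) := by exact_mod_cast hk
  have h4 : ∀ g : ℤ, (g = 1 ∨ g = 2 ∨ g = 4) → g ∣ 4 := by
    intro g hg
    rcases hg with rfl | rfl | rfl <;> norm_num
  rcases shape C.ht C.hv C.hI hi hTo with hs | hs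
  · obtain ⟨N, g, e1, hN, he1, hg, hgu, hTg, htn, hp1, hAn, hlow⟩ := hs
    rw [htn] at hkz
    have hE : (h : ℤ) * (((v ^ f : ℕ) : ℤ) ^ N + e1) = g * A := by
      rw [← hTg, hAz]; ring
    have hq : ¬ q < 17 := fun hq => small C.h.lw hq C.hv C.hvp
      (le_trans hN (Nat.le_mul_of_pos_left N (Nat.pos_of_ne_zero hf))) he1 (h4 g hg) (by omega) hkz hE
    exact ⟨N, g, e1, h, by omega, hN, he1, hg, hgu, by omega, hE, hkz, hp1, hAn, fun j hj hji => Or.inl (hlow j hj hji)⟩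
  · obtain ⟨N, g, e1, e2, e3, hN, hTg, htn, hp1, hAn, hc, hg1, hg4, hgD, hlow⟩ := hs
    rw [htn] at hkz
    have hE : (h : ℤ) * (((v ^ f : ℕ) : ℤ) + e3) * (((v ^ f : ℕ) : ℤ) ^ N + e1) = g * A := by
      rw [hAz]
      linear_combination (-(h : ℤ)) * hTg
    have he1 : e1 = 1 ∨ e1 = -1 := by
      rcases hc with ⟨a, -⟩ | ⟨a, -⟩ | ⟨a, -⟩
      · exact Or.inl a
      · exact Or.inr a
      · exact Or.inl a
    have hg : g = 1 ∨ g = 4 := by
      rcases hc with ⟨-, -, -, a⟩ | ⟨-, -, -, a⟩ | ⟨-, -, -, a⟩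
      · rcases a with a | ⟨a, -⟩
        · exact Or.inl a
        · exact Or.inr a
      · exact Or.inl a
      · exact a
    have he3 : -1 ≤ e3 := by rcases hc with ⟨-, -, a, -⟩ | ⟨-, -, a, -⟩ | ⟨-, -, a, -⟩ <;> omega
    have hg' : g = 1 ∨ g = 2 ∨ g = 4 := by
      rcases hg with a | a
      · exact Or.inl a
      · exact Or.inr (Or.inr a)
    have hu2' : (2 : ℤ) ≤ ((v ^ f : ℕ) : ℤ) := by exact_mod_cast hu2
    have hH : 0 < (h : ℤ) * (((v ^ f : ℕ) : ℤ) + e3) := mul_pos (by omega) (by omega)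
    have hq : ¬ q < 17 := fun hq => small C.h.lw hq C.hv C.hvp
      (le_trans (by omega) (Nat.le_mul_of_pos_left N (Nat.pos_of_ne_zero hf))) he1 (h4 g hg') hH hkz hE
    refine ⟨N, g, e1, _, by omega, by omega, he1, hg', ?_, hH, hE, hkz, hp1, hAn, fun j hj hji => ?_⟩
    · rcases hg with a | a
      · exact Or.inl a
      · exact Or.inr (hg4 a).1
    · rcases hlow j hj hji with a | ⟨a, b, c⟩
      · exact Or.inl a
      · exact Or.inr ⟨h, e2, e3, hN, by omega, by omega, hE, hc, hg1, hg4, hgD, a, b, c⟩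

theorem Cx.zkill (C : Cx p q k A k' B m i W S t v f) {i0 j : ℕ} (hi : top t i0) (hk : k ∣ tnum t (v ^ f) i0)
    (hTA : ttor t (v ^ f) i0 ∣ A) (hj : Big t j) (hji : j ≠ i0) (hz : (q ^ 2 + 1) / 2 ∣ tnum t (v ^ f) j) : False := by
  obtain ⟨N, g, e1, H, hq, hN, he1, hg, hgu, hH, hE, hkz, hp1, hAn, hlow⟩ := C.data hi hk hTA
  obtain ⟨d, n⟩ := LW.ns C.h.lw
  have hf := H4.is_f_ne C.ht.cla C.hI
  have hu2' : (2 : ℤ) ≤ ((v ^ f : ℕ) : ℤ) := by exact_mod_cast C.two_le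
  have hzz : (((q ^ 2 + 1) / 2 : ℕ) : ℤ) ∣ (tnum t (v ^ f) j : ℤ) := Int.natCast_dvd_natCast.2 hz
  rcases hlow j hj hji with ⟨s, m', e2, hs1, rfl, he2, htj, hm0, hp2⟩ |
    ⟨h, e2, e3, hN3, hh2, hh0, hE', hc, hg1, hg4, hgD, htj, htop, htt⟩
  · rw [htj] at hzz
    exact core4 n.hd hq n.hqd n.hA n.hz hu2' he1 he2 hg hgu hH hE hzz hs1 hm0 (LW.cop C.h.lw C.hv C.hvp)
  · rw [htj] at hzz
    exact coreQ n.hd hq n.hqd n.hA n.hz n.hk3 hu2' hN3 hkz hh2 hh0 hE' hzz hgD hc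
      (fun h1 => ⟨hg1 h1, even_field C.hv hf (hg1 h1)⟩) hg4

theorem Cx.bkill (C : Cx p q k A k' B m i W S t v f) {i0 j : ℕ} (hi : top t i0) (hk : k ∣ tnum t (v ^ f) i0)
    (hTA : ttor t (v ^ f) i0 ∣ A) (hj : Big t j) (hji : j ≠ i0) (hk' : k' ∣ tnum t (v ^ f) j)
    (hB : top t j → ttor t (v ^ f) j ∣ B) : False := by
  obtain ⟨N, g, e1, H, hq, hN, he1, hg, hgu, hH, hE, hkz, hp1, hAn, hlow⟩ := C.data hi hk hTA
  obtain ⟨d, n⟩ := LW.ns C.h.lw
  have hf := H4.is_f_ne C.ht.cla C.hI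
  have hu2' : (2 : ℤ) ≤ ((v ^ f : ℕ) : ℤ) := by exact_mod_cast C.two_le
  have hzz : (k' : ℤ) ∣ (tnum t (v ^ f) j : ℤ) := Int.natCast_dvd_natCast.2 hk'
  rcases hlow j hj hji with ⟨s, m', e2, hs1, rfl, he2, htj, hm0, hp2⟩ |
    ⟨h, e2, e3, hN3, hh2, hh0, hE', hc, hg1, hg4, hgD, htj, htop, htt⟩
  · rw [htj] at hzz
    refine coreB n.hd hq n.hqd n.hA n.hB n.hk3' n.hkB n.k2' hu2' he1 he2 hg hgu hH hE hzz hs1 (fun h0 => ⟨hm0 h0, ?_⟩)
      hp1 hp2 (LW.ne_cube C.h.lw C.hv C.hvp hf hs1) (LW.seven C.h.lw)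
    subst h0
    rw [Nat.add_zero] at hkz
    have h1 : (1 : ℤ) ≤ ((v ^ f : ℕ) : ℤ) ^ s := one_le_pow₀ (by omega)
    have h3 : (2 : ℤ) ≤ ((v ^ f : ℕ) : ℤ) ^ s := hu2'.trans (le_self_pow₀ (by omega) (by omega))
    rcases n.hful with h2 | h2
    · have h4 := Int.le_of_dvd (by rcases he1 with rfl | rfl <;> omega) hkz
      rcases he1 with rfl | rfl <;> omega
    · have h4 := Int.le_of_dvd (by rcases he2 with rfl | rfl <;> omega) hzz
      rcases he2 with rfl | rfl <;> omega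
  · obtain ⟨h', hh'⟩ := hB htop
    have hgt : (g.toNat : ℤ) = g := Int.toNat_of_nonneg (by rcases hg with rfl | rfl | rfl <;> norm_num)
    have hE2 : (h' : ℤ) * (((v ^ f : ℕ) : ℤ) * ((v ^ f : ℕ) : ℤ) ^ N + e2) = g * B := by
      rw [← htj, ← htt, hh']
      push_cast
      rw [hgt]
      ring
    exact coreP n.hd hq n.hA n.hB n.hk3 hu2' hN3 hkz hh2 hh0 hE' hE2 hc hg1 hg4

end Cfsg.Agent.R2.Spec.X4.H10
end
end

-- part: R2/Spec/X7/Odd
section
prune_inst 0x4c06042400982000800000096130020041400010000200001e800050e0900c3288d0221000c8014020808128010000000000000f000400000040034000002002088a8140031500c04c60007800084000000000000000000000000000000000004000000000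
set_option linter.all false
open scoped Cfsg.Agent.FastGrp

-- part: R2/Spec/X7/Frame
section
/-!
# The frame: groups isospectral to `PSL_n(q)`, `PSU_n(q)` with an isolated number
-/

set_option autoImplicit false

namespace Cfsg.Agent.R2.Spec.X7

open Finset Function Cfsg Subgroup Cfsg.Agent.H420.QR Cfsg.Agent.H360.Iso
open Cfsg.Agent.H426.LieFam Cfsg.Agent.R2.Spec Cfsg.Agent.R2.Spec.F1
open Cfsg.Agent.H437.Win (exists_elt_factor)

universe u w

/-- a coclique of three primes, two of which are larger than `5` -/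
def Coq3 (L : Type*) [Group L] : Prop :=
  ∃ ρ : Finset ℕ, IsCoq L ρ ∧ 3 ≤ ρ.card ∧ ∃ u ∈ ρ, ∃ v ∈ ρ, u ≠ v ∧ 5 < u ∧ 5 < v

theorem cls_lt_mod {t : Fam} {q r : ℕ} (hr : r.Prime) (h3 : 3 ≤ cls t q r) : cls t q r ∣ r - 1 := by
  have hf := Fact.mk hr
  have h1 : ((sg t q : ℤ) : ZMod r) ≠ 0 := by
    intro h0
    rw [cls, h0, orderOf_zero] at h3
    omega
  exact orderOf_dvd_of_pow_eq_one (ZMod.pow_card_sub_one_eq_one h1)

theorem coq3_of_classes {t : Fam} (ht : P1.Classical t) {p f : ℕ} (hp : p.Prime) {L : Type w} [Group L] [Finite L]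
    (h : Fam.Is p f L t) (hp2 : p ≠ 2) {i j k : ℕ} (hi : 3 ≤ i) (hj : 3 ≤ j) (hk : 3 ≤ k)
    (mi : mem t i) (mj : mem t j) (mk : mem t k) (hij : na t i j) (hik : na t i k) (hjk : na t j k)
    (hj4 : j ≠ 4) (hk4 : k ≠ 4) : Coq3 L := by
  have hLS : LS t p f L L := LS.of_is ht hp h rfl
  have hq3 : 3 ≤ p ^ f := by
    have h1 := Nat.le_self_pow (by have := hLS.fpos; omega) p (n := f)
    have := hp.two_le
    omega
  have hex : p ^ f = 2 → ∀ n : ℕ, n ≠ 6 ∧ n ≠ 3 := by omega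
  obtain ⟨r, hr, hri⟩ := exists_cls (t := t) (q := p ^ f) (i := i) (by omega) hi (by omega)
  obtain ⟨s, hs, hsj⟩ := exists_cls (t := t) (q := p ^ f) (i := j) (by omega) hj (by omega)
  obtain ⟨z, hz, hzk⟩ := exists_cls (t := t) (q := p ^ f) (i := k) (by omega) hk (by omega)
  have Hr : In t (p ^ f) i r := ⟨hr, hri, hi, mi⟩
  have Hs : In t (p ^ f) j s := ⟨hs, hsj, hj, mj⟩
  have Hz : In t (p ^ f) k z := ⟨hz, hzk, hk, mk⟩
  have h1 := Hr.ne Hs (na_ne hij)
  have h2 := Hr.ne Hz (na_ne hik)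
  have h3 := Hs.ne Hz (na_ne hjk)
  have hcoq := isCoq_three hr hs hz (Hr.dvd hLS) (Hs.dvd hLS) (Hz.dvd hLS)
    (fun hg => (hLS.adj_iff Hr Hs h1).1 hg hij) (fun hg => (hLS.adj_iff Hr Hz h2).1 hg hik)
    (fun hg => (hLS.adj_iff Hs Hz h3).1 hg hjk)
  have big : ∀ {l x : ℕ}, In t (p ^ f) l x → l ≠ 4 → 5 < x := by
    intro l x hx hl
    have h5 := hx.five
    have h4 := cls_lt_mod hx.prime (by rw [hx.cls_eq]; exact hx.reg)
    rw [hx.cls_eq] at h4
    rcases Nat.eq_or_lt_of_le h5 with h6 | h6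
    · exfalso
      rw [← h6] at h4
      have h7 := hx.reg
      have h8 := Nat.le_of_dvd (by norm_num) h4
      interval_cases l
      · omega
      · exact hl rfl
    · exact h6
  refine ⟨_, hcoq, ?_, s, by simp, z, by simp, h3, big Hs hj4, big Hz hk4⟩
  rw [Finset.card_insert_of_notMem, Finset.card_insert_of_notMem, Finset.card_singleton]
  · rw [Finset.mem_singleton]; exact h3
  · rw [Finset.mem_insert, Finset.mem_singleton, not_or]
    exact ⟨h1, h2⟩

/-- **The frame.** -/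
theorem noCross_of {L : Type w} [Group L] [Finite L] {p R : ℕ} {W : ℕ → Prop} (nc : NC p R W)
    (win : ∀ y : L, W (orderOf y)) (iso : ∀ (x : L) (r : ℕ), r.Prime → r ∣ R → r ∣ orderOf x → orderOf x ∣ R)
    (elt : ∃ x : L, orderOf x = R) (big : ∀ r : ℕ, r.Prime → r ∣ R → 7 < r) (coq : Coq3 L)
    (s13 : R = 61 → ¬ 13 ∣ Nat.card L) (s31 : R = 61 → ¬ 31 ∣ Nat.card L) (s197 : R = 1181 → ¬ 197 ∣ Nat.card L)
    (s41 : R = 547 → ¬ 41 ∣ Nat.card L) (s137 : R = 547 → ¬ 137 ∣ Nat.card L) :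
    NoCross.{u, w} p L := by
  intro G _ _ h H hH N _ hs hna r hr hrp
  obtain ⟨ρ, hρ, hρ4, u, hu, v, hv, huv, hu5, hv5⟩ := coq
  have hR61 : 61 ≤ R := by
    have := nc.big
    omega
  have hex : ∀ k : ℕ, (∃ x : G, orderOf x = k) ↔ ∃ x : L, orderOf x = k := by
    intro k
    have : k ∈ Set.range (orderOf : G → ℕ) ↔ k ∈ Set.range (orderOf : L → ℕ) := by rw [h]
    exact this
  have hdvd : ∀ s : ℕ, s.Prime → (s ∣ Nat.card G ↔ s ∣ Nat.card L) := by
    intro s hs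
    have := Fact.mk hs
    constructor
    · intro hd
      obtain ⟨y, hy⟩ := (hex s).1 (exists_prime_orderOf_dvd_card' s hd)
      rw [← hy]
      exact _root_.orderOf_dvd_natCard y
    · intro hd
      obtain ⟨y, hy⟩ := (hex s).2 (exists_prime_orderOf_dvd_card' s hd)
      rw [← hy]
      exact _root_.orderOf_dvd_natCard y
  obtain ⟨x₀, hx₀⟩ := elt
  have hRL : R ∣ Nat.card L := by
    rw [← hx₀]
    exact _root_.orderOf_dvd_natCard x₀
  have h2A : 2 ∉ {s : ℕ | s ∣ R} := by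
    intro h2
    have := big 2 Nat.prime_two h2
    omega
  have hA : ∀ r ∈ {s : ℕ | s ∣ R}, ∀ s ∉ {s : ℕ | s ∣ R}, r.Prime → s.Prime → r ∣ Nat.card L →
      s ∣ Nat.card L → ¬ ∃ x : L, orderOf x = r * s := by
    rintro t ht s hs htp hsp - - ⟨x, hx⟩
    have h1 := iso x t htp ht (by rw [hx]; exact dvd_mul_right _ _)
    rw [hx] at h1
    exact hs ((dvd_mul_left s t).trans h1)
  have hρG : IsCoq G ρ := ⟨hρ.prime, fun s hs => (hdvd s (hρ.prime s hs)).2 (hρ.dvd s hs),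
    fun s hs t ht hst hx => hρ.nadj s hs t ht hst ((hex _).1 hx)⟩
  obtain ⟨t, ht, htR⟩ := Nat.exists_prime_and_dvd (n := R) (by omega)
  have ht2 : t ≠ 2 := by
    have := big t ht htR
    omega
  obtain ⟨K, hK, S, hS, hred⟩ := exists_red hρG hρ4 ⟨t, ht, ht2, (hdvd t ht).2 (htR.trans hRL), fun hx => by
    obtain ⟨x, hx⟩ := (hex _).1 hx
    have h1 := iso x t ht htR (by rw [hx]; exact dvd_mul_left _ _)
    rw [hx] at h1
    exact h2A ((dvd_mul_right 2 t).trans h1)⟩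
  have key := Cfsg.Agent.H510.RedIso.isolated' h hred h2A hA hρ hρ4 hu hv huv hu5 hv5
  have hsimp := hred.simple
  obtain ⟨e⟩ := Cfsg.Agent.H414.CompFactor.equiv_of_factor K hred.solv S hred.out H hH N hna
  have hcK : Nat.Coprime R (Nat.card ↥K) := Nat.coprime_of_dvd fun s hs hsR hsK =>
    (key s hsR hs (hsR.trans hRL)).2.1 hsK
  have hcS : Nat.Coprime R S.index := Nat.coprime_of_dvd fun s hs hsR hsK =>
    (key s hsR hs (hsR.trans hRL)).2.2 hsK
  have helt : ∃ x : ↥S, orderOf x = R := exists_elt_factor hcK hcS ((hex R).2 ⟨x₀, hx₀⟩)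
  have hT : ∀ x : ↥S, ∃ y : L, orderOf y = orderOf x := by
    intro x
    have h1 : ∃ z : G ⧸ K, orderOf z = orderOf x := ⟨x, Subgroup.orderOf_coe x⟩
    exact (hex _).1 (Cfsg.Agent.H414.Adj.exists_order_quot K (orderOf_pos x).ne' h1)
  have hprime : ∀ s : ℕ, s.Prime → s ∣ Nat.card ↥S → s ∣ Nat.card L := by
    intro s hs hd
    have := Fact.mk hs
    obtain ⟨x, hx⟩ := exists_prime_orderOf_dvd_card' s hd
    obtain ⟨y, hy⟩ := hT x
    rw [← hx, ← hy]
    exact _root_.orderOf_dvd_natCard y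
  have hSC : SC ↥S p R W := by
    refine ⟨⟨helt, ?_, h2A, ?_, by omega⟩, nc, ?_, ?_, ?_, ?_, ?_, ?_⟩
    · intro x r hr hrR hx
      obtain ⟨y, hy⟩ := hT x
      rw [← hy] at hx ⊢
      exact iso y r hr hrR hx
    · intro h3
      have := big 3 Nat.prime_three h3
      omega
    · intro x
      obtain ⟨y, hy⟩ := hT x
      rw [← hy]
      exact win y
    · exact fun h1 h2 => s13 h1 (hprime 13 (by norm_num) h2)
    · exact fun h1 h2 => s31 h1 (hprime 31 (by norm_num) h2)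
    · exact fun h1 h2 => s197 h1 (hprime 197 (by norm_num) h2)
    · exact fun h1 h2 => s41 h1 (hprime 41 (by norm_num) h2)
    · exact fun h1 h2 => s137 h1 (hprime 137 (by norm_num) h2)
  exact (hSC.congr e.symm).not_lie hr hrp

end Cfsg.Agent.R2.Spec.X7
end

-- part: R2/Spec/X7/NumP
section
/-!
# The numerical conditions for `PSL_5(q)`, `PSL_7(q)`, `q` odd
-/

set_option autoImplicit false

namespace Cfsg.Agent.R2.Spec.X7

theorem pos_of_mul_pos_nat {b : ℤ} {w : ℕ} (h : 0 < (w : ℤ) * b) : 0 < b := by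
  by_contra hcon
  have := mul_nonpos_of_nonneg_of_nonpos (Int.natCast_nonneg w) (not_lt.1 hcon)
  omega

/-- the numbers of `PSL_n(q)`, `n = 5, 7` -/
structure PNum (p q n c w R : ℕ) : Prop where
  hn : n = 5 ∨ n = 7
  hp : p.Prime
  hp2 : p ≠ 2
  hq : ∃ f, 1 ≤ f ∧ q = p ^ f
  hc : c = Nat.gcd n (q - 1)
  hw : w = c * (q - 1)
  hR : R * w = q ^ n - 1

/-- the condition for the element orders -/
def WP (p q n c : ℕ) (E : ℕ) : Prop := ∃ E0, 0 < E0 ∧ E ∣ E0 ∧ Shape (q : ℤ) p q (q - 1) q n c E0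

/-- the special numbers -/
def DP (p q n : ℕ) (D : ℤ) : Prop :=
  (n = 5 ∧ (D = (q : ℤ) ^ 4 + q - 2 ∨ D = (q : ℤ) ^ 3 + (q : ℤ) ^ 2 - 2 ∨ (q = p ∧ D = (q : ℤ) ^ 4 + (q : ℤ) ^ 2 - q - 1))) ∨
  (n = 7 ∧ (D = (q : ℤ) ^ 6 + q - 2 ∨ D = (q : ℤ) ^ 5 + (q : ℤ) ^ 2 - 2 ∨ D = (q : ℤ) ^ 4 + (q : ℤ) ^ 3 - 2 ∨
    (q = p ∧ D = (q : ℤ) ^ 6 + (q : ℤ) ^ 2 - q - 1)))

namespace PNum

variable {p q n c w R : ℕ} (h : PNum p q n c w R)

include h

theorem p3 : 3 ≤ p := by
  have := h.hp.two_le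
  have := h.hp2
  omega

theorem pq : p = q ∨ 3 * p ≤ q := by
  obtain ⟨f, hf, hq⟩ := h.hq
  rcases Nat.eq_or_lt_of_le hf with h1 | h1
  · left; rw [hq, ← h1, pow_one]
  · right
    obtain ⟨g, rfl⟩ : ∃ g, f = g + 2 := ⟨f - 2, by omega⟩
    rw [hq, pow_add]
    calc 3 * p ≤ p * p := Nat.mul_le_mul_right _ h.p3
      _ = 1 * p ^ 2 := by ring
      _ ≤ p ^ g * p ^ 2 := Nat.mul_le_mul_right _ (Nat.one_le_pow _ _ h.hp.pos)

theorem p_le : p ≤ q := by
  have := h.pq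
  omega

theorem q3 : 3 ≤ q := by
  have := h.p_le
  have := h.p3
  omega

theorem q_odd : q % 2 = 1 := by
  obtain ⟨f, hf, hq⟩ := h.hq
  have : Odd q := by rw [hq]; exact (h.hp.odd_of_ne_two h.hp2).pow
  exact Nat.odd_iff.1 this

theorem c_cases : c = 1 ∨ (c = n ∧ 2 * n ≤ q - 1) := by
  have hnp : n.Prime := by
    rcases h.hn with h1 | h1 <;> rw [h1] <;> norm_num
  have h3 := h.q3
  have ho := h.q_odd
  have hc := h.hc
  have h2 : c ∣ n := by rw [hc]; exact Nat.gcd_dvd_left _ _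
  rcases (Nat.dvd_prime hnp).1 h2 with h1 | h1
  · exact Or.inl h1
  · right
    refine ⟨h1, ?_⟩
    have h4 : n ∣ q - 1 := by rw [← h1, hc]; exact Nat.gcd_dvd_right _ _
    have h5 : 2 ∣ q - 1 := ⟨(q - 1) / 2, by omega⟩
    have h6 : Nat.Coprime 2 n := by
      rcases h.hn with h1 | h1 <;> rw [h1] <;> norm_num
    exact Nat.le_of_dvd (by omega) (h6.mul_dvd_of_dvd_of_dvd h5 h4)

theorem c_pos : 0 < c := by
  rcases h.c_cases with h1 | ⟨h1, -⟩
  · omega
  · have := h.hn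
    omega

theorem two_c : 2 * c ≤ q - 1 := by
  have := h.q3
  have := h.q_odd
  rcases h.c_cases with h1 | ⟨h1, h2⟩ <;> omega

theorem w_le : 2 * w ≤ (q - 1) ^ 2 := by
  rw [h.hw, pow_two]
  calc 2 * (c * (q - 1)) = (2 * c) * (q - 1) := by ring
    _ ≤ _ := Nat.mul_le_mul_right _ h.two_c

theorem w_ge : q - 1 ≤ w := by
  rw [h.hw]
  exact Nat.le_mul_of_pos_left _ h.c_pos

theorem hRZ : (w : ℤ) * R = (q : ℤ) ^ n - 1 := by
  have h1 : 1 ≤ q ^ n := Nat.one_le_pow _ _ (by have := h.q3; omega)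
  have := congrArg (fun x : ℕ => (x : ℤ)) h.hR
  push_cast [Nat.cast_sub h1] at this
  linarith only [this]

/-- small numbers -/
theorem small {E : ℕ} (hE : (q - 1) ^ 2 * E ≤ q ^ n) : 2 * E ≤ R := by
  have h1 := h.w_le
  have h2 := h.w_ge
  have h3 := h.q3
  have h4 := h.hR
  by_contra hcon
  have h5 : (R + 1) * w ≤ 2 * E * w := Nat.mul_le_mul_right _ (by omega)
  have h6 : 2 * E * w ≤ (q - 1) ^ 2 * E := by
    calc 2 * E * w = (2 * w) * E := by ring
      _ ≤ _ := Nat.mul_le_mul_right _ h1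
  have h7 : (R + 1) * w = R * w + w := by ring
  have h8 : 1 ≤ q ^ n := Nat.one_le_pow _ _ (by omega)
  omega

theorem small4 {k : ℕ} (hk : p ^ k < n) : 2 * ((q - 1) * p ^ (k + 1)) ≤ R := by
  apply h.small
  have h3 := h.q3
  have hpq := h.p_le
  obtain ⟨t, ht⟩ : ∃ t, q = t + 3 := ⟨q - 3, by omega⟩
  have h1 : p ^ (k + 1) ≤ (n - 1) * q := by
    rw [pow_succ]
    exact Nat.mul_le_mul (by omega) hpq
  calc (q - 1) ^ 2 * ((q - 1) * p ^ (k + 1)) ≤ (q - 1) ^ 2 * ((q - 1) * ((n - 1) * q)) :=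
        Nat.mul_le_mul_left _ (Nat.mul_le_mul_left _ h1)
    _ ≤ q ^ n := by
      have e1 : q - 1 = t + 2 := by omega
      rw [e1, ht]
      rcases h.hn with h1 | h1 <;> rw [h1]
      · have e2 : (t + 3) ^ 5 = (t + 2) ^ 2 * ((t + 2) * ((5 - 1) * (t + 3))) +
            (t ^ 5 + 11 * t ^ 4 + 54 * t ^ 3 + 150 * t ^ 2 + 229 * t + 147) := by norm_num; ring
        rw [e2]; exact Nat.le_add_right _ _
      · have e2 : (t + 3) ^ 7 = (t + 2) ^ 2 * ((t + 2) * ((7 - 1) * (t + 3))) +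
            (t ^ 7 + 21 * t ^ 6 + 189 * t ^ 5 + 939 * t ^ 4 + 2781 * t ^ 3 + 4923 * t ^ 2 + 4839 * t + 2043) := by
          norm_num; ring
        rw [e2]; exact Nat.le_add_right _ _

/-- the shapes of the maximal element orders -/
theorem shape_cases {E : ℕ} (hS : Shape (q : ℤ) p q (q - 1) q n c E) :
    E = R ∨ 2 * E ≤ R ∨ ∃ D, DP p q n D ∧ (w : ℤ) * ((R : ℤ) - E) = D := by
  have h3 := h.q3
  have hw := h.hw
  have hR := h.hRZ
  have hcp := h.c_pos
  have hw0 : 0 < w := by have := h.w_ge; omega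
  rcases hS with h1 | ⟨a, b, ha, hb, hab, h1⟩ | h1 | ⟨k, h1, hk⟩ | h1
  · left
    rw [ua_plus (by omega), ← hw, ← h.hR] at h1
    exact Nat.eq_of_mul_eq_mul_right hw0 h1
  · right; right
    rw [ua_plus (by omega), ua_plus (by omega), ← hw] at h1
    have h2 : (w : ℤ) * E = ((q : ℤ) ^ a - 1) * ((q : ℤ) ^ b - 1) := by
      have h4 : 1 ≤ q ^ a := Nat.one_le_pow _ _ (by omega)
      have h5 : 1 ≤ q ^ b := Nat.one_le_pow _ _ (by omega)
      have := congrArg (fun x : ℕ => (x : ℤ)) h1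
      push_cast [Nat.cast_sub h4, Nat.cast_sub h5] at this
      linarith only [this]
    rcases h.hn with h4 | h4
    · have h5 : (a = 1 ∧ b = 4) ∨ (a = 2 ∧ b = 3) ∨ (a = 3 ∧ b = 2) ∨ (a = 4 ∧ b = 1) := by (clear * - ha hb hab h4; solve | lia | omega)
      rw [h4] at hR
      rcases h5 with ⟨rfl, rfl⟩ | ⟨rfl, rfl⟩ | ⟨rfl, rfl⟩ | ⟨rfl, rfl⟩
      · exact ⟨_, Or.inl ⟨h4, Or.inl rfl⟩, by linear_combination hR - h2⟩
      · exact ⟨_, Or.inl ⟨h4, Or.inr (Or.inl rfl)⟩, by linear_combination hR - h2⟩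
      · exact ⟨_, Or.inl ⟨h4, Or.inr (Or.inl rfl)⟩, by linear_combination hR - h2⟩
      · exact ⟨_, Or.inl ⟨h4, Or.inl rfl⟩, by linear_combination hR - h2⟩
    · have h5 : (a = 1 ∧ b = 6) ∨ (a = 2 ∧ b = 5) ∨ (a = 3 ∧ b = 4) ∨ (a = 4 ∧ b = 3) ∨ (a = 5 ∧ b = 2) ∨
          (a = 6 ∧ b = 1) := by (clear * - ha hb hab h4; (solve | lia | omega))
      rw [h4] at hR
      rcases h5 with ⟨rfl, rfl⟩ | ⟨rfl, rfl⟩ | ⟨rfl, rfl⟩ | ⟨rfl, rfl⟩ | ⟨rfl, rfl⟩ | ⟨rfl, rfl⟩
      · exact ⟨_, Or.inr ⟨h4, Or.inl rfl⟩, by linear_combination hR - h2⟩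
      · exact ⟨_, Or.inr ⟨h4, Or.inr (Or.inl rfl)⟩, by linear_combination hR - h2⟩
      · exact ⟨_, Or.inr ⟨h4, Or.inr (Or.inr (Or.inl rfl))⟩, by linear_combination hR - h2⟩
      · exact ⟨_, Or.inr ⟨h4, Or.inr (Or.inr (Or.inl rfl))⟩, by linear_combination hR - h2⟩
      · exact ⟨_, Or.inr ⟨h4, Or.inr (Or.inl rfl)⟩, by linear_combination hR - h2⟩
      · exact ⟨_, Or.inr ⟨h4, Or.inl rfl⟩, by linear_combination hR - h2⟩
  · rw [ua_plus (by (clear * - h3; omega))] at h1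
    have hN : 1 ≤ q ^ (n - 2) := Nat.one_le_pow _ _ (by omega)
    have hwZ : (w : ℤ) = c * ((q : ℤ) - 1) := by
      rw [hw]
      push_cast [Nat.cast_sub (show 1 ≤ q by omega)]
      ring
    have h2 : (w : ℤ) * E = p * ((q : ℤ) ^ (n - 2) - 1) * ((q : ℤ) - 1) := by
      have := congrArg (fun x : ℕ => (x : ℤ)) h1
      push_cast [Nat.cast_sub hN] at this
      rw [hwZ]
      linear_combination ((q : ℤ) - 1) * this
    rcases h.pq with h5 | h5
    · right; right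
      rw [h5] at h2
      rcases h.hn with h4 | h4
      · rw [h4] at hR h2
        exact ⟨_, Or.inl ⟨h4, Or.inr (Or.inr ⟨h5.symm, rfl⟩)⟩, by norm_num at h2; linear_combination hR - h2⟩
      · rw [h4] at hR h2
        exact ⟨_, Or.inr ⟨h4, Or.inr (Or.inr (Or.inr ⟨h5.symm, rfl⟩))⟩, by norm_num at h2; linear_combination hR - h2⟩
    · right; left
      -- `3 w E ≤ q (q - 1) (q^(n-2) - 1) ≤ w R`
      have h6 : (w : ℤ) * (3 * E) ≤ (w : ℤ) * R := by
        have h7 : (w : ℤ) * (3 * E) = (3 * p) * (((q : ℤ) ^ (n - 2) - 1) * ((q : ℤ) - 1)) := by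
          linear_combination 3 * h2
        have h8 : (0 : ℤ) ≤ ((q : ℤ) ^ (n - 2) - 1) * ((q : ℤ) - 1) := by
          apply mul_nonneg
          · have : (1 : ℤ) ≤ (q : ℤ) ^ (n - 2) := by exact_mod_cast hN
            linarith only [hN]
          · omega
        have h9 : (3 * (p : ℤ)) * (((q : ℤ) ^ (n - 2) - 1) * ((q : ℤ) - 1)) ≤
            q * (((q : ℤ) ^ (n - 2) - 1) * ((q : ℤ) - 1)) := mul_le_mul_of_nonneg_right (by exact_mod_cast h5) h8
        rw [h7, hR]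
        refine h9.trans ?_
        have h10 : (q : ℤ) ^ n = (q : ℤ) ^ 2 * (q : ℤ) ^ (n - 2) := by
          rw [← pow_add]; congr 1; have := h.hn; omega
        have h11 : (1 : ℤ) ≤ (q : ℤ) ^ (n - 2) := by exact_mod_cast hN
        have h12 : (3 : ℤ) ≤ q := by exact_mod_cast h3
        rw [h10]
        nlinarith only [h3, hN, h8]
      have h7 := le_of_mul_le_mul_left h6 (by exact_mod_cast hw0)
      have h8 : 3 * E ≤ R := by exact_mod_cast h7
      omega
  · right; left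
    rw [h1]
    exact h.small4 hk
  · right; left
    apply h.small
    refine h1.trans (le_of_eq ?_)
    rw [← pow_add]
    congr 1
    have := h.hn
    omega

/-- the special numbers are positive and not small -/
theorem DP_pos {D : ℤ} (hD : DP p q n D) : ((q : ℤ) - 1) ^ 2 < D := by
  have h3 := h.q3
  obtain ⟨a, rfl⟩ : ∃ a, q = a + 3 := ⟨q - 3, by omega⟩
  rcases hD with ⟨-, rfl | rfl | ⟨-, rfl⟩⟩ | ⟨-, rfl | rfl | rfl | ⟨-, rfl⟩⟩ <;> push_cast <;>
    exact pos_lt (by clear * -; ring_nf; positivity)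

theorem shape_le {E : ℕ} (hS : Shape (q : ℤ) p q (q - 1) q n c E) : E ≤ R := by
  rcases h.shape_cases hS with h1 | h1 | ⟨D, hD, h1⟩
  · exact h1.le
  · omega
  · have h2 := h.DP_pos hD
    have h3 : (0 : ℤ) < (w : ℤ) * ((R : ℤ) - E) := by
      rw [h1]
      exact lt_of_le_of_lt (sq_nonneg _) h2
    have h4 : (0 : ℤ) < (R : ℤ) - E := pos_of_mul_pos_nat h3
    omega

end PNum

end Cfsg.Agent.R2.Spec.X7
end

-- part: R2/Spec/X7/NumP2
section
/-!
# The numerical conditions for `PSL_5(q)`, `PSL_7(q)`, `q` odd: conclusion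
-/

set_option autoImplicit false

namespace Cfsg.Agent.R2.Spec.X7

namespace PNum

variable {p q n c w R : ℕ} (h : PNum p q n c w R)

include h

theorem w_pos : 0 < w := by
  have := h.w_ge
  have := h.q3
  omega

theorem w_le' : 2 * (w : ℤ) ≤ ((q : ℤ) - 1) ^ 2 := by
  have h1 := h.w_le
  have h2 := h.q3
  obtain ⟨a, rfl⟩ : ∃ a, q = a + 3 := ⟨q - 3, by omega⟩
  have e1 : a + 3 - 1 = a + 2 := by omega
  rw [e1] at h1
  have h3 : ((2 * w : ℕ) : ℤ) ≤ (((a + 2) ^ 2 : ℕ) : ℤ) := by exact_mod_cast h1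
  push_cast at h3 ⊢
  have e2 : (a : ℤ) + 3 - 1 = a + 2 := by ring
  rw [e2]
  exact h3

theorem big : R = 121 ∨ R = 781 ∨ R = 1093 ∨ 2801 ≤ R := by
  have h3 := h.q3
  have ho := h.q_odd
  have hR := h.hR
  have hw := h.hw
  rcases h.c_cases with hc | ⟨hc, hq⟩
  · rw [hc, one_mul] at hw
    have h4 : q = 3 ∨ q = 5 ∨ 7 ≤ q := by omega
    rcases h.hn with hn | hn
    · rcases h4 with h4 | h4 | h4
      · rw [hn, hw, h4] at hR; norm_num at hR; omega
      · rw [hn, hw, h4] at hR; norm_num at hR; omega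
      · right; right; right
        obtain ⟨a, rfl⟩ : ∃ a, q = a + 7 := ⟨q - 7, by omega⟩
        have e1 : a + 7 - 1 = a + 6 := by omega
        have e2 : (a + 7) ^ 5 - 1 = (a ^ 4 + 29 * a ^ 3 + 316 * a ^ 2 + 1534 * a + 2801) * (a + 6) := by
          have : (a + 7) ^ 5 = (a ^ 4 + 29 * a ^ 3 + 316 * a ^ 2 + 1534 * a + 2801) * (a + 6) + 1 := by ring
          omega
        rw [hn, hw, e1, e2] at hR
        have := Nat.eq_of_mul_eq_mul_right (by omega) hR
        rw [this]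
        exact Nat.le_add_left _ _
    · rcases h4 with h4 | h4 | h4
      · rw [hn, hw, h4] at hR; norm_num at hR; omega
      · rw [hn, hw, h4] at hR; norm_num at hR; omega
      · right; right; right
        by_contra hcon
        have h5 : R * w ≤ 2800 * (q - 1) := Nat.mul_le_mul (by omega) hw.le
        have h6 : 7 ^ 6 * q ≤ q ^ 7 := by
          calc 7 ^ 6 * q ≤ q ^ 6 * q := Nat.mul_le_mul_right _ (Nat.pow_le_pow_left h4 6)
            _ = _ := by ring
        rw [hn] at hR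
        omega
  · right; right; right
    by_contra hcon
    have h5 : R * w ≤ 2800 * (n * (q - 1)) := Nat.mul_le_mul (by omega) (by rw [hw, hc])
    rcases h.hn with hn | hn
    · rw [hn] at hR h5 hq
      have h6 : 11 ^ 4 * q ≤ q ^ 5 := by
        calc 11 ^ 4 * q ≤ q ^ 4 * q := Nat.mul_le_mul_right _ (Nat.pow_le_pow_left (by omega) 4)
          _ = _ := by ring
      omega
    · rw [hn] at hR h5 hq
      have h6 : 11 ^ 6 * q ≤ q ^ 7 := by
        calc 11 ^ 6 * q ≤ q ^ 6 * q := Nat.mul_le_mul_right _ (Nat.pow_le_pow_left (by omega) 6)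
          _ = _ := by ring
      omega

theorem R1093 (hR3 : R = 1093) : p = 3 := by
  have h3 := h.q3
  have ho := h.q_odd
  have hR := h.hR
  have hw := h.w_le
  have hw' := h.w_ge
  have hq3 : q = 3 := by
    by_contra hcon
    have hq5 : 5 ≤ q := by omega
    rcases h.hn with hn | hn
    · rw [hn, hR3] at hR
      rcases h.c_cases with hc | ⟨hc, hq⟩
      · have hww := h.hw
        rw [hc, one_mul] at hww
        rcases Nat.eq_or_lt_of_le hq5 with h5 | h5
        · rw [hww, ← h5] at hR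
          norm_num at hR
        · have h6 : 7 ^ 4 * q ≤ q ^ 5 := by
            calc 7 ^ 4 * q ≤ q ^ 4 * q := Nat.mul_le_mul_right _ (Nat.pow_le_pow_left (by omega) 4)
              _ = _ := by ring
          omega
      · have hww := h.hw
        rw [hc, hn] at hww
        have h6 : 11 ^ 4 * q ≤ q ^ 5 := by
          calc 11 ^ 4 * q ≤ q ^ 4 * q := Nat.mul_le_mul_right _ (Nat.pow_le_pow_left (by omega) 4)
            _ = _ := by ring
        (clear * - ho hR hcon hq5 hn hq hww h6; omega)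
    · rw [hn, hR3] at hR
      have hww := h.hw
      have hc7 : c ≤ 7 := by
        rcases h.c_cases with hc | ⟨hc, -⟩ <;> omega
      have h6 : 5 ^ 6 * q ≤ q ^ 7 := by
        calc 5 ^ 6 * q ≤ q ^ 6 * q := Nat.mul_le_mul_right _ (Nat.pow_le_pow_left (by omega) 6)
          _ = _ := by ring
      have h7 : w ≤ 7 * (q - 1) := by rw [hww]; exact Nat.mul_le_mul_right _ hc7
      (clear * - hR hq5 h6 h7; omega)
  have h5 := h.p_le
  have h6 := h.p3
  omega

theorem not_13 : ¬ 13 ∣ R := by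
  intro hd
  have h3 := h.q3
  have hR := h.hR
  have hw := h.hw
  have key : ∀ Φ : ℕ, q ^ n - 1 = Φ * (q - 1) → (13 : ℕ) ∣ Φ := by
    intro Φ hΦ
    rw [hw, hΦ, ← mul_assoc] at hR
    have := Nat.eq_of_mul_eq_mul_right (by omega) hR
    rw [← this]
    exact hd.mul_right _
  rcases h.hn with hn | hn
  · have h1 := key (q ^ 4 + q ^ 3 + q ^ 2 + q + 1) (by
      rw [hn]
      obtain ⟨a, rfl⟩ : ∃ a, q = a + 1 := ⟨q - 1, by omega⟩
      rw [Nat.add_sub_cancel]
      have : (a + 1) ^ 5 = ((a + 1) ^ 4 + (a + 1) ^ 3 + (a + 1) ^ 2 + (a + 1) + 1) * a + 1 := by ring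
      omega)
    rw [← ZMod.natCast_eq_zero_iff] at h1
    push_cast at h1
    have h2 : ∀ x : ZMod 13, x ^ 4 + x ^ 3 + x ^ 2 + x + 1 ≠ 0 := by decide
    exact h2 _ h1
  · have h1 := key (q ^ 6 + q ^ 5 + q ^ 4 + q ^ 3 + q ^ 2 + q + 1) (by
      rw [hn]
      obtain ⟨a, rfl⟩ : ∃ a, q = a + 1 := ⟨q - 1, by omega⟩
      rw [Nat.add_sub_cancel]
      have : (a + 1) ^ 7 = ((a + 1) ^ 6 + (a + 1) ^ 5 + (a + 1) ^ 4 + (a + 1) ^ 3 + (a + 1) ^ 2 + (a + 1) + 1) * a + 1 := by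
        ring
      omega)
    rw [← ZMod.natCast_eq_zero_iff] at h1
    push_cast at h1
    have h2 : ∀ x : ZMod 13, x ^ 6 + x ^ 5 + x ^ 4 + x ^ 3 + x ^ 2 + x + 1 ≠ 0 := by decide
    exact h2 _ h1

theorem R121 : 121 ≤ R := by
  rcases h.big with h1 | h1 | h1 | h1 <;> omega

theorem le_R {E : ℕ} (hW : WP p q n c E) : E ≤ R := by
  obtain ⟨E0, h0, hd, hS⟩ := hW
  exact (Nat.le_of_dvd h0 hd).trans (h.shape_le hS)

/-- the element orders above `R / 2` -/
theorem spec {E : ℕ} (hW : WP p q n c E) (h2 : R < 2 * E) (hne : E ≠ R) :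
    ∃ D, DP p q n D ∧ (w : ℤ) * ((R : ℤ) - E) = D := by
  obtain ⟨E0, h0, ⟨j, hj⟩, hS⟩ := hW
  have h3 := h.shape_le hS
  have hj1 : j = 1 := by
    have h4 : j ≠ 0 := by
      rintro rfl
      omega
    by_contra h5
    have h6 : E * 2 ≤ E * j := Nat.mul_le_mul_left _ (by omega)
    omega
  rw [hj1, mul_one] at hj
  rw [hj] at hS
  rcases h.shape_cases hS with h4 | h4 | h4
  · exact absurd h4 hne
  · omega
  · exact h4

theorem DP_pair {D D' : ℤ} (hD : DP p q n D) (hD' : DP p q n D') (hlt : D < D') :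
    23 * D < 10 * D' ∨ (10 * D' ≤ 11 * D ∧ (D' - D) * D' ≤ ((q : ℤ) - 1) * ((q : ℤ) ^ n - 1)) := by
  have h3 := h.q3
  obtain ⟨a, rfl⟩ : ∃ a, q = a + 3 := ⟨q - 3, by omega⟩
  rcases hD with ⟨hn, rfl | rfl | ⟨-, rfl⟩⟩ | ⟨hn, rfl | rfl | rfl | ⟨-, rfl⟩⟩ <;>
    rcases hD' with ⟨hn', rfl | rfl | ⟨-, rfl⟩⟩ | ⟨hn', rfl | rfl | rfl | ⟨-, rfl⟩⟩ <;> (try (clear * - hlt hn hn'; omega)) <;> push_cast at hlt ⊢
  -- n = 5
  · exfalso; exact absurd hlt (not_lt.2 (pos_le (by clear * -; ring_nf; positivity)))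
  · right
    rw [hn]
    exact ⟨pos_le (by clear * -; ring_nf; positivity), pos_le (by clear * -; ring_nf; positivity)⟩
  · left; exact pos_lt (by clear * -; ring_nf; positivity)
  · left; exact pos_lt (by clear * -; ring_nf; positivity)
  · exfalso; exact absurd hlt (not_lt.2 (pos_le (by clear * -; ring_nf; positivity)))
  · exfalso; exact absurd hlt (not_lt.2 (pos_le (by clear * -; ring_nf; positivity)))
  -- n = 7
  · exfalso; exact absurd hlt (not_lt.2 (pos_le (by clear * -; ring_nf; positivity)))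
  · exfalso; exact absurd hlt (not_lt.2 (pos_le (by clear * -; ring_nf; positivity)))
  · right
    rw [hn]
    exact ⟨pos_le (by clear * -; ring_nf; positivity), pos_le (by clear * -; ring_nf; positivity)⟩
  · left; exact pos_lt (by clear * -; ring_nf; positivity)
  · exfalso; exact absurd hlt (not_lt.2 (pos_le (by clear * -; ring_nf; positivity)))
  · left; exact pos_lt (by clear * -; ring_nf; positivity)
  · left; exact pos_lt (by clear * -; ring_nf; positivity)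
  · left; exact pos_lt (by clear * -; ring_nf; positivity)
  · left; exact pos_lt (by clear * -; ring_nf; positivity)
  · exfalso; exact absurd hlt (not_lt.2 (pos_le (by clear * -; ring_nf; positivity)))
  · exfalso; exact absurd hlt (not_lt.2 (pos_le (by clear * -; ring_nf; positivity)))
  · exfalso; exact absurd hlt (not_lt.2 (pos_le (by clear * -; ring_nf; positivity)))

/-- upper bounds for the special numbers -/
theorem DP_le {D : ℤ} (hD : DP p q n D) : 4 * D < 2 * ((q : ℤ) ^ n - 1) - ((q : ℤ) - 1) ^ 2 ∧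
    5 * D < 2 * ((q : ℤ) ^ n - 1) ∧ (5 ≤ q → 4 * D < (q : ℤ) ^ n - 1 ∧ 3 * D < (q : ℤ) ^ n - 1 - 2 * ((q : ℤ) - 1) ^ 2) := by
  have h3 := h.q3
  refine ⟨?_, ?_, fun h5 => ?_⟩
  · obtain ⟨a, rfl⟩ : ∃ a, q = a + 3 := ⟨q - 3, by omega⟩
    rcases hD with ⟨hn, rfl | rfl | ⟨-, rfl⟩⟩ | ⟨hn, rfl | rfl | rfl | ⟨-, rfl⟩⟩ <;> rw [hn] <;> push_cast <;>
      exact pos_lt (by clear * -; ring_nf; (clear * -; positivity))
  · obtain ⟨a, rfl⟩ : ∃ a, q = a + 3 := ⟨q - 3, by omega⟩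
    rcases hD with ⟨hn, rfl | rfl | ⟨-, rfl⟩⟩ | ⟨hn, rfl | rfl | rfl | ⟨-, rfl⟩⟩ <;> rw [hn] <;> push_cast <;>
      exact pos_lt (by clear * -; ring_nf; positivity)
  · obtain ⟨a, rfl⟩ : ∃ a, q = a + 5 := ⟨q - 5, by (clear * - h5; omega)⟩
    rcases hD with ⟨hn, rfl | rfl | ⟨-, rfl⟩⟩ | ⟨hn, rfl | rfl | rfl | ⟨-, rfl⟩⟩ <;> rw [hn] <;> push_cast <;>
      exact ⟨pos_lt (by clear * -; ring_nf; (clear * -; positivity)), pos_lt (by clear * -; ring_nf; positivity)⟩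

theorem not_dvd_q {u : ℕ} (hu : ¬ p ∣ u) : ¬ q ∣ u := by
  intro hd
  obtain ⟨f, hf, hq⟩ := h.hq
  exact hu ((hq ▸ dvd_pow_self p (by omega) : p ∣ q).trans hd)

/-- **the numerical conditions** -/
theorem nc : NC p R (WP p q n c) where
  hp := h.hp
  c1093 := h.R1093
  n13 := h.not_13
  big := by rcases h.big with h1 | h1 | h1 | h1 <;> omega
  upper := fun E _ hW => by have := h.le_R hW; omega
  near := by
    intro E hE0 hW hne h1 h2
    have hR := h.R121
    have h3 := h.le_R hW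
    obtain ⟨D, hD, h4⟩ := h.spec hW (by omega) hne
    have h5 := h.DP_pos hD
    have h6 := h.w_le'
    have h7 : (w : ℤ) * ((R : ℤ) - E) ≤ w * 2 := mul_le_mul_of_nonneg_left (by omega) (Int.natCast_nonneg w)
    linarith only [h4, h5, h6, h7]
  neg := by
    intro E E' hE0 hW hW' h7 h1 h2
    obtain ⟨D, hD, h4⟩ := h.spec hW (by omega) (by omega)
    obtain ⟨D', hD', h4'⟩ := h.spec hW' (by omega) (by omega)
    have hw : (0 : ℤ) < w := by exact_mod_cast h.w_pos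
    have hlt : D < D' := by
      rw [← h4, ← h4']
      exact mul_lt_mul_of_pos_left (by omega) hw
    rcases h.DP_pair hD hD' hlt with h5 | ⟨h5, h6⟩
    · left
      rw [← h4, ← h4'] at h5
      exact lt_of_mul_lt_mul_left (by linarith only [h5] : (w : ℤ) * (23 * ((R : ℤ) - E)) < w * (10 * (R - E'))) hw.le
    · right
      constructor
      · rw [← h4, ← h4'] at h5
        exact le_of_mul_le_mul_left (by linarith only [h5] : (w : ℤ) * (10 * ((R : ℤ) - E')) ≤ w * (11 * (R - E))) hw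
      · rw [← h4, ← h4'] at h6
        have hq1 : (q : ℤ) - 1 ≤ w := by have := h.w_ge; have := h.q3; omega
        have h8 : (0 : ℤ) ≤ (q : ℤ) ^ n - 1 := by rw [← h.hRZ]; (clear * - hw; positivity)
        have h9 : ((q : ℤ) - 1) * ((q : ℤ) ^ n - 1) ≤ w * ((q : ℤ) ^ n - 1) := mul_le_mul_of_nonneg_right hq1 h8
        rw [← h.hRZ] at h9
        rw [← h.hRZ] at h6
        have hww : (0 : ℤ) < w * w := mul_pos hw hw
        refine le_of_mul_le_mul_left (?_ : (w : ℤ) * w * (((E : ℤ) - E') * (R - E')) ≤ w * w * R) hww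
        have e1 : (w : ℤ) * w * (((E : ℤ) - E') * (R - E')) = (w * ((R : ℤ) - E') - w * (R - E)) * (w * (R - E')) := by
          ring
        rw [e1]
        linarith only [h6, h9]
  posi := by
    intro E E' _ hW _ h1 h2
    have := h.le_R hW
    omega
  opp := by
    intro E E' _ hW _ _ _ h2
    have := h.le_R hW
    omega
  lT := by
    intro u M κ E hpu hu hM h1 h2 hE0 hW
    exfalso
    have hw : (0 : ℤ) < w := by exact_mod_cast h.w_pos
    obtain ⟨z, hz⟩ : ∃ z, u ^ (M - 1) = z := ⟨_, rfl⟩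
    have hz2 : u ^ 2 ≤ z := by rw [← hz]; exact Nat.pow_le_pow_right (by omega) (by omega)
    have hz3 : z = u ^ 2 ∨ u ^ 3 ≤ z := by
      rcases Nat.eq_or_lt_of_le hM with h3 | h3
      · left; rw [← hz, ← h3]
      · right; rw [← hz]; exact Nat.pow_le_pow_right (by omega) (by omega)
    have huM : u ^ M = u * z := by rw [← hz, ← pow_succ']; congr 1; omega
    rw [huM] at h1
    rw [hz] at h2
    have hz0 : 9 ≤ z := le_trans (by nlinarith only [hu]) hz2
    have h1Z : (R : ℤ) * κ = (u : ℤ) * z - 1 := by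
      have h3 : 1 ≤ u * z := Nat.mul_pos (by omega) (by omega)
      have := congrArg (fun x : ℕ => (x : ℤ)) h1
      push_cast [Nat.cast_sub h3] at this
      exact this
    have h2Z : (κ : ℤ) * E = ((z : ℤ) - 1) * (u - 1) := by
      have := congrArg (fun x : ℕ => (x : ℤ)) h2
      push_cast [Nat.cast_sub (show 1 ≤ z by omega), Nat.cast_sub (show 1 ≤ u by omega)] at this
      exact this
    have hκ : (0 : ℤ) < κ := by
      rcases Nat.eq_zero_or_pos κ with h3 | h3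
      · rw [h3] at h1Z
        have : (3 : ℤ) * 9 ≤ u * z := by exact_mod_cast Nat.mul_le_mul hu hz0
        push_cast at h1Z
        linarith only [this, h1Z]
      · exact_mod_cast h3
    have h4Z : (κ : ℤ) * ((R : ℤ) - E) = z + u - 2 := by linear_combination h1Z - h2Z
    have hne : E ≠ R := by
      rintro rfl
      rw [sub_self, mul_zero] at h4Z
      omega
    have h2E : R < 2 * E := by
      have h5 : (κ : ℤ) * R < κ * (2 * E) := by
        have h6 : (κ : ℤ) * (2 * E) - κ * R = (u - 2) * z - 2 * u + 3 := by linear_combination 2 * h2Z - h1Z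
        have h7 : (0 : ℤ) < ((u : ℤ) - 2) * z - 2 * u + 3 := by
          have h8 : (1 : ℤ) * (u ^ 2) ≤ ((u : ℤ) - 2) * z := mul_le_mul (by omega) (by exact_mod_cast hz2) (by positivity) (by omega)
          have h9 : (3 : ℤ) * u ≤ u ^ 2 := by rw [pow_two]; exact mul_le_mul_of_nonneg_right (by exact_mod_cast hu) (by positivity)
          linarith only [h8, h9]
        linarith only [h1Z, h2Z, h7]
      have h6 := lt_of_mul_lt_mul_left h5 hκ.le
      exact_mod_cast h6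
    obtain ⟨D, hD, h5⟩ := h.spec hW h2E hne
    have hcr := cross h5 h.hRZ h1Z h4Z
    have hq3 : (3 : ℤ) ≤ q := by exact_mod_cast h.q3
    have hu2 : (2 : ℤ) ≤ u := by omega
    have hzz : (u : ℤ) ^ 2 ≤ z := by exact_mod_cast hz2
    have hzz3 : (z : ℤ) = (u : ℤ) ^ 2 ∨ (u : ℤ) ^ 3 ≤ z := by
      rcases hz3 with h6 | h6
      · left; exact_mod_cast h6
      · right; exact_mod_cast h6
    have huq : (u : ℤ) ≠ q := by
      intro h6
      have : u = q := by exact_mod_cast h6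
      exact h.not_dvd_q hpu (dvd_of_eq this.symm)
    rcases hD with ⟨hn, rfl | rfl | ⟨-, rfl⟩⟩ | ⟨hn, rfl | rfl | rfl | ⟨-, rfl⟩⟩ <;> rw [hn] at hcr
    · exact huq (p5D1 hq3 hu2 hzz hcr)
    · exact p5D2 hq3 hu2 hzz3 hcr
    · exact huq (p5D1' hq3 hu2 hzz hcr)
    · exact huq (p7D1 hq3 hu2 hzz hcr)
    · have h6 := p7D2 hq3 hu2 hzz hcr
      have h7 : u = q ^ 2 := by exact_mod_cast h6
      exact h.not_dvd_q hpu (h7 ▸ dvd_pow_self q (by norm_num))
    · have h6 := p7D3 hq3 hu2 hzz hcr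
      have h7 : (q : ℤ) ∣ (u : ℤ) := ⟨(q : ℤ) ^ 2 - q + 1, by rw [h6]; ring⟩
      exact h.not_dvd_q hpu (by exact_mod_cast h7)
    · exact huq (p7D1' hq3 hu2 hzz hcr)
  two := by
    intro z E hz h1 h2 hW
    have hR := h.R121
    obtain ⟨D, hD, h5⟩ := h.spec hW (by omega) (by omega)
    have hKR := h.hRZ
    -- `4 (R - E) = R + 9`
    have h6 : 4 * D = ((q : ℤ) ^ n - 1) + 9 * w := by
      rw [← h5, ← hKR]
      have : 4 * ((R : ℤ) - E) = R + 9 := by omega
      linear_combination (w : ℤ) * this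
    have hw0 : (0 : ℤ) < w := by exact_mod_cast h.w_pos
    rcases Nat.lt_or_ge q 5 with hq | hq
    · have hq3 : q = 3 := by have := h.q3; have := h.q_odd; omega
      have hw2 : w = 2 := by
        have h7 := h.w_le
        have h8 := h.w_ge
        rw [hq3] at h7 h8
        norm_num at h7 h8
        omega
      rw [hw2, hq3] at h6
      rcases hD with ⟨hn, hD | hD | ⟨-, hD⟩⟩ | ⟨hn, hD | hD | hD | ⟨-, hD⟩⟩ <;> rw [hn, hD, hq3] at h6 <;> norm_num at h6
    · have := ((h.DP_le hD).2.2 hq).1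
      linarith only [h6, hw0, this]
  mT := by
    intro v M E hv hM h1 h2 _ hW
    have hle := h.le_R hW
    obtain ⟨z, hz⟩ : ∃ z, (v + 1) ^ M = z := ⟨_, rfl⟩
    have hz1 : 1 ≤ z := by rw [← hz]; exact Nat.one_le_pow _ _ (by omega)
    have e1 : (v + 1) ^ (M + 1) = (v + 1) * z := by rw [← hz, pow_succ']
    rw [hz] at h1
    rw [e1] at h2
    have h3 : E * v ^ 2 ≤ R * v ^ 2 := Nat.mul_le_mul_right _ hle
    have e2 : R * v ^ 2 = (z - 1) * v := by rw [← h1]; ring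
    rw [e2, h2] at h3
    obtain ⟨y, rfl⟩ : ∃ y, z = y + 1 := ⟨z - 1, by omega⟩
    have e3 : (v + 1) * (y + 1) = y * v + (y + v + 1) := by ring
    rw [e3, Nat.add_sub_cancel] at h3
    omega
  uE := by
    intro u M κ E _ hu hM h1 h2 _ hW
    have hle := h.le_R hW
    obtain ⟨z, hz⟩ : ∃ z, u ^ (M - 1) = z := ⟨_, rfl⟩
    have huM : u ^ M = u * z := by rw [← hz, ← pow_succ']; congr 1; omega
    rw [huM] at h1
    rw [hz] at h2
    have h3 : κ * E ≤ κ * R := Nat.mul_le_mul_left _ hle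
    rw [h2, mul_comm κ R, h1] at h3
    have : (z + 1) * (u + 1) = u * z + (z + u + 1) := by ring
    omega
  uO := by
    intro u M κ E _ hu hM hκ h1 h2 _ hW
    have hle := h.le_R hW
    obtain ⟨z, hz⟩ : ∃ z, u ^ (M - 1) = z := ⟨_, rfl⟩
    have huM : u ^ M = u * z := by rw [← hz, ← pow_succ']; congr 1; omega
    have hz3 : u ^ 3 ≤ z := by rw [← hz]; exact Nat.pow_le_pow_right (by omega) (by omega)
    rw [huM] at h1
    rw [hz] at h2
    have h3 : κ * E ≤ κ * R := Nat.mul_le_mul_left _ hle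
    rw [h2, mul_comm κ R, h1] at h3
    have h4 : u + 3 ≤ u ^ 3 := by
      obtain ⟨a, rfl⟩ : ∃ a, u = a + 2 := ⟨u - 2, by omega⟩
      have : (a + 2) ^ 3 = a ^ 3 + 6 * a ^ 2 + 12 * a + 8 := by ring
      rw [this]
      have := Nat.zero_le (a ^ 3)
      have := Nat.zero_le (a ^ 2)
      omega
    obtain ⟨y, rfl⟩ : ∃ y, z = y + 1 := ⟨z - 1, by omega⟩
    have e3 : y * (u + 1) + (u + 1) = u * (y + 1) + (y + 1) := by ring
    rw [Nat.add_sub_cancel] at h3
    omega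
  uT := by
    intro u g E hu h1 h2 _ hW
    have hle := h.le_R hW
    have h3 : (E : ℤ) * g ≤ R * g := mul_le_mul_of_nonneg_right (by exact_mod_cast hle) (by positivity)
    rw [h1, h2] at h3
    omega
  mO := by
    intro u m E hpu hu hm _ h1 h2 hE0 hW
    have hle := h.le_R hW
    obtain ⟨z, hz⟩ : ∃ z, u ^ (m - 1) = z := ⟨_, rfl⟩
    have huM : u ^ m = u * z := by rw [← hz, ← pow_succ']; congr 1; omega
    have hz3 : u ^ 3 ≤ z := by rw [← hz]; exact Nat.pow_le_pow_right (by omega) (by omega)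
    rw [huM] at h1
    rw [hz] at h2
    have hz1 : 9 * u ≤ z := by
      refine le_trans ?_ hz3
      calc 9 * u = 3 ^ 2 * u := by norm_num
        _ ≤ u ^ 2 * u := Nat.mul_le_mul_right _ (Nat.pow_le_pow_left hu 2)
        _ = _ := by ring
    have h4 : 4 * E + u + 1 = u * z + z := by
      obtain ⟨y, hy⟩ : ∃ y, z = y + 1 := ⟨z - 1, by omega⟩
      rw [h2, hy, Nat.add_sub_cancel]
      ring
    have h3z : 3 * z ≤ u * z := Nat.mul_le_mul_right _ hu
    obtain ⟨D, hD, h5⟩ := h.spec hW (by omega) (by omega)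
    have hKR := h.hRZ
    have hb := h.DP_le hD
    have hw0 : (0 : ℤ) < w := by exact_mod_cast h.w_pos
    rcases Nat.lt_or_ge q 5 with hq | hq
    · have hq3 : q = 3 := by have := h.q3; have := h.q_odd; omega
      have hp3 : p = 3 := by have := h.p_le; have := h.p3; omega
      have hu5 : 5 ≤ u := by
        have h6 : u ≠ 3 := by rintro rfl; rw [hp3] at hpu; exact hpu dvd_rfl
        have h7 : u ≠ 4 := by rintro rfl; omega
        (clear * - hu h6 h7; omega)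
      have h5z : 5 * z ≤ u * z := Nat.mul_le_mul_right _ hu5
      have h8 : 2 * (R : ℤ) ≤ 5 * ((R : ℤ) - E) := by omega
      have h9 := mul_le_mul_of_nonneg_left h8 hw0.le
      have h10 := hb.2.1
      rw [← h5, ← hKR] at h10
      linarith only [h5, hKR, hb, h9]
    · have h8 : (R : ℤ) ≤ 3 * ((R : ℤ) - E) := by omega
      have h9 := mul_le_mul_of_nonneg_left h8 hw0.le
      have h10 := (hb.2.2 hq).2
      rw [← h5, ← hKR] at h10
      have := sq_nonneg ((q : ℤ) - 1)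
      linarith only [h9, h10, this]
  d3 := by
    intro E _ h1 hW
    have hle := h.le_R hW
    have hR := h.R121
    omega
  d5 := by
    intro E h1 hW
    have hle := h.le_R hW
    omega
  p3 := by
    intro E hp3 h1 hW
    have hR := h.R121
    obtain ⟨D, hD, h5⟩ := h.spec hW (by omega) (by omega)
    have hKR := h.hRZ
    have hq5 : 5 ≤ q := by
      have := h.p3
      have := h.p_le
      have := h.q_odd
      omega
    have h6 := ((h.DP_le hD).2.2 hq5).2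
    have h7 : 3 * ((R : ℤ) - E) = R - 4 := by omega
    have h8 := h.w_le'
    have h9 : 3 * D = ((q : ℤ) ^ n - 1) - 4 * w := by
      rw [← h5, ← hKR]
      linear_combination (w : ℤ) * h7
    linarith only [h6, h8, h9]
  half := by
    intro E _ h1 hW
    exfalso
    have hR := h.R121
    obtain ⟨D, hD, h5⟩ := h.spec hW (by omega) (by omega)
    have hKR := h.hRZ
    have h6 := (h.DP_le hD).1
    have h7 : 2 * ((R : ℤ) - E) = R - 1 := by omega
    have h8 := h.w_le'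
    have h9 : 2 * D = ((q : ℤ) ^ n - 1) - w := by
      rw [← h5, ← hKR]
      linear_combination (w : ℤ) * h7
    linarith only [h6, h8, h9]

end PNum

end Cfsg.Agent.R2.Spec.X7
end

-- part: R2/Spec/X7/LtM
section
/-!
# The equations for the special numbers of `PSU_5(q)`
-/

set_option autoImplicit false

namespace Cfsg.Agent.R2.Spec.X7

/-- `E < R`: `D = q³ - q² + 2`, `PSL_m(u)` -/
theorem m5L {q u z : ℤ} (hq : 3 ≤ q) (hu : 2 ≤ u) (hz : z = u ^ 2 ∨ u ^ 3 ≤ z)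
    (h : (q ^ 3 - q ^ 2 + 2) * (u * z - 1) = (q ^ 5 + 1) * (z + u - 2)) : q = 3 ∧ u = 13 ∧ z = u ^ 2 := by
  have h1 : z * ((q ^ 2 - 2 * q + 2) * u - (q ^ 4 - q ^ 3 + q ^ 2 - q + 1)) =
      (q ^ 2 - 2 * q + 2) + (u - 2) * (q ^ 4 - q ^ 3 + q ^ 2 - q + 1) := by
    apply mul_left_cancel₀ (show q + 1 ≠ 0 by omega)
    linear_combination h
  have hz2 : u ^ 2 ≤ z := by
    rcases hz with hz | hz
    · exact hz.ge
    · exact le_trans (pow_le_pow_right₀ (by omega) (by norm_num)) hz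
  obtain ⟨a, rfl⟩ : ∃ a : ℕ, q = a + 3 := ⟨(q - 3).toNat, by omega⟩
  have h2 := trich (lo := ((a : ℤ) + 3) ^ 2 + (a + 3)) (hi := ((a : ℤ) + 3) ^ 2 + (a + 3) + 2) h1 hz2 hu
    (by clear * -; ring_nf; positivity)
    (pos_lt (by clear * -; ring_nf; positivity)) (pos_le (by clear * -; ring_nf; positivity)) (by clear * -; ring_nf; positivity)
    (pos_le (by clear * -; ring_nf; positivity)) (by clear * -; positivity)
  obtain rfl : u = ((a : ℤ) + 3) ^ 2 + (a + 3) + 1 := by omega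
  have e1 : (((a : ℤ) + 3) ^ 2 - 2 * (a + 3) + 2) * (((a : ℤ) + 3) ^ 2 + (a + 3) + 1) -
      (((a : ℤ) + 3) ^ 4 - (a + 3) ^ 3 + (a + 3) ^ 2 - (a + 3) + 1) = (a + 3) + 1 := by ring
  rw [e1] at h1
  rcases hz with hz | hz
  · subst hz
    have h3 : (a : ℤ) = 0 ∨ (a : ℤ) = 1 ∨ 2 ≤ (a : ℤ) := by omega
    rcases h3 with h3 | h3 | h3
    · rw [h3]; norm_num
    · rw [h3] at h1; norm_num at h1
    · exfalso
      obtain ⟨b, hb⟩ : ∃ b : ℕ, (a : ℤ) = b + 2 := ⟨(a - 2 : ℤ).toNat, by omega⟩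
      rw [hb] at h1
      have h4 : (0 : ℤ) < ((((b : ℤ) + 2 + 3) ^ 2 - 2 * (b + 2 + 3) + 2) + (((b : ℤ) + 2 + 3) ^ 2 + (b + 2 + 3) + 1 - 2) *
          (((b : ℤ) + 2 + 3) ^ 4 - (b + 2 + 3) ^ 3 + (b + 2 + 3) ^ 2 - (b + 2 + 3) + 1)) -
          (((b : ℤ) + 2 + 3) ^ 2 + (b + 2 + 3) + 1) ^ 2 * ((b + 2 + 3) + 1) := by
        clear * -
        ring_nf
        positivity
      linarith only [h1, h4]
  · exfalso
    have h3 : (((a : ℤ) + 3) ^ 2 + (a + 3) + 1) ^ 3 * ((a + 3) + 1) ≤ z * ((a + 3) + 1) :=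
      mul_le_mul_of_nonneg_right hz (by clear * -; positivity)
    have h4 : (0 : ℤ) < (((a : ℤ) + 3) ^ 2 + (a + 3) + 1) ^ 3 * ((a + 3) + 1) -
        ((((a : ℤ) + 3) ^ 2 - 2 * (a + 3) + 2) + (((a : ℤ) + 3) ^ 2 + (a + 3) + 1 - 2) *
          (((a : ℤ) + 3) ^ 4 - (a + 3) ^ 3 + (a + 3) ^ 2 - (a + 3) + 1)) := by
      clear * -
      ring_nf
      positivity
    linarith

/-- comparison for equations `z (N u - Φ) = S`, `u^4 ≤ z`, `S ≤ 2 u Φ` -/
theorem trich2 {N Φ S z u lo hi : ℤ} (h : z * (N * u - Φ) = S) (hz : u ^ 4 ≤ z) (hu : 2 ≤ u) (hN : 0 < N) (hΦ : 0 < Φ)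
    (hS0 : 0 < S) (hS : S < u ^ 2 * Φ) (hlo : N * lo ≤ Φ) (hhi : 0 ≤ N * hi - Φ)
    (hhi' : Φ ≤ hi ^ 2 * (N * hi - Φ)) (h0 : 0 ≤ hi) : lo < u ∧ u < hi := by
  have hz0 : 0 ≤ z := le_trans (by positivity) hz
  constructor
  · by_contra hcon
    have h1 : N * u ≤ N * lo := mul_le_mul_of_nonneg_left (not_lt.1 hcon) hN.le
    have h2 : z * (N * u - Φ) ≤ 0 := mul_nonpos_of_nonneg_of_nonpos hz0 (by linarith)
    linarith
  · by_contra hcon
    have hcon' := not_lt.1 hcon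
    have h1 : N * hi ≤ N * u := mul_le_mul_of_nonneg_left hcon' hN.le
    have h2 : u ^ 4 * (N * u - Φ) ≤ z * (N * u - Φ) := mul_le_mul_of_nonneg_right hz (by linarith)
    have h6 : hi ^ 2 ≤ u ^ 2 := pow_le_pow_left₀ h0 hcon' 2
    have h3 : hi ^ 2 * (N * hi - Φ) ≤ u ^ 2 * (N * u - Φ) := mul_le_mul h6 (by linarith) hhi (by positivity)
    have h4 : u ^ 2 * Φ ≤ u ^ 2 * (u ^ 2 * (N * u - Φ)) := mul_le_mul_of_nonneg_left (hhi'.trans h3) (by positivity)
    have h5 : u ^ 2 * (u ^ 2 * (N * u - Φ)) = u ^ 4 * (N * u - Φ) := by ring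
    linarith

/-- `X = q⁴ - q - 2`, second row of `PSL_m` -/
theorem m5M1 {q v z : ℤ} (hq : 3 ≤ q) (hv : 2 ≤ v) (hz : (v + 1) ^ 4 ≤ z)
    (h : (q ^ 4 - q - 2) * (v * (z - 1)) = (q ^ 5 + 1) * (z + v - 1)) : False := by
  have h1 : z * ((q ^ 3 - q ^ 2 + q - 2) * v - (q ^ 4 - q ^ 3 + q ^ 2 - q + 1)) =
      (q ^ 3 - q ^ 2 + q - 2) * v + (v - 1) * (q ^ 4 - q ^ 3 + q ^ 2 - q + 1) := by
    apply mul_left_cancel₀ (show q + 1 ≠ 0 by omega)
    linear_combination h
  obtain ⟨a, rfl⟩ : ∃ a : ℕ, q = a + 3 := ⟨(q - 3).toNat, by omega⟩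
  obtain ⟨b, rfl⟩ : ∃ b : ℕ, v = b + 2 := ⟨(v - 2).toNat, by omega⟩
  have hz' : ((b : ℤ) + 2) ^ 4 ≤ z := le_trans (pow_le_pow_left₀ (by clear * -; positivity) (by omega) 4) hz
  have h2 := trich2 (lo := (a : ℤ) + 3) (hi := (a : ℤ) + 3 + 1) h1 hz' (by omega)
    (by clear * -; ring_nf; positivity) (by clear * -; ring_nf; positivity) (by clear * -; ring_nf; positivity)
    (pos_lt (by clear * -; ring_nf; positivity)) (pos_le (by clear * -; ring_nf; positivity))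
    (by clear * -; ring_nf; positivity) (pos_le (by clear * -; ring_nf; positivity)) (by clear * -; positivity)
  omega

/-- `X = q⁴ + q² + q - 1`, second row of `PSL_m` -/
theorem m5M3 {q v z : ℤ} (hq : 3 ≤ q) (hv : 2 ≤ v) (hz : (v + 1) ^ 4 ≤ z)
    (h : (q ^ 4 + q ^ 2 + q - 1) * (v * (z - 1)) = (q ^ 5 + 1) * (z + v - 1)) : False := by
  have h1 : z * ((q ^ 3 - q ^ 2 + 2 * q - 1) * v - (q ^ 4 - q ^ 3 + q ^ 2 - q + 1)) =
      (q ^ 3 - q ^ 2 + 2 * q - 1) * v + (v - 1) * (q ^ 4 - q ^ 3 + q ^ 2 - q + 1) := by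
    apply mul_left_cancel₀ (show q + 1 ≠ 0 by omega)
    linear_combination h
  obtain ⟨a, rfl⟩ : ∃ a : ℕ, q = a + 3 := ⟨(q - 3).toNat, by omega⟩
  obtain ⟨b, rfl⟩ : ∃ b : ℕ, v = b + 2 := ⟨(v - 2).toNat, by omega⟩
  have hz' : ((b : ℤ) + 2) ^ 4 ≤ z := le_trans (pow_le_pow_left₀ (by clear * -; positivity) (by omega) 4) hz
  have h2 := trich2 (lo := (a : ℤ) + 3 - 1) (hi := (a : ℤ) + 3) h1 hz' (by omega)
    (by clear * -; ring_nf; positivity) (by clear * -; ring_nf; positivity) (by clear * -; ring_nf; positivity)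
    (pos_lt (by clear * -; ring_nf; positivity)) (pos_le (by clear * -; ring_nf; positivity))
    (by clear * -; ring_nf; positivity) (pos_le (by clear * -; ring_nf; positivity)) (by clear * -; positivity)
  omega

/-- `X = q⁴ - q - 2`, `PSU_m`, even -/
theorem m5E1 {q u z : ℤ} (hq : 3 ≤ q) (hu : 2 ≤ u) (hz : u ^ 5 ≤ z)
    (h : (q ^ 4 - q - 2) * (u * z - 1) = (q ^ 5 + 1) * (z + u + 2)) : False := by
  have h1 : z * ((q ^ 3 - q ^ 2 + q - 2) * u - (q ^ 4 - q ^ 3 + q ^ 2 - q + 1)) =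
      (q ^ 3 - q ^ 2 + q - 2) + (u + 2) * (q ^ 4 - q ^ 3 + q ^ 2 - q + 1) := by
    apply mul_left_cancel₀ (show q + 1 ≠ 0 by omega)
    linear_combination h
  obtain ⟨a, rfl⟩ : ∃ a : ℕ, q = a + 3 := ⟨(q - 3).toNat, by omega⟩
  rcases lt_or_ge u 3 with h3 | h3
  · obtain rfl : u = 2 := by omega
    have h4 : (0 : ℤ) ≤ z := le_trans (by norm_num) hz
    refine absurd h1 (ne_of_lt ?_)
    have h5 : z * ((((a : ℤ) + 3) ^ 3 - (a + 3) ^ 2 + (a + 3) - 2) * 2 - (((a : ℤ) + 3) ^ 4 - (a + 3) ^ 3 + (a + 3) ^ 2 - (a + 3) + 1)) ≤ 0 := by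
      apply mul_nonpos_of_nonneg_of_nonpos h4
      rw [← sub_nonneg]
      clear * -
      ring_nf
      positivity
    refine lt_of_le_of_lt h5 ?_
    clear * -
    ring_nf
    positivity
  · obtain ⟨b, rfl⟩ : ∃ b : ℕ, u = b + 3 := ⟨(u - 3).toNat, by omega⟩
    have hz' : ((b : ℤ) + 3) ^ 4 ≤ z := le_trans (pow_le_pow_right₀ (by omega) (by norm_num)) hz
    have h2 := trich2 (lo := (a : ℤ) + 3) (hi := (a : ℤ) + 3 + 1) h1 hz' (by omega)
      (by clear * -; ring_nf; positivity) (by clear * -; ring_nf; positivity) (by clear * -; ring_nf; positivity)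
      (pos_lt (by clear * -; ring_nf; positivity)) (pos_le (by clear * -; ring_nf; positivity))
      (by clear * -; ring_nf; positivity) (pos_le (by clear * -; ring_nf; positivity)) (by clear * -; positivity)
    omega

/-- `X = q⁴ + q² + q - 1`, `PSU_m`, even -/
theorem m5E3 {q u z : ℤ} (hq : 3 ≤ q) (hu : 2 ≤ u) (hz : u ^ 5 ≤ z)
    (h : (q ^ 4 + q ^ 2 + q - 1) * (u * z - 1) = (q ^ 5 + 1) * (z + u + 2)) : u = q := by
  have h1 : z * ((q ^ 3 - q ^ 2 + 2 * q - 1) * u - (q ^ 4 - q ^ 3 + q ^ 2 - q + 1)) =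
      (q ^ 3 - q ^ 2 + 2 * q - 1) + (u + 2) * (q ^ 4 - q ^ 3 + q ^ 2 - q + 1) := by
    apply mul_left_cancel₀ (show q + 1 ≠ 0 by omega)
    linear_combination h
  obtain ⟨a, rfl⟩ : ∃ a : ℕ, q = a + 3 := ⟨(q - 3).toNat, by omega⟩
  rcases lt_or_ge u 3 with h3 | h3
  · obtain rfl : u = 2 := by omega
    have h4 : (0 : ℤ) ≤ z := le_trans (by norm_num) hz
    refine absurd h1 (ne_of_lt ?_)
    have h5 : z * ((((a : ℤ) + 3) ^ 3 - (a + 3) ^ 2 + 2 * (a + 3) - 1) * 2 - (((a : ℤ) + 3) ^ 4 - (a + 3) ^ 3 + (a + 3) ^ 2 - (a + 3) + 1)) ≤ 0 := by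
      apply mul_nonpos_of_nonneg_of_nonpos h4
      rw [← sub_nonneg]
      clear * -
      ring_nf
      positivity
    refine lt_of_le_of_lt h5 ?_
    clear * -
    ring_nf
    positivity
  · obtain ⟨b, rfl⟩ : ∃ b : ℕ, u = b + 3 := ⟨(u - 3).toNat, by omega⟩
    have hz' : ((b : ℤ) + 3) ^ 4 ≤ z := le_trans (pow_le_pow_right₀ (by omega) (by norm_num)) hz
    have h2 := trich2 (lo := (a : ℤ) + 3 - 1) (hi := (a : ℤ) + 3 + 1) h1 hz' (by omega)
      (by clear * -; ring_nf; positivity) (by clear * -; ring_nf; positivity) (by clear * -; ring_nf; positivity)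
      (pos_lt (by clear * -; ring_nf; positivity)) (pos_le (by clear * -; ring_nf; positivity))
      (by clear * -; ring_nf; positivity) (pos_le (by clear * -; ring_nf; positivity)) (by clear * -; positivity)
    omega

/-- `X = q⁴ - q - 2`, `PSU_m`, odd -/
theorem m5O1 {q u z : ℤ} (hq : 3 ≤ q) (hqo : q ≠ 4) (hu : 2 ≤ u) (hz : u ^ 3 ≤ z) (hz2 : 61 ≤ u * z + 1)
    (h : (q ^ 4 - q - 2) * (u * z + 1) = (q ^ 5 + 1) * (z - u - 2)) : u = q := by
  have h1 : z * ((q ^ 4 - q ^ 3 + q ^ 2 - q + 1) - (q ^ 3 - q ^ 2 + q - 2) * u) =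
      (q ^ 3 - q ^ 2 + q - 2) + (u + 2) * (q ^ 4 - q ^ 3 + q ^ 2 - q + 1) := by
    apply mul_left_cancel₀ (show q + 1 ≠ 0 by omega)
    linear_combination -h
  have hz0 : 0 ≤ z := le_trans (by positivity) hz
  rcases lt_trichotomy u q with h2 | h2 | h2
  · exfalso
    rcases lt_or_ge u 3 with h3 | h3
    · obtain rfl : u = 2 := by omega
      obtain ⟨a, rfl⟩ : ∃ a : ℕ, q = a + 3 := ⟨(q - 3).toNat, by omega⟩
      have h4 : (30 : ℤ) ≤ z := by omega
      have h5 : (0 : ℤ) ≤ (((a : ℤ) + 3) ^ 4 - (a + 3) ^ 3 + (a + 3) ^ 2 - (a + 3) + 1) -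
          (((a : ℤ) + 3) ^ 3 - (a + 3) ^ 2 + (a + 3) - 2) * 2 := by
        clear * -; ring_nf; positivity
      have h6 := mul_le_mul_of_nonneg_right h4 h5
      have h7 : (0 : ℤ) < 30 * ((((a : ℤ) + 3) ^ 4 - (a + 3) ^ 3 + (a + 3) ^ 2 - (a + 3) + 1) -
          (((a : ℤ) + 3) ^ 3 - (a + 3) ^ 2 + (a + 3) - 2) * 2) - ((((a : ℤ) + 3) ^ 3 - (a + 3) ^ 2 + (a + 3) - 2) +
          (2 + 2) * (((a : ℤ) + 3) ^ 4 - (a + 3) ^ 3 + (a + 3) ^ 2 - (a + 3) + 1)) := by
        clear * -; ring_nf; positivity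
      linarith
    · obtain ⟨b, rfl⟩ : ∃ b : ℕ, u = b + 3 := ⟨(u - 3).toNat, by omega⟩
      obtain ⟨e, rfl⟩ : ∃ e : ℕ, q = b + 3 + e + 1 := ⟨(q - (b + 3) - 1).toNat, by omega⟩
      have h5 : (0 : ℤ) ≤ (((b : ℤ) + 3 + e + 1) ^ 4 - (b + 3 + e + 1) ^ 3 + (b + 3 + e + 1) ^ 2 - (b + 3 + e + 1) + 1) -
          (((b : ℤ) + 3 + e + 1) ^ 3 - (b + 3 + e + 1) ^ 2 + (b + 3 + e + 1) - 2) * (b + 3) := by
        clear * -; ring_nf; positivity
      have h6 := mul_le_mul_of_nonneg_right hz h5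
      have h7 : (0 : ℤ) < ((b : ℤ) + 3) ^ 3 * ((((b : ℤ) + 3 + e + 1) ^ 4 - (b + 3 + e + 1) ^ 3 + (b + 3 + e + 1) ^ 2 -
          (b + 3 + e + 1) + 1) - (((b : ℤ) + 3 + e + 1) ^ 3 - (b + 3 + e + 1) ^ 2 + (b + 3 + e + 1) - 2) * (b + 3)) -
          ((((b : ℤ) + 3 + e + 1) ^ 3 - (b + 3 + e + 1) ^ 2 + (b + 3 + e + 1) - 2) + (b + 3 + 2) *
          (((b : ℤ) + 3 + e + 1) ^ 4 - (b + 3 + e + 1) ^ 3 + (b + 3 + e + 1) ^ 2 - (b + 3 + e + 1) + 1)) := by
        clear * -; ring_nf; positivity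
      linarith
  · exact h2
  · exfalso
    obtain ⟨a, rfl⟩ : ∃ a : ℕ, q = a + 3 := ⟨(q - 3).toNat, by omega⟩
    have h3 : (((a : ℤ) + 3) ^ 3 - (a + 3) ^ 2 + (a + 3) - 2) * ((a + 3) + 1) ≤
        (((a : ℤ) + 3) ^ 3 - (a + 3) ^ 2 + (a + 3) - 2) * u :=
      mul_le_mul_of_nonneg_left (by omega) (by clear * -; ring_nf; positivity)
    have h4 : (((a : ℤ) + 3) ^ 4 - (a + 3) ^ 3 + (a + 3) ^ 2 - (a + 3) + 1) ≤
        (((a : ℤ) + 3) ^ 3 - (a + 3) ^ 2 + (a + 3) - 2) * ((a + 3) + 1) :=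
      pos_le (by clear * -; ring_nf; positivity)
    have h5 := mul_nonpos_of_nonneg_of_nonpos hz0 (sub_nonpos.2 (h4.trans h3))
    have h6 : (0 : ℤ) < (((a : ℤ) + 3) ^ 3 - (a + 3) ^ 2 + (a + 3) - 2) := by clear * -; ring_nf; positivity
    have h7 : (0 : ℤ) ≤ (u + 2) * (((a : ℤ) + 3) ^ 4 - (a + 3) ^ 3 + (a + 3) ^ 2 - (a + 3) + 1) :=
      mul_nonneg (by omega) (by clear * -; ring_nf; positivity)
    linarith

/-- `X = q⁴ + q² + q - 1`, `PSU_m`, odd -/
theorem m5O3 {q u z : ℤ} (hq : 3 ≤ q) (hqo : q ≠ 4) (hu : 2 ≤ u) (hz : u ^ 3 ≤ z) (hz2 : 61 ≤ u * z + 1)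
    (h : (q ^ 4 + q ^ 2 + q - 1) * (u * z + 1) = (q ^ 5 + 1) * (z - u - 2)) : False := by
  have h1 : z * ((q ^ 4 - q ^ 3 + q ^ 2 - q + 1) - (q ^ 3 - q ^ 2 + 2 * q - 1) * u) =
      (q ^ 3 - q ^ 2 + 2 * q - 1) + (u + 2) * (q ^ 4 - q ^ 3 + q ^ 2 - q + 1) := by
    apply mul_left_cancel₀ (show q + 1 ≠ 0 by omega)
    linear_combination -h
  have hz0 : 0 ≤ z := le_trans (by positivity) hz
  rcases lt_or_ge u q with h2 | h2
  · rcases lt_or_ge u 3 with h3 | h3
    · obtain rfl : u = 2 := by omega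
      obtain ⟨a, rfl⟩ : ∃ a : ℕ, q = a + 3 := ⟨(q - 3).toNat, by omega⟩
      have h4 : (30 : ℤ) ≤ z := by omega
      have h5 : (0 : ℤ) ≤ (((a : ℤ) + 3) ^ 4 - (a + 3) ^ 3 + (a + 3) ^ 2 - (a + 3) + 1) -
          (((a : ℤ) + 3) ^ 3 - (a + 3) ^ 2 + 2 * (a + 3) - 1) * 2 := by
        clear * -; ring_nf; positivity
      have h6 := mul_le_mul_of_nonneg_right h4 h5
      have h7 : (0 : ℤ) < 30 * ((((a : ℤ) + 3) ^ 4 - (a + 3) ^ 3 + (a + 3) ^ 2 - (a + 3) + 1) -
          (((a : ℤ) + 3) ^ 3 - (a + 3) ^ 2 + 2 * (a + 3) - 1) * 2) - ((((a : ℤ) + 3) ^ 3 - (a + 3) ^ 2 + 2 * (a + 3) - 1) +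
          (2 + 2) * (((a : ℤ) + 3) ^ 4 - (a + 3) ^ 3 + (a + 3) ^ 2 - (a + 3) + 1)) := by
        clear * -; ring_nf; positivity
      linarith
    · obtain ⟨b, rfl⟩ : ∃ b : ℕ, u = b + 3 := ⟨(u - 3).toNat, by omega⟩
      obtain ⟨e, rfl⟩ : ∃ e : ℕ, q = b + 3 + e + 1 := ⟨(q - (b + 3) - 1).toNat, by omega⟩
      have h5 : (0 : ℤ) ≤ (((b : ℤ) + 3 + e + 1) ^ 4 - (b + 3 + e + 1) ^ 3 + (b + 3 + e + 1) ^ 2 - (b + 3 + e + 1) + 1) -
          (((b : ℤ) + 3 + e + 1) ^ 3 - (b + 3 + e + 1) ^ 2 + 2 * (b + 3 + e + 1) - 1) * (b + 3) := by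
        clear * -; ring_nf; positivity
      have h6 := mul_le_mul_of_nonneg_right hz h5
      have h7 : (0 : ℤ) < ((b : ℤ) + 3) ^ 3 * ((((b : ℤ) + 3 + e + 1) ^ 4 - (b + 3 + e + 1) ^ 3 + (b + 3 + e + 1) ^ 2 -
          (b + 3 + e + 1) + 1) - (((b : ℤ) + 3 + e + 1) ^ 3 - (b + 3 + e + 1) ^ 2 + 2 * (b + 3 + e + 1) - 1) * (b + 3)) -
          ((((b : ℤ) + 3 + e + 1) ^ 3 - (b + 3 + e + 1) ^ 2 + 2 * (b + 3 + e + 1) - 1) + (b + 3 + 2) *
          (((b : ℤ) + 3 + e + 1) ^ 4 - (b + 3 + e + 1) ^ 3 + (b + 3 + e + 1) ^ 2 - (b + 3 + e + 1) + 1)) := by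
        rcases Nat.eq_zero_or_pos b with h8 | h8
        · subst h8
          rcases Nat.eq_zero_or_pos e with h9 | h9
          · subst h9
            exact absurd rfl hqo
          · obtain ⟨e', rfl⟩ : ∃ e', e = e' + 1 := ⟨e - 1, by omega⟩
            clear * -; push_cast; ring_nf; positivity
        · obtain ⟨b', rfl⟩ : ∃ b', b = b' + 1 := ⟨b - 1, by omega⟩
          clear * -; push_cast; ring_nf; positivity
      linarith
  · obtain ⟨a, rfl⟩ : ∃ a : ℕ, q = a + 3 := ⟨(q - 3).toNat, by omega⟩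
    have h3 : (((a : ℤ) + 3) ^ 3 - (a + 3) ^ 2 + 2 * (a + 3) - 1) * (a + 3) ≤
        (((a : ℤ) + 3) ^ 3 - (a + 3) ^ 2 + 2 * (a + 3) - 1) * u :=
      mul_le_mul_of_nonneg_left (by omega) (by clear * -; ring_nf; positivity)
    have h4 : (((a : ℤ) + 3) ^ 4 - (a + 3) ^ 3 + (a + 3) ^ 2 - (a + 3) + 1) ≤
        (((a : ℤ) + 3) ^ 3 - (a + 3) ^ 2 + 2 * (a + 3) - 1) * (a + 3) :=
      pos_le (by clear * -; ring_nf; positivity)
    have h5 := mul_nonpos_of_nonneg_of_nonpos hz0 (sub_nonpos.2 (h4.trans h3))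
    have h6 : (0 : ℤ) < (((a : ℤ) + 3) ^ 3 - (a + 3) ^ 2 + 2 * (a + 3) - 1) := by clear * -; ring_nf; positivity
    have h7 : (0 : ℤ) ≤ (u + 2) * (((a : ℤ) + 3) ^ 4 - (a + 3) ^ 3 + (a + 3) ^ 2 - (a + 3) + 1) :=
      mul_nonneg (by omega) (by clear * -; ring_nf; positivity)
    linarith

/-- `X = q⁴ - q - 2`, `PSU_3` -/
theorem m5T1 {q u : ℤ} (hq : 3 ≤ q) (hu : 9 ≤ u)
    (h : (q ^ 4 - q - 2) * (u ^ 2 - u + 1) = (q ^ 5 + 1) * (u - 2)) : False := by
  have h1 : (u - 2) * ((q ^ 4 - q ^ 3 + q ^ 2 - q + 1) - (q ^ 3 - q ^ 2 + q - 2) * (u + 1)) =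
      3 * (q ^ 3 - q ^ 2 + q - 2) := by
    apply mul_left_cancel₀ (show q + 1 ≠ 0 by omega)
    linear_combination -h
  obtain ⟨a, rfl⟩ : ∃ a : ℕ, q = a + 3 := ⟨(q - 3).toNat, by omega⟩
  have hN : (0 : ℤ) < ((a : ℤ) + 3) ^ 3 - (a + 3) ^ 2 + (a + 3) - 2 := by clear * -; ring_nf; positivity
  have e1 : (((a : ℤ) + 3) ^ 4 - (a + 3) ^ 3 + (a + 3) ^ 2 - (a + 3) + 1) -
      (((a : ℤ) + 3) ^ 3 - (a + 3) ^ 2 + (a + 3) - 2) * (u + 1) =
      (((a : ℤ) + 3) ^ 3 - (a + 3) ^ 2 + (a + 3) - 2) * (a + 2 - u) + (a + 4) := by ring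
  rw [e1] at h1
  rcases lt_trichotomy (a + 2 - u) 0 with h2 | h2 | h2
  · have h3 : (((a : ℤ) + 3) ^ 3 - (a + 3) ^ 2 + (a + 3) - 2) * (a + 2 - u) ≤
        (((a : ℤ) + 3) ^ 3 - (a + 3) ^ 2 + (a + 3) - 2) * (-1) := mul_le_mul_of_nonneg_left (by omega) hN.le
    have h4 : (0 : ℤ) ≤ ((((a : ℤ) + 3) ^ 3 - (a + 3) ^ 2 + (a + 3) - 2)) - (a + 4) := by clear * -; ring_nf; positivity
    have h5 : (u - 2) * ((((a : ℤ) + 3) ^ 3 - (a + 3) ^ 2 + (a + 3) - 2) * (a + 2 - u) + (a + 4)) ≤ 0 :=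
      mul_nonpos_of_nonneg_of_nonpos (by omega) (by linarith only [h3, h4])
    linarith
  · rw [h2] at h1
    obtain rfl : u = a + 2 := by omega
    have h4 : (0 : ℤ) < 3 * (((a : ℤ) + 3) ^ 3 - (a + 3) ^ 2 + (a + 3) - 2) - ((a + 2 - 2) * (0 + (a + 4))) := by
      clear * -; ring_nf; positivity
    rw [mul_zero] at h1
    linarith
  · have h3 : (((a : ℤ) + 3) ^ 3 - (a + 3) ^ 2 + (a + 3) - 2) * 1 ≤
        (((a : ℤ) + 3) ^ 3 - (a + 3) ^ 2 + (a + 3) - 2) * (a + 2 - u) := mul_le_mul_of_nonneg_left (by omega) hN.le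
    have h5 : 7 * ((((a : ℤ) + 3) ^ 3 - (a + 3) ^ 2 + (a + 3) - 2) * (a + 2 - u) + (a + 4)) ≤
        (u - 2) * ((((a : ℤ) + 3) ^ 3 - (a + 3) ^ 2 + (a + 3) - 2) * (a + 2 - u) + (a + 4)) :=
      mul_le_mul_of_nonneg_right (by omega) (by linarith only [hu, hN, h2, h3])
    linarith

/-- `X = q⁴ + q² + q - 1`, `PSU_3` -/
theorem m5T3 {q u : ℤ} (hq : 3 ≤ q) (hu : 9 ≤ u)
    (h : (q ^ 4 + q ^ 2 + q - 1) * (u ^ 2 - u + 1) = (q ^ 5 + 1) * (u - 2)) : False := by
  have h1 : (u - 2) * ((q ^ 4 - q ^ 3 + q ^ 2 - q + 1) - (q ^ 3 - q ^ 2 + 2 * q - 1) * (u + 1)) =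
      3 * (q ^ 3 - q ^ 2 + 2 * q - 1) := by
    apply mul_left_cancel₀ (show q + 1 ≠ 0 by omega)
    linear_combination -h
  obtain ⟨a, rfl⟩ : ∃ a : ℕ, q = a + 3 := ⟨(q - 3).toNat, by omega⟩
  have hN : (0 : ℤ) < ((a : ℤ) + 3) ^ 3 - (a + 3) ^ 2 + 2 * (a + 3) - 1 := by clear * -; ring_nf; positivity
  have e1 : (((a : ℤ) + 3) ^ 4 - (a + 3) ^ 3 + (a + 3) ^ 2 - (a + 3) + 1) -
      (((a : ℤ) + 3) ^ 3 - (a + 3) ^ 2 + 2 * (a + 3) - 1) * (u + 1) =
      (((a : ℤ) + 3) ^ 3 - (a + 3) ^ 2 + 2 * (a + 3) - 1) * (a + 2 - u) - ((a + 3) ^ 2 - 1) := by ring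
  rw [e1] at h1
  have h9 : (0 : ℤ) ≤ ((a : ℤ) + 3) ^ 2 - 1 := by clear * -; ring_nf; positivity
  rcases lt_or_ge (a + 2 - u) 1 with h2 | h2
  · have h3 : (((a : ℤ) + 3) ^ 3 - (a + 3) ^ 2 + 2 * (a + 3) - 1) * (a + 2 - u) ≤ 0 :=
      mul_nonpos_of_nonneg_of_nonpos hN.le (by omega)
    have h5 : (u - 2) * ((((a : ℤ) + 3) ^ 3 - (a + 3) ^ 2 + 2 * (a + 3) - 1) * (a + 2 - u) - ((a + 3) ^ 2 - 1)) ≤ 0 :=
      mul_nonpos_of_nonneg_of_nonpos (by omega) (by linarith only [h9, h3])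
    linarith
  · have h3 : (((a : ℤ) + 3) ^ 3 - (a + 3) ^ 2 + 2 * (a + 3) - 1) * 1 ≤
        (((a : ℤ) + 3) ^ 3 - (a + 3) ^ 2 + 2 * (a + 3) - 1) * (a + 2 - u) := mul_le_mul_of_nonneg_left (by omega) hN.le
    have h4 : (0 : ℤ) < 7 * ((((a : ℤ) + 3) ^ 3 - (a + 3) ^ 2 + 2 * (a + 3) - 1) - ((a + 3) ^ 2 - 1)) -
        3 * (((a : ℤ) + 3) ^ 3 - (a + 3) ^ 2 + 2 * (a + 3) - 1) := by clear * -; ring_nf; positivity
    have h5 : 7 * ((((a : ℤ) + 3) ^ 3 - (a + 3) ^ 2 + 2 * (a + 3) - 1) * (a + 2 - u) - ((a + 3) ^ 2 - 1)) ≤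
        (u - 2) * ((((a : ℤ) + 3) ^ 3 - (a + 3) ^ 2 + 2 * (a + 3) - 1) * (a + 2 - u) - ((a + 3) ^ 2 - 1)) :=
      mul_le_mul_of_nonneg_right (by omega) (by linarith only [hN, h3, h4])
    linarith

end Cfsg.Agent.R2.Spec.X7
end

-- part: R2/Spec/X7/NumM
section
/-!
# The numerical conditions for `PSU_5(q)`, `q` odd
-/

set_option autoImplicit false

namespace Cfsg.Agent.R2.Spec.X7

theorem pos_of_mul_pos_nat' {b : ℤ} {w : ℕ} (h : 0 < (w : ℤ) * b) : 0 < b := by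
  by_contra hcon
  have := mul_nonpos_of_nonneg_of_nonpos (Int.natCast_nonneg w) (not_lt.1 hcon)
  omega

/-- the numbers of `PSU_5(q)` -/
structure MNum (p q c w R : ℕ) : Prop where
  hp : p.Prime
  hp2 : p ≠ 2
  hq : ∃ f, 1 ≤ f ∧ q = p ^ f
  hc : c = Nat.gcd 5 (q + 1)
  hw : w = c * (q + 1)
  hR : R * w = q ^ 5 + 1

/-- the condition for the element orders -/
def WM (p q c : ℕ) (E : ℕ) : Prop := ∃ E0, 0 < E0 ∧ E ∣ E0 ∧ Shape (-(q : ℤ)) p q (q + 1) (q + 1) 5 c E0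

/-- the special numbers above `R` -/
def DM (p q : ℕ) (D : ℤ) : Prop :=
  D = (q : ℤ) ^ 4 - q - 2 ∨ (q = p ∧ D = (q : ℤ) ^ 4 + (q : ℤ) ^ 2 + q - 1)

namespace MNum

variable {p q c w R : ℕ} (h : MNum p q c w R)

include h

theorem p3 : 3 ≤ p := by
  have := h.hp.two_le
  have := h.hp2
  omega

theorem pq : p = q ∨ 3 * p ≤ q := by
  obtain ⟨f, hf, hq⟩ := h.hq
  rcases Nat.eq_or_lt_of_le hf with h1 | h1
  · left; rw [hq, ← h1, pow_one]
  · right
    obtain ⟨g, rfl⟩ : ∃ g, f = g + 2 := ⟨f - 2, by omega⟩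
    rw [hq, pow_add]
    calc 3 * p ≤ p * p := Nat.mul_le_mul_right _ h.p3
      _ = 1 * p ^ 2 := by ring
      _ ≤ p ^ g * p ^ 2 := Nat.mul_le_mul_right _ (Nat.one_le_pow _ _ h.hp.pos)

theorem p_le : p ≤ q := by
  have := h.pq
  omega

theorem q3 : 3 ≤ q := by
  have := h.p_le
  have := h.p3
  omega

theorem q_odd : q % 2 = 1 := by
  obtain ⟨f, hf, hq⟩ := h.hq
  have : Odd q := by rw [hq]; exact (h.hp.odd_of_ne_two h.hp2).pow
  exact Nat.odd_iff.1 this

theorem c_cases : c = 1 ∨ (c = 5 ∧ 9 ≤ q ∧ (q = 9 ∨ 19 ≤ q)) := by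
  have h3 := h.q3
  have ho := h.q_odd
  have hc := h.hc
  have h2 : c ∣ 5 := by rw [hc]; exact Nat.gcd_dvd_left _ _
  rcases (Nat.dvd_prime (by norm_num)).1 h2 with h1 | h1
  · exact Or.inl h1
  · right
    refine ⟨h1, ?_⟩
    have h4 : 5 ∣ q + 1 := by rw [← h1, hc]; exact Nat.gcd_dvd_right _ _
    (clear * - ho h4; solve | lia | omega)

theorem c_pos : 0 < c := by
  rcases h.c_cases with h1 | ⟨h1, -⟩ <;> omega

theorem two_c : 2 * c ≤ q + 1 := by
  have := h.q3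
  rcases h.c_cases with h1 | ⟨h1, h2, -⟩ <;> omega

theorem w_le : 2 * w ≤ (q + 1) ^ 2 := by
  rw [h.hw, pow_two]
  calc 2 * (c * (q + 1)) = (2 * c) * (q + 1) := by ring
    _ ≤ _ := Nat.mul_le_mul_right _ h.two_c

theorem w_le' : 2 * (w : ℤ) ≤ ((q : ℤ) + 1) ^ 2 := by exact_mod_cast h.w_le

theorem w_ge : q + 1 ≤ w := by
  rw [h.hw]
  exact Nat.le_mul_of_pos_left _ h.c_pos

theorem w_pos : 0 < w := by
  have := h.w_ge
  omega

theorem hRZ : (w : ℤ) * R = (q : ℤ) ^ 5 + 1 := by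
  have := congrArg (fun x : ℕ => (x : ℤ)) h.hR
  push_cast at this
  linarith only [this]

/-- the small numbers -/
theorem small : 10 * (q ^ 2 * (q + 1)) ≤ 7 * R := by
  have hR := h.hR
  have hw := h.hw
  have h3 := h.q3
  rcases h.c_cases with hc | ⟨hc, hq, -⟩
  · rw [hw, hc, one_mul] at hR
    obtain ⟨a, rfl⟩ : ∃ a, q = a + 3 := ⟨q - 3, by omega⟩
    have h1 : R = a ^ 4 + 11 * a ^ 3 + 46 * a ^ 2 + 86 * a + 61 := by
      apply Nat.eq_of_mul_eq_mul_right (show 0 < a + 3 + 1 by omega)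
      rw [hR]; ring
    rw [h1]
    have e1 : 7 * (a ^ 4 + 11 * a ^ 3 + 46 * a ^ 2 + 86 * a + 61) = 10 * ((a + 3) ^ 2 * (a + 3 + 1)) +
      (7 * a ^ 4 + 67 * a ^ 3 + 222 * a ^ 2 + 272 * a + 67) := by ring
    rw [e1]; exact Nat.le_add_right _ _
  · rw [hw, hc] at hR
    obtain ⟨a, rfl⟩ : ∃ a, q = a + 9 := ⟨q - 9, by omega⟩
    have h1 : 5 * R = a ^ 4 + 35 * a ^ 3 + 460 * a ^ 2 + 2690 * a + 5905 := by
      apply Nat.eq_of_mul_eq_mul_right (show 0 < a + 9 + 1 by omega)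
      rw [show 5 * R * (a + 9 + 1) = R * (5 * (a + 9 + 1)) by ring, hR]; ring
    have e1 : 7 * (a ^ 4 + 35 * a ^ 3 + 460 * a ^ 2 + 2690 * a + 5905) = 50 * ((a + 9) ^ 2 * (a + 9 + 1)) +
      (7 * a ^ 4 + 195 * a ^ 3 + 1820 * a ^ 2 + 5780 * a + 835) := by ring
    have h4 := Nat.zero_le (7 * a ^ 4 + 195 * a ^ 3 + 1820 * a ^ 2 + 5780 * a + 835)
    omega

theorem small2 (hq3 : q ≠ 3) (hq9 : q ≠ 9) : 2 * (q ^ 2 * (q + 1)) ≤ R := by
  have hR := h.hR
  have hw := h.hw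
  have h3 := h.q3
  have ho := h.q_odd
  rcases h.c_cases with hc | ⟨hc, hq, hq'⟩
  · rw [hw, hc, one_mul] at hR
    obtain ⟨a, rfl⟩ : ∃ a, q = a + 5 := ⟨q - 5, by omega⟩
    have h1 : R = a ^ 4 + 19 * a ^ 3 + 136 * a ^ 2 + 434 * a + 521 := by
      apply Nat.eq_of_mul_eq_mul_right (show 0 < a + 5 + 1 by omega)
      rw [hR]; ring
    rw [h1]
    have e1 : a ^ 4 + 19 * a ^ 3 + 136 * a ^ 2 + 434 * a + 521 = 2 * ((a + 5) ^ 2 * (a + 5 + 1)) +
      (a ^ 4 + 17 * a ^ 3 + 104 * a ^ 2 + 264 * a + 221) := by ring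
    rw [e1]; exact Nat.le_add_right _ _
  · rw [hw, hc] at hR
    obtain ⟨a, rfl⟩ : ∃ a, q = a + 19 := ⟨q - 19, by omega⟩
    have h1 : 5 * R = a ^ 4 + 75 * a ^ 3 + 2110 * a ^ 2 + 26390 * a + 123805 := by
      apply Nat.eq_of_mul_eq_mul_right (show 0 < a + 19 + 1 by omega)
      rw [show 5 * R * (a + 19 + 1) = R * (5 * (a + 19 + 1)) by ring, hR]; ring
    have e1 : a ^ 4 + 75 * a ^ 3 + 2110 * a ^ 2 + 26390 * a + 123805 = 10 * ((a + 19) ^ 2 * (a + 19 + 1)) +
      (a ^ 4 + 65 * a ^ 3 + 1530 * a ^ 2 + 15180 * a + 51605) := by ring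
    have h4 := Nat.zero_le (a ^ 4 + 65 * a ^ 3 + 1530 * a ^ 2 + 15180 * a + 51605)
    omega

theorem big : (q = 3 ∧ R = 61) ∨ (q = 5 ∧ R = 521) ∨ (q = 7 ∧ R = 2101) ∨ (q = 9 ∧ R = 1181) ∨ (11 ≤ q ∧ 2801 ≤ R) := by
  have h3 := h.q3
  have ho := h.q_odd
  have hR := h.hR
  have hw := h.hw
  have h4 : q = 3 ∨ q = 5 ∨ q = 7 ∨ q = 9 ∨ 11 ≤ q := by omega
  rcases h4 with h4 | h4 | h4 | h4 | h4
  · have hc := h.hc
    rw [h4] at hc
    norm_num at hc
    rw [hw, hc, h4] at hR; norm_num at hR; (clear * - h4 hR; solve | lia | omega)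
  · have hc := h.hc
    rw [h4] at hc
    norm_num at hc
    rw [hw, hc, h4] at hR; norm_num at hR; (clear * - h4 hR; solve | lia | omega)
  · have hc := h.hc
    rw [h4] at hc
    norm_num at hc
    rw [hw, hc, h4] at hR; norm_num at hR; (clear * - h4 hR; omega)
  · have hc := h.hc
    rw [h4] at hc
    norm_num at hc
    rw [hw, hc, h4] at hR; norm_num at hR; omega
  · right; right; right; right
    refine ⟨h4, ?_⟩
    have h5 := h.small2 (by omega) (by omega)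
    have h6 : 11 ^ 2 * 12 ≤ q ^ 2 * (q + 1) := Nat.mul_le_mul (Nat.pow_le_pow_left h4 2) (by omega)
    omega

theorem R61 : 61 ≤ R := by
  rcases h.big with ⟨-, h1⟩ | ⟨-, h1⟩ | ⟨-, h1⟩ | ⟨-, h1⟩ | ⟨-, h1⟩ <;> omega

/-- the shapes of the maximal element orders -/
theorem shape_cases {E : ℕ} (hS : Shape (-(q : ℤ)) p q (q + 1) (q + 1) 5 c E) :
    E = R ∨ (∃ D, DM p q D ∧ (w : ℤ) * ((E : ℤ) - R) = D) ∨ (w : ℤ) * ((R : ℤ) - E) = (q : ℤ) ^ 3 - (q : ℤ) ^ 2 + 2 ∨
      (2 * E ≤ R) ∨ E ≤ q ^ 2 * (q + 1) := by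
  have h3 := h.q3
  have hw := h.hw
  have hR := h.hRZ
  have hcp := h.c_pos
  have hw0 : 0 < w := h.w_pos
  rcases hS with h1 | ⟨a, b, ha, hb, hab, h1⟩ | h1 | ⟨k, h1, hk⟩ | h1
  · left
    rw [ua_minus_odd (by decide), ← hw, ← h.hR] at h1
    exact Nat.eq_of_mul_eq_mul_right hw0 h1
  · right
    have h5 : (a = 1 ∧ b = 4) ∨ (a = 2 ∧ b = 3) ∨ (a = 3 ∧ b = 2) ∨ (a = 4 ∧ b = 1) := by (solve | lia | omega)
    have h4 : 1 ≤ q ^ 4 := Nat.one_le_pow _ _ (by omega)
    have h2 : 1 ≤ q ^ 2 := Nat.one_le_pow _ _ (by omega)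
    rcases h5 with ⟨rfl, rfl⟩ | ⟨rfl, rfl⟩ | ⟨rfl, rfl⟩ | ⟨rfl, rfl⟩
    · left
      rw [ua_minus_odd (by decide), ua_minus_even (by omega) (by decide), ← hw] at h1
      have := congrArg (fun x : ℕ => (x : ℤ)) h1
      push_cast [Nat.cast_sub h4] at this
      exact ⟨_, Or.inl rfl, by linear_combination this - hR⟩
    · right; left
      rw [ua_minus_even (by omega) (by decide), ua_minus_odd (by decide), ← hw] at h1
      have := congrArg (fun x : ℕ => (x : ℤ)) h1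
      push_cast [Nat.cast_sub h2] at this
      linear_combination hR - this
    · right; left
      rw [ua_minus_odd (by decide), ua_minus_even (by omega) (by decide), ← hw] at h1
      have := congrArg (fun x : ℕ => (x : ℤ)) h1
      push_cast [Nat.cast_sub h2] at this
      linear_combination hR - this
    · left
      rw [ua_minus_even (by omega) (by decide), ua_minus_odd (by decide), ← hw] at h1
      have := congrArg (fun x : ℕ => (x : ℤ)) h1
      push_cast [Nat.cast_sub h4] at this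
      exact ⟨_, Or.inl rfl, by linear_combination this - hR⟩
  · rw [show 5 - 2 = 3 from rfl, ua_minus_odd (by decide)] at h1
    have hwZ : (w : ℤ) = c * ((q : ℤ) + 1) := by rw [hw]; push_cast; ring
    have h2 : (w : ℤ) * E = p * ((q : ℤ) ^ 3 + 1) * ((q : ℤ) + 1) := by
      have := congrArg (fun x : ℕ => (x : ℤ)) h1
      push_cast at this
      rw [hwZ]
      linear_combination ((q : ℤ) + 1) * this
    rcases h.pq with h5 | h5
    · right; left
      rw [h5] at h2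
      exact ⟨_, Or.inr ⟨h5.symm, rfl⟩, by linear_combination h2 - hR⟩
    · right; right; right; left
      have h6 : (w : ℤ) * (2 * E) ≤ (w : ℤ) * R := by
        have h8 : (0 : ℤ) ≤ ((q : ℤ) ^ 3 + 1) * ((q : ℤ) + 1) := by positivity
        have h9 : (3 * (p : ℤ)) * (((q : ℤ) ^ 3 + 1) * ((q : ℤ) + 1)) ≤
            q * (((q : ℤ) ^ 3 + 1) * ((q : ℤ) + 1)) := mul_le_mul_of_nonneg_right (by exact_mod_cast h5) h8
        obtain ⟨a, rfl⟩ : ∃ a, q = a + 3 := ⟨q - 3, by omega⟩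
        have h10 : (0 : ℤ) ≤ 3 * (((a + 3 : ℕ) : ℤ) ^ 5 + 1) -
            2 * (((a + 3 : ℕ) : ℤ) * (((((a + 3 : ℕ) : ℤ)) ^ 3 + 1) * (((a + 3 : ℕ) : ℤ) + 1))) := by
          clear * -
          push_cast
          ring_nf
          positivity
        have h11 : (w : ℤ) * (2 * E) * 3 ≤ (w : ℤ) * R * 3 := by
          rw [hR]
          have e1 : (w : ℤ) * (2 * E) * 3 = 2 * ((3 * (p : ℤ)) * (((((a + 3 : ℕ) : ℤ)) ^ 3 + 1) * (((a + 3 : ℕ) : ℤ) + 1))) := by
            linear_combination 6 * h2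
          rw [e1]
          linarith only [h9, h10]
        exact le_of_mul_le_mul_right h11 (by norm_num)
      have h7 := le_of_mul_le_mul_left h6 (by exact_mod_cast hw0)
      exact_mod_cast h7
  · right; right; right; right
    rw [h1]
    have hpq := h.p_le
    have hp3 := h.p3
    have h2 : p ^ (k + 1) ≤ q ^ 2 := by
      rcases Nat.eq_zero_or_pos k with h4 | h4
      · rw [h4]
        calc p ^ (0 + 1) ≤ q ^ 1 := Nat.pow_le_pow_left hpq 1
          _ ≤ q ^ 2 := Nat.pow_le_pow_right (by omega) (by norm_num)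
      · have h5 : k = 1 := by
          by_contra hcon
          have h6 : 3 ^ 2 ≤ p ^ k := (Nat.pow_le_pow_left hp3 2).trans (Nat.pow_le_pow_right (by omega) (by omega))
          omega
        rw [h5]
        exact Nat.pow_le_pow_left hpq 2
    rw [mul_comm]
    exact Nat.mul_le_mul_right _ h2
  · right; right; right; right
    have h2 : (q + 1) ^ 2 * E ≤ (q + 1) ^ 2 * (q ^ 2 * (q + 1)) := by
      refine h1.trans (le_of_eq ?_)
      norm_num
      ring
    exact Nat.le_of_mul_le_mul_left h2 (by positivity)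

/-- the special numbers -/
theorem DM_bd {D : ℤ} (hD : DM p q D) : ((q : ℤ) + 1) ^ 2 < D ∧ 5 * D ≤ 2 * ((q : ℤ) ^ 5 + 1) ∧
    3 * ((q : ℤ) ^ 3 - (q : ℤ) ^ 2 + 2) ≤ D ∧ ((q : ℤ) + 1) * D ≤ 2 * ((q : ℤ) ^ 5 + 1) ∧
      ((5 : ℤ) ≤ q → 4 * D < (q : ℤ) ^ 5 + 1) := by
  have h3 := h.q3
  refine ⟨?_, ?_, ?_, ?_, fun h5 => ?_⟩
  · obtain ⟨a, rfl⟩ : ∃ a, q = a + 3 := ⟨q - 3, by omega⟩
    rcases hD with rfl | ⟨-, rfl⟩ <;> push_cast <;> exact pos_lt (by clear * -; ring_nf; positivity)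
  · obtain ⟨a, rfl⟩ : ∃ a, q = a + 3 := ⟨q - 3, by omega⟩
    rcases hD with rfl | ⟨-, rfl⟩ <;> push_cast <;> exact pos_le (by clear * -; ring_nf; positivity)
  · obtain ⟨a, rfl⟩ : ∃ a, q = a + 3 := ⟨q - 3, by omega⟩
    rcases hD with rfl | ⟨-, rfl⟩ <;> push_cast <;> exact pos_le (by clear * -; ring_nf; positivity)
  · obtain ⟨a, rfl⟩ : ∃ a, q = a + 3 := ⟨q - 3, by omega⟩
    rcases hD with rfl | ⟨-, rfl⟩ <;> push_cast <;> exact pos_le (by clear * -; ring_nf; positivity)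
  · obtain ⟨a, rfl⟩ : ∃ a, q = a + 5 := ⟨q - 5, by omega⟩
    rcases hD with rfl | ⟨-, rfl⟩ <;> push_cast <;> exact pos_lt (by clear * -; ring_nf; positivity)

theorem shape_le {E : ℕ} (hS : Shape (-(q : ℤ)) p q (q + 1) (q + 1) 5 c E) : 10 * E ≤ 14 * R := by
  have hw0 : (0 : ℤ) < w := by exact_mod_cast h.w_pos
  rcases h.shape_cases hS with h1 | ⟨D, hD, h1⟩ | h1 | h1 | h1
  · omega
  · have h2 := (h.DM_bd hD).2.1
    rw [← h1, ← h.hRZ] at h2
    have h3 : (w : ℤ) * (5 * ((E : ℤ) - R)) ≤ w * (2 * R) := by linarith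
    have h4 := le_of_mul_le_mul_left h3 hw0
    omega
  · have h3 := h.q3
    obtain ⟨a, ha⟩ : ∃ a, q = a + 3 := ⟨q - 3, by omega⟩
    have h2 : (0 : ℤ) ≤ (w : ℤ) * ((R : ℤ) - E) := by
      rw [h1, ha]; push_cast; clear * -; ring_nf; positivity
    have h4 : (0 : ℤ) ≤ (R : ℤ) - E := by
      by_contra hcon
      have := mul_neg_of_pos_of_neg hw0 (not_le.1 hcon)
      linarith only [h2, this]
    omega
  · omega
  · have := h.small
    omega

/-- the window -/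
theorem spec {E : ℕ} (hW : WM p q c E) (h7 : 7 * R < 10 * E) (hne : E ≠ R) :
    (∃ D, DM p q D ∧ (w : ℤ) * ((E : ℤ) - R) = D) ∨ (w : ℤ) * ((R : ℤ) - E) = (q : ℤ) ^ 3 - (q : ℤ) ^ 2 + 2 := by
  obtain ⟨E0, h0, ⟨j, hj⟩, hS⟩ := hW
  have h3 := h.shape_le hS
  have hj1 : j = 1 := by
    have h4 : j ≠ 0 := by
      rintro rfl
      omega
    by_contra h5
    have h6 : E * 2 ≤ E * j := Nat.mul_le_mul_left _ (by omega)
    omega
  rw [hj1, mul_one] at hj
  rw [hj] at hS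
  have hs := h.small
  rcases h.shape_cases hS with h4 | h4 | h4 | h4 | h4
  · exact absurd h4 hne
  · exact Or.inl h4
  · exact Or.inr h4
  · omega
  · omega

/-- the larger window -/
theorem spec2 (hq3 : q ≠ 3) (hq9 : q ≠ 9) {E : ℕ} (hW : WM p q c E) (h7 : R < 2 * E) (hne : E ≠ R) :
    (∃ D, DM p q D ∧ (w : ℤ) * ((E : ℤ) - R) = D) ∨ (w : ℤ) * ((R : ℤ) - E) = (q : ℤ) ^ 3 - (q : ℤ) ^ 2 + 2 ∨
      ∃ D, DM p q D ∧ (w : ℤ) * ((2 * E : ℤ) - R) = D := by
  obtain ⟨E0, h0, ⟨j, hj⟩, hS⟩ := hW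
  have h3 := h.shape_le hS
  have hs := h.small2 hq3 hq9
  have hj2 : j = 1 ∨ j = 2 := by
    have h4 : j ≠ 0 := by
      rintro rfl
      omega
    by_contra h5
    have h6 : E * 3 ≤ E * j := Nat.mul_le_mul_left _ (by omega)
    omega
  rcases hj2 with hj1 | hj1
  · rw [hj1, mul_one] at hj
    rw [hj] at hS
    rcases h.shape_cases hS with h4 | h4 | h4 | h4 | h4
    · exact absurd h4 hne
    · exact Or.inl h4
    · exact Or.inr (Or.inl h4)
    · omega
    · omega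
  · rw [hj1] at hj
    rw [hj] at hS
    have hw0 : (0 : ℤ) < w := by exact_mod_cast h.w_pos
    rcases h.shape_cases hS with h4 | ⟨D, hD, h4⟩ | h4 | h4 | h4
    · omega
    · right; right
      refine ⟨D, hD, ?_⟩
      rw [← h4]
      push_cast
      ring
    · exfalso
      have h5 := h.q3
      obtain ⟨a, ha⟩ : ∃ a, q = a + 3 := ⟨q - 3, by omega⟩
      have h6 : (0 : ℤ) < (w : ℤ) * ((R : ℤ) - (E * 2 : ℕ)) := by
        rw [h4, ha]; push_cast; clear * -; ring_nf; positivity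
      have h7 := pos_of_mul_pos_nat' h6
      push_cast at h7
      omega
    · omega
    · omega

end MNum

end Cfsg.Agent.R2.Spec.X7
end

-- part: R2/Spec/X7/NumM2
section
/-!
# The numerical conditions for `PSU_5(q)`, `q` odd: conclusion
-/

set_option autoImplicit false

namespace Cfsg.Agent.R2.Spec.X7

namespace MNum

variable {p q c w R : ℕ} (h : MNum p q c w R)

include h

theorem wZ : (0 : ℤ) < w := by exact_mod_cast h.w_pos

theorem not_dvd_q {u : ℕ} (hu : ¬ p ∣ u) : ¬ q ∣ u := by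
  intro hd
  obtain ⟨f, hf, hq⟩ := h.hq
  exact hu ((hq ▸ dvd_pow_self p (by omega) : p ∣ q).trans hd)

theorem ne_q {u : ℕ} (hu : ¬ p ∣ u) : (u : ℤ) ≠ q := by
  intro h6
  have : u = q := by exact_mod_cast h6
  exact h.not_dvd_q hu (dvd_of_eq this.symm)

theorem ne39 (hp3 : p ≠ 3) : q ≠ 3 ∧ q ≠ 9 := by
  obtain ⟨f, hf, hq⟩ := h.hq
  have h1 : p ∣ q := hq ▸ dvd_pow_self p (by omega)
  constructor
  · intro h2
    rw [h2, Nat.prime_dvd_prime_iff_eq h.hp Nat.prime_three] at h1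
    exact hp3 h1
  · intro h2
    rw [h2] at h1
    have h3 : p ∣ 3 := h.hp.dvd_of_dvd_pow (n := 2) (by norm_num; exact h1)
    rw [Nat.prime_dvd_prime_iff_eq h.hp Nat.prime_three] at h3
    exact hp3 h3

theorem qZ : (3 : ℤ) ≤ q := by exact_mod_cast h.q3

/-- the special number below `R` -/
theorem X2_bd : ((q : ℤ) + 1) ^ 2 < (q : ℤ) ^ 3 - (q : ℤ) ^ 2 + 2 ∧
    8 * ((q : ℤ) ^ 3 - (q : ℤ) ^ 2 + 2) < 2 * ((q : ℤ) ^ 5 + 1) - 4 * ((q : ℤ) + 1) ^ 2 := by
  have h3 := h.q3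
  obtain ⟨a, rfl⟩ : ∃ a, q = a + 3 := ⟨q - 3, by omega⟩
  push_cast
  exact ⟨pos_lt (by clear * -; ring_nf; positivity), pos_lt (by clear * -; ring_nf; positivity)⟩

theorem above {E : ℕ} {D : ℤ} (hD : DM p q D) (h1 : (w : ℤ) * ((E : ℤ) - R) = D) : R < E := by
  have h2 := (h.DM_bd hD).1
  have h3 : (0 : ℤ) < (w : ℤ) * ((E : ℤ) - R) := by
    rw [h1]; exact lt_of_le_of_lt (sq_nonneg _) h2
  have := pos_of_mul_pos_nat' h3
  omega

theorem below {E : ℕ} (h1 : (w : ℤ) * ((R : ℤ) - E) = (q : ℤ) ^ 3 - (q : ℤ) ^ 2 + 2) : E < R := by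
  have h2 := h.X2_bd.1
  have h3 : (0 : ℤ) < (w : ℤ) * ((R : ℤ) - E) := by
    rw [h1]; exact lt_of_le_of_lt (sq_nonneg _) h2
  have := pos_of_mul_pos_nat' h3
  omega

/-- an order above `R` in the window -/
theorem spec_above {E : ℕ} (hW : WM p q c E) (h1 : R < E) : ∃ D, DM p q D ∧ (w : ℤ) * ((E : ℤ) - R) = D := by
  rcases h.spec hW (by omega) (by omega) with h2 | h2
  · exact h2
  · have := h.below h2
    omega

/-- an order below `R` in the window -/
theorem spec_below {E : ℕ} (hW : WM p q c E) (h7 : 7 * R < 10 * E) (h1 : E < R) :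
    (w : ℤ) * ((R : ℤ) - E) = (q : ℤ) ^ 3 - (q : ℤ) ^ 2 + 2 := by
  rcases h.spec hW h7 (by omega) with ⟨D, hD, h2⟩ | h2
  · have := h.above hD h2
    omega
  · exact h2

theorem le_upper {E : ℕ} (hW : WM p q c E) : 10 * E ≤ 14 * R := by
  obtain ⟨E0, h0, hd, hS⟩ := hW
  have h1 := Nat.le_of_dvd h0 hd
  have h2 := h.shape_le hS
  omega

theorem DM_pair {D D' : ℤ} (hD : DM p q D) (hD' : DM p q D') (hlt : D' < D) : 4 * D ≤ 5 * D' ∧
    D - D' = ((q : ℤ) + 1) ^ 2 := by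
  have h3 := h.q3
  obtain ⟨a, rfl⟩ : ∃ a, q = a + 3 := ⟨q - 3, by omega⟩
  rcases hD with rfl | ⟨-, rfl⟩ <;> rcases hD' with rfl | ⟨-, rfl⟩ <;> push_cast at hlt ⊢
  · exact absurd hlt (lt_irrefl _)
  · exact absurd hlt (not_lt.2 (pos_le (by clear * -; ring_nf; positivity)))
  · exact ⟨pos_le (by clear * -; ring_nf; positivity), by ring⟩
  · exact absurd hlt (lt_irrefl _)

theorem DM_13 (hq : 5 ≤ q) {D : ℤ} (hD : DM p q D) : 13 * D < 3 * ((q : ℤ) ^ 5 + 1) := by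
  obtain ⟨a, rfl⟩ : ∃ a, q = a + 5 := ⟨q - 5, by omega⟩
  rcases hD with rfl | ⟨-, rfl⟩ <;> push_cast <;> exact pos_lt (by clear * -; ring_nf; positivity)

theorem DM_5 (hq : 7 ≤ q) {D : ℤ} (hD : DM p q D) : 5 * D < (q : ℤ) ^ 5 + 1 := by
  obtain ⟨a, rfl⟩ : ∃ a, q = a + 7 := ⟨q - 7, by omega⟩
  rcases hD with rfl | ⟨-, rfl⟩ <;> push_cast <;> exact pos_lt (by clear * -; ring_nf; positivity)

theorem DM_9 (hq : 11 ≤ q) {D : ℤ} (hD : DM p q D) : 18 * D < 2 * ((q : ℤ) ^ 5 + 1) - 25 * ((q : ℤ) + 1) ^ 2 := by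
  obtain ⟨a, rfl⟩ : ∃ a, q = a + 11 := ⟨q - 11, by omega⟩
  rcases hD with rfl | ⟨-, rfl⟩ <;> push_cast <;> exact pos_lt (by clear * -; ring_nf; positivity)

/-- the type `U`, odd -/
theorem typeO {u z : ℕ} {D : ℤ} (hD : DM p q D) (hpu : ¬ p ∣ u) (hu : 2 ≤ u) (hz : u ^ 3 ≤ z) (hz2 : 61 ≤ u * z + 1)
    (hcr : D * ((u : ℤ) * z + 1) = ((q : ℤ) ^ 5 + 1) * (z - u - 2)) : False := by
  have hq4 : (q : ℤ) ≠ 4 := by
    have := h.q_odd
    omega
  have hzz : (u : ℤ) ^ 3 ≤ z := by exact_mod_cast hz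
  have hzz2 : (61 : ℤ) ≤ (u : ℤ) * z + 1 := by exact_mod_cast hz2
  rcases hD with rfl | ⟨-, rfl⟩
  · exact h.ne_q hpu (m5O1 h.qZ hq4 (by omega) hzz hzz2 hcr)
  · exact m5O3 h.qZ hq4 (by omega) hzz hzz2 hcr

theorem w_small : (q = 3 → w = 4) ∧ (q = 5 → w = 6) ∧ (q = 7 → w = 8) := by
  have hw := h.hw
  have hc := h.hc
  refine ⟨fun h4 => ?_, fun h4 => ?_, fun h4 => ?_⟩ <;> rw [h4] at hc <;> norm_num at hc <;> rw [hw, hc, h4]

theorem not_13 : ¬ 13 ∣ R := by
  intro hd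
  have h3 := h.q3
  have hR := h.hR
  have hw := h.hw
  have h1 : (13 : ℤ) ∣ (q : ℤ) ^ 4 - (q : ℤ) ^ 3 + (q : ℤ) ^ 2 - q + 1 := by
    have h2 : (R : ℤ) * c = (q : ℤ) ^ 4 - (q : ℤ) ^ 3 + (q : ℤ) ^ 2 - q + 1 := by
      have h4 : (q : ℤ) + 1 ≠ 0 := by positivity
      apply mul_right_cancel₀ h4
      rw [hw] at hR
      have h5 : (R : ℤ) * (c * (q + 1)) = (q : ℤ) ^ 5 + 1 := by exact_mod_cast hR
      linear_combination h5
    rw [← h2]
    exact Dvd.dvd.mul_right (by exact_mod_cast hd) _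
  rw [show (13 : ℤ) = ((13 : ℕ) : ℤ) from rfl, ← ZMod.intCast_zmod_eq_zero_iff_dvd] at h1
  push_cast at h1
  have h2 : ∀ x : ZMod 13, x ^ 4 - x ^ 3 + x ^ 2 - x + 1 ≠ 0 := by decide
  exact h2 _ h1

/-- **the numerical conditions** -/
theorem nc : NC p R (WM p q c) where
  hp := h.hp
  c1093 := fun hR => by rcases h.big with ⟨-, h1⟩ | ⟨-, h1⟩ | ⟨-, h1⟩ | ⟨-, h1⟩ | ⟨-, h1⟩ <;> omega
  n13 := h.not_13
  big := by rcases h.big with ⟨-, h1⟩ | ⟨-, h1⟩ | ⟨-, h1⟩ | ⟨-, h1⟩ | ⟨-, h1⟩ <;> omega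
  upper := fun E _ hW => h.le_upper hW
  near := by
    intro E hE0 hW hne h1 h2
    have hR := h.R61
    have h6 := h.w_le'
    have hw := h.wZ
    rcases h.spec hW (by omega) hne with ⟨D, hD, h4⟩ | h4
    · have h5 := (h.DM_bd hD).1
      have h7 : (w : ℤ) * ((E : ℤ) - R) ≤ w * 2 := mul_le_mul_of_nonneg_left (by omega) hw.le
      linarith only [h6, h4, h5, h7]
    · have h5 := h.X2_bd.1
      have h7 : (w : ℤ) * ((R : ℤ) - E) ≤ w * 2 := mul_le_mul_of_nonneg_left (by omega) hw.le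
      linarith only [h6, h4, h5, h7]
  neg := by
    intro E E' hE0 hW hW' h7 h1 h2
    exfalso
    have h3 := h.spec_below hW (by omega) h2
    have h4 := h.spec_below hW' h7 (by omega)
    have h5 := mul_left_cancel₀ h.wZ.ne' (h3.trans h4.symm)
    omega
  posi := by
    intro E E' hE0 hW hW' h1 h2
    left
    obtain ⟨D, hD, h4⟩ := h.spec_above hW (by omega)
    obtain ⟨D', hD', h4'⟩ := h.spec_above hW' h2
    have hw := h.wZ
    have hlt : D' < D := by
      rw [← h4, ← h4']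
      exact mul_lt_mul_of_pos_left (by omega) hw
    obtain ⟨h5, h6⟩ := h.DM_pair hD hD' hlt
    have h7 := (h.DM_bd hD).2.2.2.1
    constructor
    · rw [← h4, ← h4'] at h5
      exact le_of_mul_le_mul_left (by linarith only [h5] : (w : ℤ) * (4 * ((E : ℤ) - R)) ≤ w * (5 * (E' - R))) hw
    · have hq1 : (q : ℤ) + 1 ≤ w := by exact_mod_cast h.w_ge
      have hww : (0 : ℤ) < w * w := mul_pos hw hw
      refine le_of_mul_le_mul_left (?_ : (w : ℤ) * w * (((E : ℤ) - E') * (E - R)) ≤ w * w * (2 * R)) hww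
      have e1 : (w : ℤ) * w * (((E : ℤ) - E') * (E - R)) = (w * ((E : ℤ) - R) - w * (E' - R)) * (w * (E - R)) := by
        ring
      have e2 : (w : ℤ) * w * (2 * R) = w * (2 * (w * R)) := by ring
      rw [e1, e2, h4, h4', h6, h.hRZ]
      have h8 : ((q : ℤ) + 1) ^ 2 * D = ((q : ℤ) + 1) * (((q : ℤ) + 1) * D) := by ring
      rw [h8]
      refine (mul_le_mul_of_nonneg_left h7 (by (clear * -; positivity))).trans ?_
      exact mul_le_mul_of_nonneg_right hq1 (by (clear * -; positivity))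
  opp := by
    intro E E' _ hW hW' h7 h1 h2
    left
    obtain ⟨D, hD, h4⟩ := h.spec_above hW h2
    have h4' := h.spec_below hW' h7 h1
    have h5 := (h.DM_bd hD).2.2.1
    rw [← h4, ← h4'] at h5
    exact le_of_mul_le_mul_left (by linarith only [h5] : (w : ℤ) * (3 * ((R : ℤ) - E')) ≤ w * (E - R)) h.wZ
  lT := by
    intro u M κ E hpu hu hM h1 h2 hE0 hW
    have hw := h.wZ
    obtain ⟨z, hz⟩ : ∃ z, u ^ (M - 1) = z := ⟨_, rfl⟩
    have hz2 : u ^ 2 ≤ z := by rw [← hz]; exact Nat.pow_le_pow_right (by omega) (by omega)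
    have hz3 : z = u ^ 2 ∨ u ^ 3 ≤ z := by
      rcases Nat.eq_or_lt_of_le hM with h3 | h3
      · left; rw [← hz, ← h3]
      · right; rw [← hz]; exact Nat.pow_le_pow_right (by omega) (by omega)
    have huM : u ^ M = u * z := by rw [← hz, ← pow_succ']; congr 1; omega
    rw [huM] at h1
    rw [hz] at h2
    have hz0 : 9 ≤ z := le_trans (by nlinarith only [hu]) hz2
    have h1Z : (R : ℤ) * κ = (u : ℤ) * z - 1 := by
      have h3 : 1 ≤ u * z := Nat.mul_pos (by omega) (by omega)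
      have := congrArg (fun x : ℕ => (x : ℤ)) h1
      push_cast [Nat.cast_sub h3] at this
      exact this
    have h2Z : (κ : ℤ) * E = ((z : ℤ) - 1) * (u - 1) := by
      have := congrArg (fun x : ℕ => (x : ℤ)) h2
      push_cast [Nat.cast_sub (show 1 ≤ z by omega), Nat.cast_sub (show 1 ≤ u by omega)] at this
      exact this
    have hκ : (0 : ℤ) < κ := by
      rcases Nat.eq_zero_or_pos κ with h3 | h3
      · rw [h3] at h1Z
        have : (3 : ℤ) * 9 ≤ u * z := by exact_mod_cast Nat.mul_le_mul hu hz0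
        push_cast at h1Z
        linarith only [this, h1Z]
      · exact_mod_cast h3
    have h4Z : (κ : ℤ) * ((R : ℤ) - E) = z + u - 2 := by linear_combination h1Z - h2Z
    have hER : E < R := by
      have h5 : (0 : ℤ) < (κ : ℤ) * ((R : ℤ) - E) := by rw [h4Z]; omega
      have := pos_of_mul_pos_nat' h5
      omega
    have huz : (u : ℤ) ^ 2 ≤ z := by exact_mod_cast hz2
    have hu2 : (2 : ℤ) ≤ u := by omega
    have hzz3 : (z : ℤ) = (u : ℤ) ^ 2 ∨ (u : ℤ) ^ 3 ≤ z := by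
      rcases hz3 with h6 | h6
      · left; exact_mod_cast h6
      · right; exact_mod_cast h6
    have fin : (w : ℤ) * ((R : ℤ) - E) = (q : ℤ) ^ 3 - (q : ℤ) ^ 2 + 2 → R = 61 ∧ u = 13 ∧ M = 3 := by
      intro h5
      have hcr := cross h5 h.hRZ h1Z h4Z
      obtain ⟨h6, h7, h8⟩ := m5L h.qZ hu2 hzz3 hcr
      have h9 : q = 3 := by exact_mod_cast h6
      have h10 : u = 13 := by exact_mod_cast h7
      have h11 : z = u ^ 2 := by exact_mod_cast h8
      refine ⟨?_, h10, ?_⟩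
      · rcases h.big with ⟨-, h12⟩ | ⟨h12, -⟩ | ⟨h12, -⟩ | ⟨h12, -⟩ | ⟨h12, -⟩ <;> omega
      · rw [h11] at hz
        have := Nat.pow_right_injective (show 2 ≤ u by omega) hz
        omega
    rcases Nat.eq_or_lt_of_le hu with hu3 | hu4
    · -- `u = 3`
      have hp3 : p ≠ 3 := by
        rintro rfl
        exact hpu (hu3 ▸ dvd_rfl)
      obtain ⟨hq3, hq9⟩ := h.ne39 hp3
      rw [← hu3] at h1Z h2Z
      push_cast at h1Z h2Z
      have h2E : R < 2 * E := by
        have h5 : (κ : ℤ) * R < κ * (2 * E) := by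
          have h6 : (κ : ℤ) * (2 * E) - κ * R = z - 3 := by linear_combination 2 * h2Z - h1Z
          omega
        have h6 := lt_of_mul_lt_mul_left h5 hκ.le
        exact_mod_cast h6
      rcases h.spec2 hq3 hq9 hW h2E (by omega) with ⟨D, hD, h5⟩ | h5 | ⟨D, hD, h5⟩
      · have := h.above hD h5
        omega
      · exact fin h5
      · exfalso
        have h6 : (κ : ℤ) * ((2 * E : ℤ) - R) = z - 3 := by linear_combination 2 * h2Z - h1Z
        have hcr := cross h5 h.hRZ h1Z h6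
        have hq5 : 5 ≤ q := by
          have := h.q3
          have := h.q_odd
          omega
        have h7 := h.DM_13 hq5 hD
        have h8 : (0 : ℤ) < 3 * z - 1 := by omega
        have h9 := mul_lt_mul_of_pos_right h7 h8
        have h10 : (0 : ℤ) < (q : ℤ) ^ 5 + 1 := by positivity
        have h11 : ((q : ℤ) ^ 5 + 1) * (13 * (z - 3)) < ((q : ℤ) ^ 5 + 1) * (3 * (3 * z - 1)) := by linarith only [hcr, h9]
        have h12 := lt_of_mul_lt_mul_left h11 h10.le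
        omega
    · apply fin
      apply h.spec_below hW _ hER
      have h5 : (κ : ℤ) * (7 * R) < κ * (10 * E) := by
        have h6 : (κ : ℤ) * (10 * E) - κ * (7 * R) = (3 * u - 10) * z - 10 * u + 17 := by
          linear_combination 10 * h2Z - 7 * h1Z
        have h7 : (0 : ℤ) < (3 * (u : ℤ) - 10) * z - 10 * u + 17 := by
          have h8 : (3 * (u : ℤ) - 10) * (u ^ 2) ≤ (3 * (u : ℤ) - 10) * z :=
            mul_le_mul_of_nonneg_left huz (by omega)
          obtain ⟨a, rfl⟩ : ∃ a, u = a + 4 := ⟨u - 4, by omega⟩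
          have h9 : (0 : ℤ) < (3 * ((a + 4 : ℕ) : ℤ) - 10) * ((a + 4 : ℕ) : ℤ) ^ 2 - 10 * ((a + 4 : ℕ) : ℤ) + 17 := by
            clear * -
            push_cast
            ring_nf
            positivity
          linarith only [h8, h9]
        linarith only [h1Z, h2Z, h7]
      have h6 := lt_of_mul_lt_mul_left h5 hκ.le
      exact_mod_cast h6
  two := by
    intro z E hz h1 h2 hW
    have hR := h.R61
    have h3 := h.spec_below hW (by omega) (by omega)
    have h4 := h.X2_bd.2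
    have h5 : 4 * ((R : ℤ) - E) = R + 9 := by omega
    have h6 : 4 * ((q : ℤ) ^ 3 - (q : ℤ) ^ 2 + 2) = ((q : ℤ) ^ 5 + 1) + 9 * w := by
      rw [← h3, ← h.hRZ]
      linear_combination (w : ℤ) * h5
    have := sq_nonneg ((q : ℤ) + 1)
    have := h.wZ
    linarith
  mT := by
    intro v M E hv hM h1 h2 hE0 hW
    obtain ⟨z, hz⟩ : ∃ z, (v + 1) ^ M = z := ⟨_, rfl⟩
    have hz4 : (v + 1) ^ 4 ≤ z := by rw [← hz]; exact Nat.pow_le_pow_right (by omega) hM
    have hz1 : 1 ≤ z := le_trans (Nat.one_le_pow _ _ (by omega)) hz4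
    have e1 : (v + 1) ^ (M + 1) = (v + 1) * z := by rw [← hz, pow_succ']
    rw [hz] at h1
    rw [e1] at h2
    have h1Z : (R : ℤ) * v = z - 1 := by
      have := congrArg (fun x : ℕ => (x : ℤ)) h1
      push_cast [Nat.cast_sub hz1] at this
      exact this
    have h2Z : (E : ℤ) * (v : ℤ) ^ 2 = ((v : ℤ) + 1) * z - 1 := by
      have h3 : 1 ≤ (v + 1) * z := Nat.mul_pos (by omega) (by omega)
      have := congrArg (fun x : ℕ => (x : ℤ)) h2
      push_cast [Nat.cast_sub h3] at this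
      exact this
    have h3Z : (R : ℤ) * (v : ℤ) ^ 2 = (v : ℤ) * (z - 1) := by linear_combination (v : ℤ) * h1Z
    have h4Z : (v : ℤ) ^ 2 * ((E : ℤ) - R) = z + v - 1 := by linear_combination h2Z - h3Z
    have hv2 : (0 : ℤ) < (v : ℤ) ^ 2 := by positivity
    have hRE : R < E := by
      by_contra hcon
      have h5 : (v : ℤ) ^ 2 * ((E : ℤ) - R) ≤ 0 := mul_nonpos_of_nonneg_of_nonpos hv2.le (by omega)
      rw [h4Z] at h5
      omega
    rcases Nat.eq_or_lt_of_le hv with hv1 | hv1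
    · have h5 := h.le_upper hW
      rw [← hv1] at h1Z h2Z
      push_cast at h1Z h2Z
      omega
    · obtain ⟨D, hD, h5⟩ := h.spec_above hW hRE
      have hcr := cross h5 h.hRZ h3Z h4Z
      have hzz : ((v : ℤ) + 1) ^ 4 ≤ z := by exact_mod_cast hz4
      rcases hD with rfl | ⟨-, rfl⟩
      · exact m5M1 h.qZ (by omega) hzz hcr
      · exact m5M3 h.qZ (by omega) hzz hcr
  uE := by
    intro u M κ E hpu hu hM h1 h2 hE0 hW
    obtain ⟨z, hz⟩ : ∃ z, u ^ (M - 1) = z := ⟨_, rfl⟩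
    have huM : u ^ M = u * z := by rw [← hz, ← pow_succ']; congr 1; omega
    have hz5 : u ^ 5 ≤ z := by rw [← hz]; exact Nat.pow_le_pow_right (by omega) (by omega)
    have hz1 : 1 ≤ z := le_trans (Nat.one_le_pow _ _ (by omega)) hz5
    rw [huM] at h1
    rw [hz] at h2
    have h1Z : (R : ℤ) * κ = (u : ℤ) * z - 1 := by
      have h3 : 1 ≤ u * z := Nat.mul_pos (by omega) (by omega)
      have := congrArg (fun x : ℕ => (x : ℤ)) h1
      push_cast [Nat.cast_sub h3] at this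
      exact this
    have h2Z : (κ : ℤ) * E = ((z : ℤ) + 1) * (u + 1) := by
      have := congrArg (fun x : ℕ => (x : ℤ)) h2
      push_cast at this
      exact this
    have h4Z : (κ : ℤ) * ((E : ℤ) - R) = z + u + 2 := by linear_combination h2Z - h1Z
    have hRE : R < E := by
      have h5 : (0 : ℤ) < (κ : ℤ) * ((E : ℤ) - R) := by rw [h4Z]; positivity
      have := pos_of_mul_pos_nat' h5
      omega
    obtain ⟨D, hD, h5⟩ := h.spec_above hW hRE
    have hcr := cross h5 h.hRZ h1Z h4Z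
    have hzz : (u : ℤ) ^ 5 ≤ z := by exact_mod_cast hz5
    rcases hD with rfl | ⟨-, rfl⟩
    · exact m5E1 h.qZ (by omega) hzz hcr
    · exact h.ne_q hpu (m5E3 h.qZ (by omega) hzz hcr)
  uO := by
    intro u M κ E hpu hu hM hκ0 h1 h2 hE0 hW
    obtain ⟨z, hz⟩ : ∃ z, u ^ (M - 1) = z := ⟨_, rfl⟩
    have huM : u ^ M = u * z := by rw [← hz, ← pow_succ']; congr 1; omega
    have hz3 : u ^ 3 ≤ z := by rw [← hz]; exact Nat.pow_le_pow_right (by omega) (by omega)
    have hz1 : 1 ≤ z := le_trans (Nat.one_le_pow _ _ (by omega)) hz3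
    rw [huM] at h1
    rw [hz] at h2
    have h1Z : (R : ℤ) * κ = (u : ℤ) * z + 1 := by exact_mod_cast h1
    have h2Z : (κ : ℤ) * E = ((z : ℤ) - 1) * (u + 1) := by
      have := congrArg (fun x : ℕ => (x : ℤ)) h2
      push_cast [Nat.cast_sub hz1] at this
      exact this
    have h4Z : (κ : ℤ) * ((E : ℤ) - R) = z - u - 2 := by linear_combination h2Z - h1Z
    have hzu : (0 : ℤ) < z - u - 2 := by
      have h5 : u + 3 ≤ u ^ 3 := by
        obtain ⟨a, rfl⟩ : ∃ a, u = a + 2 := ⟨u - 2, by omega⟩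
        have : (a + 2) ^ 3 = a ^ 3 + 6 * a ^ 2 + 12 * a + 8 := by ring
        rw [this]
        have := Nat.zero_le (a ^ 3)
        have := Nat.zero_le (a ^ 2)
        omega
      omega
    have hRE : R < E := by
      have h5 : (0 : ℤ) < (κ : ℤ) * ((E : ℤ) - R) := by rw [h4Z]; exact hzu
      have := pos_of_mul_pos_nat' h5
      omega
    obtain ⟨D, hD, h5⟩ := h.spec_above hW hRE
    have hcr := cross h5 h.hRZ h1Z h4Z
    refine h.typeO hD hpu hu hz3 ?_ hcr
    have h6 : R * 1 ≤ R * κ := Nat.mul_le_mul_left _ hκ0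
    have := h.R61
    omega
  uT := by
    intro u g E hu h1 h2 hE0 hW
    exfalso
    have h4Z : (g : ℤ) * ((E : ℤ) - R) = u - 2 := by linear_combination h2 - h1
    have hRE : R < E := by
      have h5 : (0 : ℤ) < (g : ℤ) * ((E : ℤ) - R) := by rw [h4Z]; omega
      have := pos_of_mul_pos_nat' h5
      omega
    obtain ⟨D, hD, h5⟩ := h.spec_above hW hRE
    have hcr := cross h5 h.hRZ h1 h4Z
    rcases hD with rfl | ⟨-, rfl⟩
    · exact m5T1 h.qZ (by omega) hcr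
    · exact m5T3 h.qZ (by omega) hcr
  mO := by
    intro u m E hpu hu hm hme h1 h2 hE0 hW
    have hR := h.R61
    rcases h.big with ⟨hq, hRv⟩ | hbig
    · -- `q = 3`
      have h3 : u ^ 4 ≤ u ^ m := Nat.pow_le_pow_right (by omega) hm
      have hu3 : u = 3 := by
        by_contra hcon
        have h4 : 4 ^ 4 ≤ u ^ 4 := Nat.pow_le_pow_left (by omega) 4
        norm_num at h4
        omega
      rw [hu3] at h1
      have h5 : 3 ∣ 3 ^ m := dvd_pow_self 3 (by omega)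
      omega
    · by_cases hq9 : q = 9
      · have hRv : R = 1181 := by
          rcases hbig with ⟨h3, -⟩ | ⟨h3, -⟩ | ⟨-, h3⟩ | ⟨h3, -⟩ <;> omega
        obtain ⟨k, hk⟩ := hme
        have h3 : (u ^ k) ^ 2 = 2361 := by
          rw [← pow_mul, show k * 2 = m by omega]
          omega
        have h4 : 48 < u ^ k := by
          by_contra hcon
          have : (u ^ k) ^ 2 ≤ 48 ^ 2 := Nat.pow_le_pow_left (by omega) 2
          omega
        have h5 : 49 ^ 2 ≤ (u ^ k) ^ 2 := Nat.pow_le_pow_left h4 2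
        omega
      · have hq3 : q ≠ 3 := by
          rcases hbig with ⟨h3, -⟩ | ⟨h3, -⟩ | ⟨h3, -⟩ | ⟨h3, -⟩ <;> omega
        obtain ⟨z, hz⟩ : ∃ z, u ^ (m - 1) = z := ⟨_, rfl⟩
        have huM : u ^ m = u * z := by rw [← hz, ← pow_succ']; congr 1; omega
        have hz3 : u ^ 3 ≤ z := by rw [← hz]; exact Nat.pow_le_pow_right (by omega) (by omega)
        rw [huM] at h1
        rw [hz] at h2
        have hz1 : 9 * u ≤ z := by
          refine le_trans ?_ hz3
          calc 9 * u = 3 ^ 2 * u := by norm_num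
            _ ≤ u ^ 2 * u := Nat.mul_le_mul_right _ (Nat.pow_le_pow_left hu 2)
            _ = _ := by ring
        have h4 : 4 * E + u + 1 = u * z + z := by
          obtain ⟨y, hy⟩ : ∃ y, z = y + 1 := ⟨z - 1, by omega⟩
          rw [h2, hy, Nat.add_sub_cancel]
          ring
        have h3z : 3 * z ≤ u * z := Nat.mul_le_mul_right _ hu
        rcases h.spec2 hq3 hq9 hW (by omega) (by omega) with ⟨D, hD, h5⟩ | h5 | ⟨D, hD, h5⟩
        · have := h.above hD h5
          (clear * - h1 h4 h3z this; omega)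
        · have h6 := h.X2_bd.2
          have h8 : (R : ℤ) ≤ 3 * ((R : ℤ) - E) := by omega
          have h9 := mul_le_mul_of_nonneg_left h8 h.wZ.le
          have h10 := sq_nonneg ((q : ℤ) + 1)
          have h11 : (w : ℤ) * (3 * ((R : ℤ) - E)) = 3 * ((q : ℤ) ^ 3 - (q : ℤ) ^ 2 + 2) := by rw [← h5]; ring
          rw [h.hRZ, h11] at h9
          have h12 : (0 : ℤ) < (q : ℤ) ^ 5 + 1 := by (clear * -; positivity)
          linarith only [h6, h9, h10, h12]
        · have h1Z : (R : ℤ) * 2 = (u : ℤ) * z + 1 := by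
            have : R * 2 = u * z + 1 := by omega
            exact_mod_cast this
          have h6Z : (2 : ℤ) * ((2 * E : ℤ) - R) = z - u - 2 := by
            have h7 : (4 : ℤ) * E + u + 1 = u * z + z := by exact_mod_cast h4
            linear_combination h7 - h1Z
          have hcr := cross h5 h.hRZ h1Z h6Z
          exact h.typeO hD hpu (by omega) hz3 (by (clear * - hu hz1 h3z; omega)) hcr
  d3 := by
    intro E hp3 h1 hW
    have hR := h.R61
    obtain ⟨hq3, hq9⟩ := h.ne39 hp3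
    obtain ⟨D, hD, h5⟩ := h.spec_above hW (by omega)
    have h6 := h.w_le'
    have h7 : 9 * D = ((q : ℤ) ^ 5 + 1) - 25 * w := by
      rw [← h5, ← h.hRZ]
      linear_combination (w : ℤ) * h1
    rcases h.big with ⟨hq, hRv⟩ | ⟨hq, hRv⟩ | ⟨hq, hRv⟩ | ⟨hq, hRv⟩ | ⟨hq, -⟩
    · exact hq3 hq
    · rw [hRv] at h1; omega
    · rw [hRv] at h1; omega
    · exact hq9 hq
    · have h8 := h.DM_9 hq hD
      linarith only [h6, h7, h8]
  d5 := by
    intro E h1 hW
    have hR := h.R61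
    obtain ⟨D, hD, h5⟩ := h.spec_above hW (by omega)
    have h7 : 5 * D = ((q : ℤ) ^ 5 + 1) + 9 * w := by
      rw [← h5, ← h.hRZ]
      linear_combination (w : ℤ) * h1
    have hw := h.wZ
    have h3 := h.q3
    have ho := h.q_odd
    obtain ⟨w3, w5, -⟩ := h.w_small
    have hq : q = 3 ∨ q = 5 ∨ 7 ≤ q := by omega
    rcases hq with hq | hq | hq
    · rw [w3 hq, hq] at h7
      rcases hD with hD | ⟨-, hD⟩ <;> rw [hD, hq] at h7 <;> norm_num at h7
    · rw [w5 hq, hq] at h7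
      rcases hD with hD | ⟨-, hD⟩ <;> rw [hD, hq] at h7 <;> norm_num at h7
    · have := h.DM_5 hq hD
      linarith only [h7, hw, this]
  p3 := by
    intro E hp3 h1 hW
    have hR := h.R61
    obtain ⟨hq3, hq9⟩ := h.ne39 hp3
    have hw := h.wZ
    have h3 := h.q3
    have ho := h.q_odd
    rcases h.spec2 hq3 hq9 hW (by omega) (by omega) with ⟨D, hD, h5⟩ | h5 | ⟨D, hD, h5⟩
    · have := h.above hD h5
      omega
    · have h6 := h.X2_bd.2
      have h7 : 3 * ((R : ℤ) - E) = R - 4 := by omega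
      have h8 : 3 * ((q : ℤ) ^ 3 - (q : ℤ) ^ 2 + 2) = ((q : ℤ) ^ 5 + 1) - 4 * w := by
        rw [← h5, ← h.hRZ]
        linear_combination (w : ℤ) * h7
      have h9 := h.w_le'
      have h10 := h.X2_bd.1
      have h11 := sq_nonneg ((q : ℤ) + 1)
      linarith only [hw, h6, h8, h9, h10]
    · have h6 := h.DM_13 (by omega) hD
      have h7 : 3 * ((2 * E : ℤ) - R) = R + 8 := by omega
      have h8 : 3 * D = ((q : ℤ) ^ 5 + 1) + 8 * w := by
        rw [← h5, ← h.hRZ]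
        linear_combination (w : ℤ) * h7
      have h10 : (0 : ℤ) < (q : ℤ) ^ 5 + 1 := by positivity
      linarith only [hw, h6, h8, h10]
  half := by
    intro E _ h1 hW
    have hR := h.R61
    rcases h.big with ⟨hq, hRv⟩ | hbig
    · exact Or.inl hRv
    · by_cases hq9 : q = 9
      · right; left
        rcases hbig with ⟨h3, -⟩ | ⟨h3, -⟩ | ⟨-, h3⟩ | ⟨h3, -⟩ <;> omega
      · exfalso
        have hq3 : q ≠ 3 := by
          rcases hbig with ⟨h3, -⟩ | ⟨h3, -⟩ | ⟨h3, -⟩ | ⟨h3, -⟩ <;> omega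
        rcases h.spec2 hq3 hq9 hW (by omega) (by omega) with ⟨D, hD, h5⟩ | h5 | ⟨D, hD, h5⟩
        · have := h.above hD h5
          omega
        · have h6 := h.X2_bd.2
          have h7 : 2 * ((R : ℤ) - E) = R - 1 := by omega
          have h8 : 2 * ((q : ℤ) ^ 3 - (q : ℤ) ^ 2 + 2) = ((q : ℤ) ^ 5 + 1) - w := by
            rw [← h5, ← h.hRZ]
            linear_combination (w : ℤ) * h7
          have h9 := h.w_le'
          have h10 : (0 : ℤ) < (q : ℤ) ^ 5 + 1 := by (clear * -; positivity)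
          have h11 := sq_nonneg ((q : ℤ) + 1)
          linarith only [h6, h8, h9, h10]
        · have h6 := (h.DM_bd hD).1
          have h7 : (2 * E : ℤ) - R = 1 := by omega
          rw [h7, mul_one] at h5
          have h9 := h.w_le'
          have := h.wZ
          linarith only [h5, h6, h9]

end MNum

end Cfsg.Agent.R2.Spec.X7
end

-- part: R2/Spec/X7/Odd
section
/-!
# `PSL_5(q)`, `PSL_7(q)`, `PSU_5(q)`, `q` odd: no composition factors of Lie type in other characteristics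
-/

set_option autoImplicit false

namespace Cfsg.Agent.R2.Spec.X7

open Finset Function Cfsg Subgroup Cfsg.Agent.H420.QR Cfsg.Agent.H360.Iso
open Cfsg.Agent.H426.LieFam Cfsg.Agent.R2.Spec Cfsg.Agent.R2.Spec.F1

universe u w

/-- **The primes of the isolated number.** -/
theorem not_dvd_ua {s : ℤ} {n t R r : ℕ} (hn : n.Prime) (hn2 : n ≠ 2) (ht : (s - 1).natAbs = t) (ht0 : 0 < t)
    (hR : R * (Nat.gcd n t * t) = ua s n) (hR0 : 0 < R) (hr : r.Prime) (hrR : r ∣ R) {a : ℕ} (ha1 : 1 ≤ a)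
    (ha : a < n) : ¬ r ∣ ua s a := by
  have hrf := Fact.mk hr
  have hnf := Fact.mk hn
  intro hra
  have zc : ∀ b : ℕ, r ∣ ua s b → ((s : ℤ) : ZMod r) ^ b = 1 := by
    intro b hb
    have h1 : (r : ℤ) ∣ s ^ b - 1 := Int.natCast_dvd.2 hb
    have h2 := (ZMod.intCast_zmod_eq_zero_iff_dvd _ r).2 h1
    push_cast at h2
    linear_combination h2
  have hrn : r ∣ ua s n := by
    rw [← hR]
    exact hrR.mul_right _
  have h1 := orderOf_dvd_of_pow_eq_one (zc a hra)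
  have h2 := orderOf_dvd_of_pow_eq_one (zc n hrn)
  rcases (Nat.dvd_prime hn).1 h2 with h3 | h3
  · rw [orderOf_eq_one_iff] at h3
    have hrs : (r : ℤ) ∣ s - 1 := by
      rw [← ZMod.intCast_zmod_eq_zero_iff_dvd]
      push_cast
      rw [h3, sub_self]
    have hrt : r ∣ t := by
      rw [← ht]
      exact Int.natCast_dvd.1 hrs
    -- `R * gcd = |es s n|`
    have h4 : R * Nat.gcd n t = (es s n).natAbs := by
      apply Nat.eq_of_mul_eq_mul_right ht0
      rw [mul_assoc, hR, ua_eq, ht]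
    have h5 : (r : ℤ) ∣ es s n := Int.natCast_dvd.2 (by rw [← h4]; exact hrR.mul_right _)
    have h6 : (r : ℤ) ∣ n := by
      have := dvd_sub h5 (hrs.trans (es_modEq s n))
      rwa [sub_sub_cancel] at this
    have h7 : r = n := (Nat.prime_dvd_prime_iff_eq hr hn).1 (by exact_mod_cast h6)
    subst h7
    have hg : Nat.gcd r t = r := Nat.gcd_eq_left hrt
    have hodd : Odd r := hr.odd_of_ne_two hn2
    have hns : ¬ (r : ℤ) ∣ s := by
      intro h8
      have h9 := dvd_sub h8 hrs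
      rw [sub_sub_cancel] at h9
      have : r ∣ 1 := by exact_mod_cast h9
      exact hr.one_lt.ne' (Nat.dvd_one.1 this)
    have hv := Int.emultiplicity_pow_sub_pow hr hodd (x := s) (y := 1) hrs hns r
    rw [one_pow] at hv
    have hv1 : emultiplicity (r : ℤ) (s ^ r - 1) = emultiplicity r (ua s r) := by
      rw [ua, Int.emultiplicity_natAbs]
    have hv2 : emultiplicity (r : ℤ) (s - 1) = emultiplicity r t := by
      rw [← ht, Int.emultiplicity_natAbs]
    rw [hv1, hv2, ← hR, hg, emultiplicity_mul (Nat.prime_iff.1 hr), emultiplicity_mul (Nat.prime_iff.1 hr)] at hv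
    have hfin : FiniteMultiplicity r t := Nat.finiteMultiplicity_iff.2 ⟨hr.one_lt.ne', ht0⟩
    have hfin' : FiniteMultiplicity r r := Nat.finiteMultiplicity_iff.2 ⟨hr.one_lt.ne', hr.pos⟩
    have hfinR : FiniteMultiplicity r R := Nat.finiteMultiplicity_iff.2 ⟨hr.one_lt.ne', hR0⟩
    rw [hfin.emultiplicity_eq_multiplicity, hfin'.emultiplicity_eq_multiplicity,
      hfinR.emultiplicity_eq_multiplicity] at hv
    have h8 : multiplicity r R + (multiplicity r r + multiplicity r t) = multiplicity r t + multiplicity r r := by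
      exact_mod_cast hv
    have h9 : 0 < multiplicity r R := multiplicity_pos_of_dvd hrR
    omega
  · rw [h3] at h1
    have := Nat.le_of_dvd ha1 h1
    omega

/-- **The primes of the isolated number are large.** -/
theorem lt_of_dvd_iso {s : ℤ} {n t R r : ℕ} (hn : n.Prime) (hn5 : 5 ≤ n) (ht : (s - 1).natAbs = t) (ht0 : 0 < t)
    (hR : R * (Nat.gcd n t * t) = ua s n) (hR0 : 0 < R) (hr : r.Prime) (hrR : r ∣ R) :
    7 < r ∧ orderOf ((s : ℤ) : ZMod r) = n := by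
  have hrf := Fact.mk hr
  have h1 : ¬ r ∣ ua s 1 := not_dvd_ua hn (by omega) ht ht0 hR hR0 hr hrR le_rfl (by omega)
  have hrn : r ∣ ua s n := by
    rw [← hR]
    exact hrR.mul_right _
  have h2 : (r : ℤ) ∣ s ^ n - 1 := Int.natCast_dvd.2 hrn
  have h3 := (ZMod.intCast_zmod_eq_zero_iff_dvd _ r).2 h2
  push_cast at h3
  have h4 : ((s : ℤ) : ZMod r) ^ n = 1 := by linear_combination h3
  have h5 : orderOf ((s : ℤ) : ZMod r) = n := by
    rcases (Nat.dvd_prime hn).1 (orderOf_dvd_of_pow_eq_one h4) with h5 | h5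
    · exfalso
      rw [orderOf_eq_one_iff] at h5
      apply h1
      have h6 : (r : ℤ) ∣ s ^ 1 - 1 := by
        rw [← ZMod.intCast_zmod_eq_zero_iff_dvd]
        push_cast
        rw [h5]
        ring
      exact Int.natCast_dvd.1 h6
    · exact h5
  refine ⟨?_, h5⟩
  have h6 : ((s : ℤ) : ZMod r) ≠ 0 := by
    intro h6
    rw [h6, zero_pow (by omega)] at h4
    exact zero_ne_one h4
  have h7 := orderOf_dvd_of_pow_eq_one (ZMod.pow_card_sub_one_eq_one h6)
  rw [h5] at h7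
  have h8 := Nat.le_of_dvd (by have := hr.two_le; omega) h7
  have hr2 := hr.two_le
  rcases Nat.lt_or_ge 7 r with h9 | h9
  · exact h9
  · exfalso
    interval_cases r
    · omega
    · omega
    · omega
    · omega
    · exact absurd hr (by norm_num)
    · have : n = 5 ∨ n = 6 := by omega
      rcases this with h | h
      · rw [h] at h7; norm_num at h7
      · rw [h] at hn; norm_num at hn

theorem NoCross.congr {p : ℕ} {L L' : Type w} [Group L] [Group L'] (h : NoCross.{u, w} p L) (e : L ≃* L') :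
    NoCross.{u, w} p L' := by
  intro G _ _ hG
  refine h G (hG.trans ?_)
  ext n
  simp only [Set.mem_range]
  constructor
  · rintro ⟨x, hx⟩
    exact ⟨e.symm x, by rw [← hx]; exact orderOf_injective e.symm.toMonoidHom e.symm.injective x⟩
  · rintro ⟨x, hx⟩
    exact ⟨e x, by rw [← hx]; exact orderOf_injective e.toMonoidHom e.injective x⟩

theorem gcd_mul_dvd_ua {s : ℤ} {n t : ℕ} (ht : (s - 1).natAbs = t) : Nat.gcd n t * t ∣ ua s n := by
  rw [ua_eq, ht]
  apply Nat.mul_dvd_mul_right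
  apply Int.natCast_dvd.1
  have h1 : ((Nat.gcd n t : ℕ) : ℤ) ∣ s - 1 := Int.natCast_dvd.2 (by rw [ht]; exact Nat.gcd_dvd_right _ _)
  have h2 := h1.trans (es_modEq s n)
  have h3 : ((Nat.gcd n t : ℕ) : ℤ) ∣ n := by exact_mod_cast Nat.gcd_dvd_left n t
  have h4 := dvd_add h2 h3
  rwa [sub_add_cancel] at h4

/-- **`PSL_5(q)`, `PSL_7(q)`.** -/
theorem noCross_psl {p f n : ℕ} (hn : n = 5 ∨ n = 7) (hp : p.Prime) (hp2 : p ≠ 2) {L : Type w} [Group L] [Finite L]
    (hL : Fam.Is p f L (.psl n)) : NoCross.{u, w} p L := by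
  have hfp := Fact.mk hp
  have hcoq : Coq3 L := by
    rcases hn with rfl | rfl
    · exact coq3_of_classes (t := .psl 5) trivial hp hL hp2 (i := 4) (j := 3) (k := 5) (by norm_num) (by norm_num)
        (by norm_num) (show 4 ≤ 5 by norm_num) (show 3 ≤ 5 by norm_num) (show 5 ≤ 5 by norm_num)
        ⟨by norm_num, by norm_num, by norm_num⟩ ⟨by norm_num, by norm_num, by norm_num⟩
        ⟨by norm_num, by norm_num, by norm_num⟩ (by norm_num) (by norm_num)
    · exact coq3_of_classes (t := .psl 7) trivial hp hL hp2 (i := 5) (j := 6) (k := 7) (by norm_num) (by norm_num)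
        (by norm_num) (show 5 ≤ 7 by norm_num) (show 6 ≤ 7 by norm_num) (show 7 ≤ 7 by norm_num)
        ⟨by norm_num, by norm_num, by norm_num⟩ ⟨by norm_num, by norm_num, by norm_num⟩
        ⟨by norm_num, by norm_num, by norm_num⟩ (by norm_num) (by norm_num)
  obtain ⟨-, -, F, _, _, _, hF, ⟨e⟩⟩ := hL
  have hnp : n.Prime := by rcases hn with rfl | rfl <;> norm_num
  have hn5 : 5 ≤ n := by omega
  have hf : f ≠ 0 := by
    rintro rfl
    have := Fintype.one_lt_card (α := F)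
    rw [hF] at this
    simp at this
  obtain ⟨q, hq⟩ : ∃ q, q = p ^ f := ⟨_, rfl⟩
  rw [← hq] at hF
  have hq3 : 3 ≤ q := by
    have h1 := Nat.le_self_pow hf p
    have h2 := hp.two_le
    omega
  have ht := (par_plus hq3).ht
  obtain ⟨R, hR⟩ := gcd_mul_dvd_ua (s := (q : ℤ)) (n := n) ht
  rw [mul_comm] at hR
  have hua := ua_plus (q := q) (by omega) n
  have hR0 : 0 < R := by
    rcases Nat.eq_zero_or_pos R with h | h
    · exfalso
      rw [h, zero_mul] at hR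
      have := (par_plus hq3).pos n (by omega)
      omega
    · exact h
  have hP : PNum p q n (Nat.gcd n (q - 1)) (Nat.gcd n (q - 1) * (q - 1)) R :=
    ⟨hn, hp, hp2, ⟨f, by omega, hq⟩, rfl, rfl, by rw [← hR, hua]⟩
  have hwp := hP.w_pos
  have hbig := hP.big
  have hprime : ∀ r : ℕ, r.Prime → r ∣ R → 7 < r ∧ r ≠ p ∧ ∀ a, 1 ≤ a → a < n → ¬ r ∣ ua (q : ℤ) a := by
    intro r hr hrR
    refine ⟨(lt_of_dvd_iso hnp hn5 ht (by omega) hR.symm hR0 hr hrR).1, ?_, fun a ha1 ha2 =>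
      not_dvd_ua hnp (by omega) ht (by omega) hR.symm hR0 hr hrR ha1 ha2⟩
    rintro rfl
    have h1 : r ∣ q ^ n - 1 := by
      rw [← hua, hR]
      exact hrR.mul_right _
    have h2 : r ∣ q ^ n := (dvd_pow_self r hf).trans (by rw [← hq]; exact dvd_pow_self q (by omega))
    have h3 : 1 ≤ q ^ n := Nat.one_le_pow _ _ (by omega)
    have h4 := (Nat.dvd_sub_iff_right h3 h2).1 h1
    exact hr.one_lt.ne' (Nat.dvd_one.1 h4)
  have iso : ∀ (x : Matrix.ProjectiveSpecialLinearGroup (Fin n) F) (r : ℕ), r.Prime → r ∣ R → r ∣ orderOf x →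
      orderOf x ∣ R := by
    intro x r hr hrR hrx
    obtain ⟨-, hrp, hra⟩ := hprime r hr hrR
    obtain ⟨E, hE, hEn⟩ := top_psl hq hF hq3 (by omega) hr hrp hra x hrx
    have : E = R := by
      apply Nat.eq_of_mul_eq_mul_right hwp
      rw [hEn, hR]
    rwa [← this]
  have elt : ∃ x : Matrix.ProjectiveSpecialLinearGroup (Fin n) F, orderOf x = R := by
    obtain ⟨x, hx⟩ := exists_top (F := F) (n := n) (by omega)
    rw [Nat.card_eq_fintype_card, hF, ← hua, hR, mul_assoc] at hx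
    have h1 : R ∣ orderOf x := Nat.dvd_of_mul_dvd_mul_right hwp hx
    obtain ⟨r, hr, hrR⟩ := Nat.exists_prime_and_dvd (n := R) (by omega)
    exact ⟨x, Nat.dvd_antisymm (iso x r hr hrR (hrR.trans h1)) h1⟩
  refine NoCross.congr (noCross_of (L := L) hP.nc ?_ ?_ ?_ (fun r hr hrR => (hprime r hr hrR).1) hcoq ?_ ?_ ?_ ?_ ?_)
    (MulEquiv.refl L)
  · intro y
    have h1 : orderOf (e y) = orderOf y := orderOf_injective e.toMonoidHom e.injective y
    rw [← h1]
    exact window_psl hq hF hp2 hnp (by omega) (e y)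
  · intro x r hr hrR hrx
    have h1 : orderOf (e x) = orderOf x := orderOf_injective e.toMonoidHom e.injective x
    rw [← h1] at hrx ⊢
    exact iso (e x) r hr hrR hrx
  · obtain ⟨x, hx⟩ := elt
    exact ⟨e.symm x, by rw [← hx]; exact orderOf_injective e.symm.toMonoidHom e.symm.injective x⟩
  · intro h1; omega
  · intro h1; omega
  · intro h1; omega
  · intro h1; omega
  · intro h1; omega

/-- **`PSU_5(q)`.** -/
theorem noCross_psu5 {p f : ℕ} (hp : p.Prime) (hp2 : p ≠ 2) {L : Type w} [Group L] [Finite L]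
    (hL : Fam.Is p f L (.psu 5)) : NoCross.{u, w} p L := by
  have hfp := Fact.mk hp
  have hcoq : Coq3 L := coq3_of_classes (t := .psu 5) trivial hp hL hp2 (i := 4) (j := 3) (k := 5) (by norm_num)
    (by norm_num) (by norm_num) (show 4 ≤ 5 by norm_num) (show 3 ≤ 5 by norm_num) (show 5 ≤ 5 by norm_num)
    ⟨by norm_num, by norm_num, by norm_num⟩ ⟨by norm_num, by norm_num, by norm_num⟩
    ⟨by norm_num, by norm_num, by norm_num⟩ (by norm_num) (by norm_num)
  obtain ⟨-, -, F, _, _, _, hF, ⟨e0⟩⟩ := hL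
  have e : L ≃* PSU 5 F (p ^ f) := e0
  clear e0
  have hnp : Nat.Prime 5 := by norm_num
  have hf : f ≠ 0 := by
    rintro rfl
    have := Fintype.one_lt_card (α := F)
    rw [hF] at this
    simp at this
  generalize hq : p ^ f = q at hF e
  replace hq := hq.symm
  have hq3 : 3 ≤ q := by
    have h1 := Nat.le_self_pow hf p
    have h2 := hp.two_le
    omega
  have ht := (par_minus hq3).ht
  obtain ⟨R, hR⟩ := gcd_mul_dvd_ua (s := -(q : ℤ)) (n := 5) ht
  rw [mul_comm] at hR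
  have hua : ua (-(q : ℤ)) 5 = q ^ 5 + 1 := ua_minus_odd (by decide)
  have hR0 : 0 < R := by
    rcases Nat.eq_zero_or_pos R with h | h
    · exfalso
      rw [h, zero_mul] at hR
      omega
    · exact h
  have hP : MNum p q (Nat.gcd 5 (q + 1)) (Nat.gcd 5 (q + 1) * (q + 1)) R :=
    ⟨hp, hp2, ⟨f, by omega, hq⟩, rfl, rfl, by rw [← hR, hua]⟩
  have hwp := hP.w_pos
  have hbig := hP.big
  have hprime : ∀ r : ℕ, r.Prime → r ∣ R → 7 < r ∧ r ≠ p ∧ orderOf (-(q : ZMod r)) = 5 := by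
    intro r hr hrR
    have h0 := lt_of_dvd_iso hnp (by norm_num) ht (by omega) hR.symm hR0 hr hrR
    refine ⟨h0.1, ?_, ?_⟩
    · rintro rfl
      have h1 : r ∣ q ^ 5 + 1 := by
        rw [← hua, hR]
        exact hrR.mul_right _
      have h2 : r ∣ q ^ 5 := (dvd_pow_self r hf).trans (by rw [← hq]; exact dvd_pow_self q (by omega))
      have h4 := (Nat.dvd_add_right h2).1 h1
      exact hr.one_lt.ne' (Nat.dvd_one.1 h4)
    · have h1 := h0.2
      push_cast at h1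
      exact h1
  have hRe : R = (Cfsg.Agent.H364.Unitary.sg q 5).natAbs / Nat.gcd 5 (q + 1) := by
    have h1 := Cfsg.Agent.H437.Win.sg_natAbs (q := q) (n := 5) (by decide)
    have h2 : R * Nat.gcd 5 (q + 1) = (Cfsg.Agent.H364.Unitary.sg q 5).natAbs := by
      apply Nat.eq_of_mul_eq_mul_right (show 0 < q + 1 by omega)
      rw [h1, ← hua, hR]
      ring
    rw [← h2, Nat.mul_div_cancel _ hP.c_pos]
  have iso : ∀ (x : PSU 5 F q) (r : ℕ), r.Prime → r ∣ R → r ∣ orderOf x → orderOf x ∣ R := by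
    intro x r hr hrR hrx
    obtain ⟨-, hrp, hra⟩ := hprime r hr hrR
    rw [hRe]
    refine Cfsg.Agent.H364.Unitary.psu_orderOf_dvd hF hr ?_ (by omega) (by omega) hra hrx
    intro h0
    have h1 := (CharP.cast_eq_zero_iff F p r).1 h0
    exact hrp ((Nat.prime_dvd_prime_iff_eq hp hr).1 h1).symm
  have elt : ∃ x : PSU 5 F q, orderOf x = R := by
    obtain ⟨x, hx⟩ := Cfsg.Agent.H364.UTorus.exists_psu_orderOf hF (n := 5) (by decide) (by omega)
    have h1 : (q ^ 5 + 1) / (q + 1) = R * Nat.gcd 5 (q + 1) := by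
      rw [← hua, hR]
      rw [show R * (Nat.gcd 5 (q + 1) * (q + 1)) = R * Nat.gcd 5 (q + 1) * (q + 1) by ring]
      exact Nat.mul_div_cancel _ (by omega)
    rw [h1] at hx
    have h2 : R ∣ orderOf x := Nat.dvd_of_mul_dvd_mul_right hP.c_pos hx
    obtain ⟨r, hr, hrR⟩ := Nat.exists_prime_and_dvd (n := R) (by omega)
    exact ⟨x, Nat.dvd_antisymm (iso x r hr hrR (hrR.trans h2)) h2⟩
  have hcard := Cfsg.Agent.S0280.result (F := F) (q := q) hF 5 (by norm_num)
  have hce : Nat.card L = Nat.card (PSU 5 F q) := Nat.card_congr e.toEquiv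
  rw [← hce] at hcard
  have hnd : ∀ r : ℕ, r.Prime → (q = 3 ∧ (r = 13 ∨ r = 31)) ∨ (q = 9 ∧ r = 197) → ¬ r ∣ Nat.card L := by
    intro r hr hqr hd
    have h1 : r ∣ q ^ (5 * (5 - 1) / 2) * ∏ i ∈ Finset.range 5, (if Even i then q ^ (i + 1) + 1 else q ^ (i + 1) - 1) := by
      rw [← hcard]
      exact (hd.mul_left _).mul_left _
    have e0 : Even 0 := by decide
    have e1 : ¬ Even 1 := by decide
    have e2 : Even 2 := by decide
    have e3 : ¬ Even 3 := by decide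
    have e4 : Even 4 := by decide
    rw [Finset.prod_range_succ, Finset.prod_range_succ, Finset.prod_range_succ, Finset.prod_range_succ,
      Finset.prod_range_succ, Finset.prod_range_zero, if_pos e0, if_neg e1, if_pos e2, if_neg e3, if_pos e4] at h1
    rcases hqr with ⟨h3, h4 | h4⟩ | ⟨h3, h4⟩
    · rw [h3, h4] at h1; norm_num at h1
    · rw [h3, h4] at h1; norm_num at h1
    · rw [h3, h4] at h1; norm_num at h1
  refine NoCross.congr (noCross_of (L := L) hP.nc ?_ ?_ ?_ (fun r hr hrR => (hprime r hr hrR).1) hcoq ?_ ?_ ?_ ?_ ?_)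
    (MulEquiv.refl L)
  · intro y
    have h1 : orderOf (e y) = orderOf y := orderOf_injective e.toMonoidHom e.injective y
    rw [← h1]
    exact window_psu hq hq3 hp2 hnp (by omega) (e y)
  · intro x r hr hrR hrx
    have h1 : orderOf (e x) = orderOf x := orderOf_injective e.toMonoidHom e.injective x
    rw [← h1] at hrx ⊢
    exact iso (e x) r hr hrR hrx
  · obtain ⟨x, hx⟩ := elt
    exact ⟨e.symm x, by rw [← hx]; exact orderOf_injective e.symm.toMonoidHom e.symm.injective x⟩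
  · intro h1
    exact hnd 13 (by norm_num) (Or.inl ⟨by omega, Or.inl rfl⟩)
  · intro h1
    exact hnd 31 (by norm_num) (Or.inl ⟨by omega, Or.inr rfl⟩)
  · intro h1
    exact hnd 197 (by norm_num) (Or.inr ⟨by (clear * - hbig h1; omega), rfl⟩)
  · intro h1; omega
  · intro h1; omega

end Cfsg.Agent.R2.Spec.X7
end
end

-- part: R2/Spec/X5/Minus8_mg
section
prune_inst 0x4006040400182000800000096110020041400000000200001e800010c0800c30a880201000c8010020008b08010000000000000f00040000004003400000200208880160060c0000cc60007800084000000000000000000000000000000000004000000000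
set_option linter.all false
open scoped Cfsg.Agent.FastGrp

-- part: R2/Spec/X5/Minus8
section
/-!
# Team T3 (S3435), box X5: groups isospectral to `PΩ₈⁻(q)`, `q` odd (helper12)

`GHyp p q L` holds, so the frame of H202.T applies.
-/

set_option autoImplicit false
set_option linter.unusedSectionVars false

namespace Cfsg.Agent.R2.Spec.X5

open Cfsg Cfsg.Agent.H202.T Cfsg.Agent.H426.LieFam Cfsg.Agent.OrdDiv Cfsg.Agent.H436 Cfsg.Agent.H420.QR

universe u v w

section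

variable {F : Type w} [Field F] [Fintype F] {a b : F}

/-- an element order of `PΩ₈⁻(q)` is one of `Ω₉(q)` -/
theorem minus_to_nine (hodd : Odd (Fintype.card F))
    (hab : ∀ z₁ z₂ : F, z₁ ^ 2 + a * z₁ * z₂ + b * z₂ ^ 2 = 0 → z₁ = 0 ∧ z₂ = 0)
    (x : Cfsg.POmega F (Cfsg.quadFormMinus 3 F a b)) :
    ∃ y : Cfsg.POmega F (Cfsg.quadFormOdd 4 F), orderOf y = orderOf x := by
  obtain ⟨z, rfl⟩ := QuotientGroup.mk_surjective x
  have h1 : orderOf (QuotientGroup.mk z : Cfsg.POmega F (Cfsg.quadFormMinus 3 F a b)) ∣ orderOf z :=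
    orderOf_map_dvd (QuotientGroup.mk' _) z
  have h2 := S2517.result hodd a b hab
  have h3 := Set.ext_iff.1 h2 (orderOf z)
  obtain ⟨y, hy⟩ := h3.2 ⟨SemidirectProduct.inr z, orderOf_injective SemidirectProduct.inr
    SemidirectProduct.inr_injective z⟩
  have : Finite (Cfsg.POmega F (Cfsg.quadFormOdd 4 F)) := inferInstance
  rw [← hy] at h1
  obtain ⟨k, hk⟩ := h1
  refine ⟨y ^ k, ?_⟩
  have h4 : 0 < orderOf y := (orderOf_pos y :)
  have hk0 : k ≠ 0 := by rintro rfl; omega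
  rw [orderOf_pow_of_dvd hk0 ⟨_, hk.trans (mul_comm _ _)⟩, hk, Nat.mul_div_cancel _ (Nat.pos_of_ne_zero hk0)]

theorem ghyp_ominus (hodd : Odd (Fintype.card F)) (p : ℕ) [hp : Fact p.Prime] [CharP F p]
    (hab : ∀ z₁ z₂ : F, z₁ ^ 2 + a * z₁ * z₂ + b * z₂ ^ 2 = 0 → z₁ = 0 ∧ z₂ = 0) :
    GHyp p (Fintype.card F) (Cfsg.POmega F (Cfsg.quadFormMinus 3 F a b)) := by
  obtain ⟨h1, h2, h3⟩ := char_facts hodd p
  have hq : 1 ≤ Fintype.card F := Fintype.card_pos
  have key : ∀ r : ℕ, r.Prime → r ≠ 2 → r ∣ (Fintype.card F ^ 4 - 1) * (Fintype.card F ^ 6 - 1) →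
      r ∣ Nat.card (Cfsg.POmega F (Cfsg.quadFormMinus 3 F a b)) := by
    intro r hr hr2 hd
    have h4 := S0294.result (F := F) rfl 4 le_rfl a b hab
    have h5 : r ∣ Nat.gcd 4 (Fintype.card F ^ 4 + 1) *
        Nat.card (Cfsg.POmega F (Cfsg.quadFormMinus (4 - 1) F a b)) := by
      rw [h4]
      refine Dvd.dvd.mul_left (hd.trans ?_) _
      simp only [Finset.prod_range_succ, Finset.prod_range_zero]
      norm_num only [_root_.one_mul]
      refine ⟨Fintype.card F ^ 2 - 1, by ring⟩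
    rcases hr.dvd_mul.1 h5 with h6 | h6
    · have h7 : r ∣ 2 ^ 2 := h6.trans (Nat.gcd_dvd_left _ _)
      exact absurd ((Nat.prime_dvd_prime_iff_eq hr Nat.prime_two).1 (hr.dvd_of_dvd_pow h7)) hr2
    · exact h6
  have e6 : Fintype.card F ^ 3 - 1 ∣ Fintype.card F ^ 6 - 1 := cube_sub_dvd
  have e6' : Fintype.card F ^ 3 + 1 ∣ Fintype.card F ^ 6 - 1 := cube_add_dvd
  refine ⟨h1, h2, h3, ?_, ?_, ?_, ?_, ?_⟩
  · intro x
    obtain ⟨y, hy⟩ := minus_to_nine hodd hab x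
    rw [← hy]
    exact H104.UpNine.up9 hodd y
  · have h4 : Cfsg.Agent.H377.Elt F 4 (-1) (mm (Fintype.card F)) := by
      refine H377.elt_tor_minus (by norm_num) ?_
      rw [Nat.card_eq_fintype_card]
      exact ⟨2, by rw [mul_comm]; exact (two_mm hodd).symm⟩
    exact H377.Elt2.minus (m := 4) le_rfl hab (H377.Elt.two (by norm_num) (mm_odd hodd) h4)
  · intro r hr hr2 hd
    refine key r hr hr2 (Dvd.dvd.mul_left (Dvd.dvd.trans ?_ e6) _)
    rw [Cfsg.Agent.H202.T.cube_sub_eq hq]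
    exact Dvd.dvd.mul_left (by rwa [show Fintype.card F * (Fintype.card F + 1) + 1 =
      Fintype.card F ^ 2 + Fintype.card F + 1 by ring]) _
  · intro r hr hr2 hd
    refine key r hr hr2 (Dvd.dvd.mul_left (Dvd.dvd.trans ?_ e6') _)
    rw [Cfsg.Agent.H202.T.cube_add_eq hq]
    refine Dvd.dvd.mul_left ?_ _
    rwa [show Fintype.card F * (Fintype.card F - 1) = Fintype.card F ^ 2 - Fintype.card F by
      rw [pow_two, Nat.mul_sub_one]]
  · intro r hr hr2 hd
    refine key r hr hr2 (Dvd.dvd.mul_right (Dvd.dvd.trans hd ?_) _)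
    rw [four_eq]
    exact dvd_mul_right _ _

end

/-- **Groups isospectral to `PΩ₈⁻(q)`, `q` odd.** -/
theorem main_minus {F : Type w} [Field F] [Fintype F] (hodd : Odd (Fintype.card F)) {a b : F}
    (hab : ∀ z₁ z₂ : F, z₁ ^ 2 + a * z₁ * z₂ + b * z₂ ^ 2 = 0 → z₁ = 0 ∧ z₂ = 0) {p f : ℕ} (hp : p.Prime)
    (hf : Fintype.card F = p ^ f) {L : Type v} [Group L] [Finite L] (hadj : AdjFacts (.ominus 4) p f L)
    (e : L ≃* Cfsg.POmega F (Cfsg.quadFormMinus 3 F a b)) : SpecQR.{u, v} L := by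
  classical
  intro G _ _ h
  obtain ⟨p', hpc⟩ := CharP.exists F
  have hp' : p'.Prime := CharP.char_is_prime F p'
  have hpf := Fact.mk hp'
  obtain rfl : p = p' := by
    obtain ⟨n, -, hn⟩ := FiniteField.card F p'
    have h1 : p ∣ p' ^ (n : ℕ) := by
      rw [← hn, hf]
      refine dvd_pow_self p ?_
      rintro rfl
      have := Fintype.one_lt_card (α := F)
      rw [hf, pow_zero] at this
      omega
    exact (Nat.prime_dvd_prime_iff_eq hp hp').1 (hp.dvd_of_dvd_pow h1)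
  have hp2 : p ≠ 2 := (char_facts hodd p).2.1
  have hL : GHyp p (Fintype.card F) L := (ghyp_ominus hodd p hab).congr e.symm
  have hG : GHyp p (Fintype.card F) G := hL.of_spec h
  obtain ⟨K, hK, S, hS, hR, hT⟩ := frame hG
  obtain ⟨g, hg⟩ := hR.named
  rcases cases_of_T4 hT hg with rfl | rfl | rfl | ⟨hp3, hq3, rfl⟩
  · -- `PSp₈(q)`
    exfalso
    obtain ⟨F', _, _, hF', ⟨e'⟩⟩ := hg.real
    obtain ⟨σ⟩ := exists_ringEquiv hF'
    have e2 : ↥S ≃* PSp 4 F := e'.trans (LieClassical.FieldTransfer.pspCongr 4 σ)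
    obtain ⟨x, hx⟩ := sp_add (F := F) hodd p
    have hx' : ∃ y : ↥S, orderOf y = p * (Fintype.card F ^ 3 + 1) := ⟨e2.symm x, by rw [MulEquiv.orderOf_eq, hx]⟩
    have h1 : ∃ y : G, orderOf y = p * (Fintype.card F ^ 3 + 1) :=
      hR.adj p (Fintype.card F ^ 3 + 1) hp.ne_zero (by omega) hx'
    obtain ⟨y, hy⟩ := (exists_of_range h _).1 h1
    obtain ⟨z, hz⟩ := minus_to_nine hodd hab (e y)
    exact (H104.UpNine.no9 (F := F) hodd (p := p)).1 ⟨z, by rw [hz, MulEquiv.orderOf_eq, hy]⟩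
  · -- `Ω₉(q)`
    exfalso
    obtain ⟨F', _, _, hF', ⟨e'⟩⟩ := hg.real
    obtain ⟨σ⟩ := exists_ringEquiv hF'
    obtain ⟨e1⟩ := UGT.U2.Rec.Congr.nonempty_POmegaOdd σ 4
    have e2 : ↥S ≃* POmega F (quadFormOdd 4 F) := e'.trans e1
    obtain ⟨r8, r6, r3, r4, p8, p6, p3, p4, d8, d6, d3, d4, n6, n3, n4⟩ := hG.exists_primes
    obtain ⟨a1, a2, a3, a4⟩ := three_facts hodd p3 n3 d3
    have hrp : r3 ≠ p := by rintro rfl; exact a1 hG.dvd
    -- the class of `r3`
    have hcls : cls (.ominus 4) (p ^ f) r3 = 3 := by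
      have h1 : cls (.ominus 4) (p ^ f) r3 = P1.co (Fintype.card F) r3 := by
        rw [hf]
        exact P1.cls_eq_co (by intro n; simp) _ _
      rw [h1]
      unfold P1.co
      have hr3f := Fact.mk p3
      have h2 : ((Fintype.card F : ℕ) : ZMod r3) ^ 3 = 1 := by
        have h3 : r3 ∣ Fintype.card F ^ 3 - 1 := by
          rw [Cfsg.Agent.H202.T.cube_sub_eq Fintype.card_pos]
          exact Dvd.dvd.mul_left (by rwa [show Fintype.card F * (Fintype.card F + 1) + 1 =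
            Fintype.card F ^ 2 + Fintype.card F + 1 by ring]) _
        rw [← ZMod.natCast_eq_zero_iff, Nat.cast_sub (Nat.one_le_pow _ _ Fintype.card_pos)] at h3
        push_cast at h3
        exact sub_eq_zero.1 h3
      refine orderOf_eq_prime h2 ?_
      intro h4
      apply a2
      rw [← ZMod.natCast_eq_zero_iff, Nat.cast_sub (Nat.one_le_pow _ _ Fintype.card_pos)]
      push_cast
      rw [h4]
      ring
    have h2F : (2 : F) ≠ 0 := H104.UpNine.two_ne hodd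
    have hd3 : r3 ∣ Nat.card L := hL.d3 r3 p3 a4 d3
    have hmem : mem (.ominus 4) (cls (.ominus 4) (p ^ f) r3) := by
      refine (hadj.dvd r3 p3 a4 ?_ ?_).1 hd3
      · exact fun h => hrp ((Nat.prime_dvd_prime_iff_eq p3 hp).1 h)
      · rw [hcls]
    have hno : ¬ ∃ x : L, orderOf x = r3 * p := by
      rw [hadj.adjp r3 p3 a4 (fun h => hrp ((Nat.prime_dvd_prime_iff_eq p3 hp).1 h)) (by rw [hcls]) hmem, hcls,
        not_not]
      change 4 < eta 3 + 2
      decide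
    -- but `Ω₉(q)` has elements of order `r3 p`
    have hyes : ∃ x : ↥S, orderOf x = r3 * p := by
      have hch : CharP F' p := charP_of_card_eq_prime_pow (f := f) (by rw [hF', hf])
      have hFam : Fam.Is p f ↥S (.oodd 4) :=
        ⟨by norm_num, by rw [← hf]; exact hodd, F', inferInstance, inferInstance, hch, by rw [hF', hf], ⟨e'⟩⟩
      have hcls' : cls (.oodd 4) (p ^ f) r3 = 3 := hcls
      refine ((P1.oodd hp hFam).adjp r3 p3 a4 (fun h => hrp ((Nat.prime_dvd_prime_iff_eq p3 hp).1 h)) ?_ ?_).2 ?_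
      · rw [hcls']
      · rw [hcls']
        change eta 3 ≤ 4
        decide
      · rw [hcls']
        change ¬ 4 < eta 3 + 1
        decide
    obtain ⟨y, hy⟩ := hR.adj r3 p p3.ne_zero hp.ne_zero hyes
    exact hno ((exists_of_range h _).1 ⟨y, hy⟩)
  · -- `PΩ₈⁻(q)`
    obtain ⟨F', _, _, a', b', hF', hab', ⟨e'⟩⟩ := hg.real
    obtain ⟨σ⟩ := exists_ringEquiv hF'
    obtain ⟨e1⟩ := UGT.U2.Rec.Congr.nonempty_POmega σ (quadFormMinus_map σ 3 a' b')
    have h1 : ∀ z₁ z₂ : F, z₁ ^ 2 + σ a' * z₁ * z₂ + σ b' * z₂ ^ 2 = 0 → z₁ = 0 ∧ z₂ = 0 := by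
      intro z₁ z₂ hz
      have h5 := congrArg σ.symm hz
      simp only [map_add, map_mul, map_pow, RingEquiv.symm_apply_apply, map_zero] at h5
      obtain ⟨h6, h7⟩ := hab' _ _ h5
      exact ⟨by simpa using h6, by simpa using h7⟩
    obtain ⟨e2⟩ := H902.Iso.minus_congr 3 (a := σ a') (b := σ b') (a' := a) (b' := b) h1 hab
    exact hR.quasi (L := L) ⟨(e'.trans e1).trans (e2.trans e.symm)⟩
  · -- `PSL_2(41)`
    exfalso
    obtain ⟨F', _, _, hF', ⟨e'⟩⟩ := hg.real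
    refine H229.T.no_forty_one (F := F') hF' hR.cent e' ?_ ?_ ?_
    · rw [hp3, hq3] at hG
      exact hG.om
    · rw [hp3, hq3] at hG
      exact hG.d3 13 (by norm_num) (by norm_num) (by norm_num)
    · exact fun ρ h1 h2 h3 => hR.coc' ρ ⟨h1, h2, h3⟩

end Cfsg.Agent.R2.Spec.X5
end

-- part: R2/Spec/X7/U7/Eq
section
/-!
# The equations for the special numbers of `PSU_7(q)` (helper27)

`K = q ^ 7 + 1`; special numbers `D1 = q⁴ - q³ - 2`, `D2 = q⁶ - q - 2`, `D3 = q⁶ + q² + q - 1`, `X = q⁵ - q² + 2`.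
-/

set_option autoImplicit false

namespace Cfsg.Agent.R2.Spec.X7.U7

/-- `D u - K` is not small -/
theorem gapE {D K m r u : ℤ} (hD : 0 < D) (hK : K = D * m + r) (hr : 0 ≤ r) (h : K < D * u) :
    D - r ≤ D * u - K ∧ m + 1 ≤ u := by
  have h1 : m < u := by
    have h2 : D * m < D * u := by linarith
    exact lt_of_mul_lt_mul_left h2 hD.le
  have h3 : D * (m + 1) ≤ D * u := mul_le_mul_of_nonneg_left (by omega) hD.le
  exact ⟨by linarith, by omega⟩

/-- `K - D u` is not small -/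
theorem gapO {D K m r u : ℤ} (hD : 0 < D) (hK : K = D * m + r) (hr : r < D) (h : D * u < K) :
    u ≤ m ∧ D * (m - u) + r = K - D * u := by
  have h1 : u < m + 1 := by
    have h2 : D * u < D * (m + 1) := by linarith
    exact lt_of_mul_lt_mul_left h2 hD.le
  exact ⟨by omega, by rw [hK]; ring⟩

/-- `PSU_m`, even -/
theorem eqE {D K u z : ℤ} (hD : 0 < D) (hK : 2 * D ≤ K) (hu : 2 ≤ u) (hz : u ^ 5 ≤ z)
    (h : D * (u * z - 1) = K * (z + u + 2)) (hgap : K < D * u → D ≤ 10 * (D * u - K)) : False := by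
  have hz0 : 0 < z := lt_of_lt_of_le (by positivity) hz
  have h1 : z * (D * u - K) = D + K * (u + 2) := by linear_combination h
  have h2 : 0 < D * u - K := by
    by_contra hcon
    have h3 : z * (D * u - K) ≤ 0 := mul_nonpos_of_nonneg_of_nonpos hz0.le (not_lt.1 hcon)
    have h4 : 0 < K * (u + 2) := mul_pos (by linarith) (by linarith)
    linarith
  have h3 : u ≠ 2 := by
    rintro rfl
    linarith
  have h4 := hgap (by linarith)
  have h5 : D + K * (u + 2) < D * (u + 1) ^ 2 := by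
    have : K * (u + 2) < D * u * (u + 2) := mul_lt_mul_of_pos_right (by linarith) (by linarith)
    linarith only [this]
  have h6 : D * u ^ 5 ≤ 10 * (z * (D * u - K)) := by
    calc D * u ^ 5 ≤ D * z := mul_le_mul_of_nonneg_left hz hD.le
      _ = z * D := mul_comm _ _
      _ ≤ z * (10 * (D * u - K)) := mul_le_mul_of_nonneg_left h4 hz0.le
      _ = _ := by ring
  have h7 : D * u ^ 5 < D * (10 * (u + 1) ^ 2) := by
    rw [h1] at h6
    linarith
  have h8 := lt_of_mul_lt_mul_left h7 hD.le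
  obtain ⟨b, rfl⟩ : ∃ b : ℕ, u = b + 3 := ⟨(u - 3).toNat, by omega⟩
  refine absurd h8 (not_lt.2 (pos_le ?_))
  clear * -
  ring_nf
  positivity

/-- second row of `PSL_m` -/
theorem eqM {D K v z : ℤ} (hD : 0 < D) (hK : 0 < K) (hv : 2 ≤ v) (hz : (v + 1) ^ 4 ≤ z)
    (h : D * (v * (z - 1)) = K * (z + v - 1)) (hgap : K < D * v → D ≤ 10 * (D * v - K)) : False := by
  have hz0 : 0 < z := lt_of_lt_of_le (by positivity) hz
  have h1 : z * (D * v - K) = D * v + K * (v - 1) := by linear_combination h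
  have h2 : 0 < D * v - K := by
    by_contra hcon
    have h3 : z * (D * v - K) ≤ 0 := mul_nonpos_of_nonneg_of_nonpos hz0.le (not_lt.1 hcon)
    have h4 : 0 < K * (v - 1) := mul_pos hK (by linarith)
    have h5 : 0 < D * v := mul_pos hD (by linarith)
    linarith
  have h4 := hgap (by linarith)
  have h5 : D * v + K * (v - 1) < D * v ^ 2 := by
    have : K * (v - 1) < D * v * (v - 1) := mul_lt_mul_of_pos_right (by linarith) (by linarith)
    linarith only [this]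
  have h6 : D * (v + 1) ^ 4 ≤ 10 * (z * (D * v - K)) := by
    calc D * (v + 1) ^ 4 ≤ D * z := mul_le_mul_of_nonneg_left hz hD.le
      _ = z * D := mul_comm _ _
      _ ≤ z * (10 * (D * v - K)) := mul_le_mul_of_nonneg_left h4 hz0.le
      _ = _ := by ring
  have h7 : D * (v + 1) ^ 4 < D * (10 * v ^ 2) := by
    rw [h1] at h6
    linarith
  have h8 := lt_of_mul_lt_mul_left h7 hD.le
  obtain ⟨b, rfl⟩ : ∃ b : ℕ, v = b + 2 := ⟨(v - 2).toNat, by omega⟩
  refine absurd h8 (not_lt.2 (pos_le ?_))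
  clear * -
  ring_nf
  positivity

/-- `PSU_m`, odd -/
theorem eqO {D K u z : ℤ} (hD : 0 < D) (hK : 0 < K) (hu : 2 ≤ u) (hz : u ^ 3 ≤ z) (hz2 : 61 ≤ u * z + 1)
    (h : D * (u * z + 1) = K * (z - u - 2)) (hgap : D * u < K → 19 * D ≤ 20 * (K - D * u)) : False := by
  have hz0 : 0 < z := lt_of_lt_of_le (by positivity) hz
  have h1 : z * (K - D * u) = D + K * (u + 2) := by linear_combination -h
  have h2 : 0 < K - D * u := by
    by_contra hcon
    have h3 : z * (K - D * u) ≤ 0 := mul_nonpos_of_nonneg_of_nonpos hz0.le (not_lt.1 hcon)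
    have h4 : 0 < K * (u + 2) := mul_pos hK (by linarith)
    linarith
  have h4 := hgap (by linarith)
  have h5 : (K - D * u) * (z - u - 2) = D * (u + 1) ^ 2 := by linear_combination -h
  have hzu : 0 < z - u - 2 := by
    by_contra hcon
    have h3 : (K - D * u) * (z - u - 2) ≤ 0 := mul_nonpos_of_nonneg_of_nonpos h2.le (not_lt.1 hcon)
    have h6 : 0 < D * (u + 1) ^ 2 := by positivity
    linarith
  have h6 : D * (19 * (z - u - 2)) ≤ D * (20 * (u + 1) ^ 2) := by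
    calc D * (19 * (z - u - 2)) = (19 * D) * (z - u - 2) := by ring
      _ ≤ (20 * (K - D * u)) * (z - u - 2) := mul_le_mul_of_nonneg_right h4 hzu.le
      _ = 20 * ((K - D * u) * (z - u - 2)) := by ring
      _ = _ := by rw [h5]; ring
  have h7 := le_of_mul_le_mul_left h6 hD
  rcases lt_or_ge u 3 with h8 | h8
  · obtain rfl : u = 2 := by omega
    norm_num at h7
    omega
  · obtain ⟨b, rfl⟩ : ∃ b : ℕ, u = b + 3 := ⟨(u - 3).toNat, by omega⟩
    have h9 : (0 : ℤ) < 19 * (((b : ℤ) + 3) ^ 3 - (b + 3) - 2) - 20 * ((b : ℤ) + 3 + 1) ^ 2 := by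
      clear * -
      ring_nf
      positivity
    linarith

section

variable {q : ℤ}

theorem D1_pos (hq : 3 ≤ q) : 0 < q ^ 4 - q ^ 3 - 2 := by
  obtain ⟨a, rfl⟩ : ∃ a : ℕ, q = a + 3 := ⟨(q - 3).toNat, by omega⟩
  clear * -; ring_nf; positivity

theorem D2_pos (hq : 3 ≤ q) : 0 < q ^ 6 - q - 2 := by
  obtain ⟨a, rfl⟩ : ∃ a : ℕ, q = a + 3 := ⟨(q - 3).toNat, by omega⟩
  clear * -; ring_nf; positivity

theorem D3_pos (hq : 3 ≤ q) : 0 < q ^ 6 + q ^ 2 + q - 1 := by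
  obtain ⟨a, rfl⟩ : ∃ a : ℕ, q = a + 3 := ⟨(q - 3).toNat, by omega⟩
  clear * -; ring_nf; positivity

theorem K_pos (hq : 3 ≤ q) : 0 < q ^ 7 + 1 := by positivity

theorem K1 : q ^ 7 + 1 = (q ^ 4 - q ^ 3 - 2) * (q ^ 3 + q ^ 2 + q + 1) + (3 * q ^ 3 + 2 * q ^ 2 + 2 * q + 3) := by ring

theorem K2 : q ^ 7 + 1 = (q ^ 6 - q - 2) * q + (q + 1) ^ 2 := by ring

theorem K3 : q ^ 7 + 1 = (q ^ 6 + q ^ 2 + q - 1) * (q - 1) + (q ^ 6 + q ^ 2 + q - 1 - (q + 1) ^ 2 * (q - 1)) := by ring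

theorem g1 (hq : 3 ≤ q) (hq4 : q ≠ 4) {u : ℤ} (h : q ^ 7 + 1 < (q ^ 4 - q ^ 3 - 2) * u) :
    q ^ 4 - q ^ 3 - 2 ≤ 10 * ((q ^ 4 - q ^ 3 - 2) * u - (q ^ 7 + 1)) := by
  rcases lt_or_ge q 5 with h5 | h5
  · obtain rfl : q = 3 := by omega
    norm_num only [] at h ⊢
    omega
  · have h1 := (gapE (D1_pos hq) K1 (by positivity) h).1
    obtain ⟨a, rfl⟩ : ∃ a : ℕ, q = a + 5 := ⟨(q - 5).toNat, by omega⟩
    have h2 : (0 : ℤ) ≤ 10 * (((a : ℤ) + 5) ^ 4 - (a + 5) ^ 3 - 2 - (3 * ((a : ℤ) + 5) ^ 3 + 2 * (a + 5) ^ 2 + 2 * (a + 5) + 3)) -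
        (((a : ℤ) + 5) ^ 4 - (a + 5) ^ 3 - 2) := by
      clear * -; ring_nf; positivity
    linarith

theorem g2 (hq : 3 ≤ q) {u : ℤ} (h : q ^ 7 + 1 < (q ^ 6 - q - 2) * u) :
    q ^ 6 - q - 2 ≤ 10 * ((q ^ 6 - q - 2) * u - (q ^ 7 + 1)) := by
  have h1 := (gapE (D2_pos hq) K2 (by positivity) h).1
  obtain ⟨a, rfl⟩ : ∃ a : ℕ, q = a + 3 := ⟨(q - 3).toNat, by omega⟩
  have h2 : (0 : ℤ) ≤ 10 * (((a : ℤ) + 3) ^ 6 - (a + 3) - 2 - ((a : ℤ) + 3 + 1) ^ 2) -
      (((a : ℤ) + 3) ^ 6 - (a + 3) - 2) := by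
    clear * -; ring_nf; positivity
  linarith

theorem g3 (hq : 3 ≤ q) {u : ℤ} (hu : u ≠ q) (h : q ^ 7 + 1 < (q ^ 6 + q ^ 2 + q - 1) * u) :
    q ^ 6 + q ^ 2 + q - 1 ≤ 10 * ((q ^ 6 + q ^ 2 + q - 1) * u - (q ^ 7 + 1)) := by
  have h0 : 0 ≤ q ^ 6 + q ^ 2 + q - 1 - (q + 1) ^ 2 * (q - 1) := by
    obtain ⟨a, rfl⟩ : ∃ a : ℕ, q = a + 3 := ⟨(q - 3).toNat, by omega⟩
    clear * -; ring_nf; positivity
  have h1 := (gapE (D3_pos hq) K3 h0 h).2
  have hD := D3_pos hq
  have h2 : (q ^ 6 + q ^ 2 + q - 1) * (q + 1) ≤ (q ^ 6 + q ^ 2 + q - 1) * u :=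
    mul_le_mul_of_nonneg_left (by omega) hD.le
  have h3 : (q ^ 6 + q ^ 2 + q - 1) * (q + 1) - (q ^ 7 + 1) = (q ^ 6 + q ^ 2 + q - 1) + (q + 1) ^ 2 * (q - 1) := by ring
  have h4 : 0 ≤ (q + 1) ^ 2 * (q - 1) := mul_nonneg (by positivity) (by omega)
  linarith

theorem o2 (hq : 3 ≤ q) {u : ℤ} (hu : u ≠ q) (h : (q ^ 6 - q - 2) * u < q ^ 7 + 1) :
    19 * (q ^ 6 - q - 2) ≤ 20 * (q ^ 7 + 1 - (q ^ 6 - q - 2) * u) := by
  have hD := D2_pos hq
  have hr : (q + 1) ^ 2 < q ^ 6 - q - 2 := by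
    obtain ⟨a, rfl⟩ : ∃ a : ℕ, q = a + 3 := ⟨(q - 3).toNat, by omega⟩
    refine pos_lt ?_
    clear * -; ring_nf; positivity
  obtain ⟨h1, h2⟩ := gapO hD K2 hr h
  have h3 : (q ^ 6 - q - 2) * 1 ≤ (q ^ 6 - q - 2) * (q - u) := mul_le_mul_of_nonneg_left (by omega) hD.le
  have h4 := sq_nonneg (q + 1)
  linarith

theorem o3 (hq : 3 ≤ q) {u : ℤ} (h : (q ^ 6 + q ^ 2 + q - 1) * u < q ^ 7 + 1) :
    19 * (q ^ 6 + q ^ 2 + q - 1) ≤ 20 * (q ^ 7 + 1 - (q ^ 6 + q ^ 2 + q - 1) * u) := by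
  have hD := D3_pos hq
  have hr : q ^ 6 + q ^ 2 + q - 1 - (q + 1) ^ 2 * (q - 1) < q ^ 6 + q ^ 2 + q - 1 := by
    have : 0 < (q + 1) ^ 2 * (q - 1) := mul_pos (by positivity) (by omega)
    linarith
  obtain ⟨h1, h2⟩ := gapO hD K3 hr h
  have h3 : 0 ≤ (q ^ 6 + q ^ 2 + q - 1) * (q - 1 - u) := mul_nonneg hD.le (by omega)
  have h4 : 20 * ((q + 1) ^ 2 * (q - 1)) ≤ q ^ 6 + q ^ 2 + q - 1 := by
    obtain ⟨a, rfl⟩ : ∃ a : ℕ, q = a + 3 := ⟨(q - 3).toNat, by omega⟩
    refine pos_le ?_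
    clear * -; ring_nf; positivity
  linarith

/-- `D1`, `PSU_m`, `m` odd -/
theorem o1 (hq : 3 ≤ q) (hq4 : q ≠ 4) {u z : ℤ} (hu : 2 ≤ u) (hz : u ^ 3 ≤ z) (hz2 : 61 ≤ u * z + 1)
    (h : (q ^ 4 - q ^ 3 - 2) * (u * z + 1) = (q ^ 7 + 1) * (z - u - 2)) : False := by
  have hD := D1_pos hq
  rcases lt_or_ge q 5 with h5 | h5
  · obtain rfl : q = 3 := by omega
    norm_num at h hD
    by_cases h42 : u = 42
    · subst h42
      norm_num at hz
      omega
    · refine eqO (D := 52) (K := 2188) (by norm_num) (by norm_num) hu hz hz2 h fun h1 => ?_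
      (clear * - h42 h1; omega)
  · by_cases hum : u = q ^ 3 + q ^ 2 + q + 1
    · have h6 : (3 * q ^ 3 + 2 * q ^ 2 + 2 * q + 3) * (z - u - 2) = (q ^ 4 - q ^ 3 - 2) * (u + 1) ^ 2 := by
        have hK := K1 (q := q)
        rw [← hum] at hK
        rw [hK] at h
        linear_combination -h
      have h7 : (3 * q ^ 3 + 2 * q ^ 2 + 2 * q + 3) * (u ^ 3 - u - 2) ≤
          (3 * q ^ 3 + 2 * q ^ 2 + 2 * q + 3) * (z - u - 2) :=
        mul_le_mul_of_nonneg_left (by linarith) (by positivity)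
      rw [h6, hum] at h7
      refine absurd h7 (not_le.2 (pos_lt ?_))
      obtain ⟨a, rfl⟩ : ∃ a : ℕ, q = a + 5 := ⟨(q - 5).toNat, by omega⟩
      clear * -; ring_nf; (clear * -; positivity)
    · refine eqO hD (K_pos hq) hu hz hz2 h fun h1 => ?_
      have hr : 3 * q ^ 3 + 2 * q ^ 2 + 2 * q + 3 < q ^ 4 - q ^ 3 - 2 := by
        obtain ⟨a, rfl⟩ : ∃ a : ℕ, q = a + 5 := ⟨(q - 5).toNat, by omega⟩
        refine pos_lt ?_
        clear * -; ring_nf; positivity
      obtain ⟨h2, h3⟩ := gapO hD K1 hr h1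
      have h4 : (q ^ 4 - q ^ 3 - 2) * 1 ≤ (q ^ 4 - q ^ 3 - 2) * (q ^ 3 + q ^ 2 + q + 1 - u) :=
        mul_le_mul_of_nonneg_left (by omega) hD.le
      have h5 : 0 ≤ 3 * q ^ 3 + 2 * q ^ 2 + 2 * q + 3 := by positivity
      linarith

/-- `D3`, second row of `PSL_m`, `v = q` -/
theorem m3q (hq : 3 ≤ q) (hq6 : q ≠ 6) {z : ℤ} (hz : (q + 1) ∣ z)
    (h : (q ^ 6 + q ^ 2 + q - 1) * (q * (z - 1)) = (q ^ 7 + 1) * (z + q - 1)) : False := by
  have h1 : z * (q + 1) * (q - 1) = q ^ 7 - q ^ 6 + q ^ 5 - q ^ 4 + q ^ 3 + q - 1 := by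
    apply mul_left_cancel₀ (show q + 1 ≠ 0 by omega)
    linear_combination h
  have h2 : (q + 1) ∣ 7 := by
    have h3 : (7 : ℤ) = (q + 1) * (q ^ 6 - 2 * q ^ 5 + 3 * q ^ 4 - 4 * q ^ 3 + 5 * q ^ 2 - 5 * q + 6) -
        (q ^ 7 - q ^ 6 + q ^ 5 - q ^ 4 + q ^ 3 + q - 1) := by ring
    rw [h3, ← h1]
    exact dvd_sub (dvd_mul_right _ _) ((Dvd.intro_left z rfl).mul_right _)
  have h3 := Int.le_of_dvd (by norm_num) h2
  have h4 : q = 3 ∨ q = 4 ∨ q = 5 := by (clear * - hq hq6 h3; omega)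
  rcases h4 with rfl | rfl | rfl <;> norm_num at h2

/-- `PSU_3` -/
theorem eqT {D K u : ℤ} (h : D * (u ^ 2 - u + 1) = K * (u - 2)) : (u - 2) * (K - D * (u + 1)) = 3 * D := by
  linear_combination -h

theorem t2 (hq : 3 ≤ q) {u : ℤ} (hu : 9 ≤ u)
    (h : (q ^ 6 - q - 2) * (u ^ 2 - u + 1) = (q ^ 7 + 1) * (u - 2)) : False := by
  have hD := D2_pos hq
  have h1 := eqT h
  have h2 : 0 < q ^ 7 + 1 - (q ^ 6 - q - 2) * (u + 1) := by
    by_contra hcon
    have := mul_nonpos_of_nonneg_of_nonpos (show 0 ≤ u - 2 by omega) (not_lt.1 hcon)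
    linarith
  have h3 : 7 * (q ^ 7 + 1 - (q ^ 6 - q - 2) * (u + 1)) ≤ 3 * (q ^ 6 - q - 2) := by
    rw [← h1]
    exact mul_le_mul_of_nonneg_right (by omega) h2.le
  have hr : (q + 1) ^ 2 < q ^ 6 - q - 2 := by
    obtain ⟨a, rfl⟩ : ∃ a : ℕ, q = a + 3 := ⟨(q - 3).toNat, by omega⟩
    refine pos_lt ?_
    clear * -; ring_nf; positivity
  obtain ⟨h4, h5⟩ := gapO hD K2 hr (by linarith : (q ^ 6 - q - 2) * (u + 1) < q ^ 7 + 1)
  have h6 : q = u + 1 := by
    by_contra hne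
    have h7 : (q ^ 6 - q - 2) * 1 ≤ (q ^ 6 - q - 2) * (q - (u + 1)) := mul_le_mul_of_nonneg_left (by omega) hD.le
    have h8 := sq_nonneg (q + 1)
    linarith
  have h7 : (q - 3) * (q + 1) ^ 2 = 3 * (q ^ 6 - q - 2) := by
    rw [← h1, ← h5, ← h6]
    have : u - 2 = q - 3 := by omega
    rw [this]
    ring
  obtain ⟨a, rfl⟩ : ∃ a : ℕ, q = a + 3 := ⟨(q - 3).toNat, by omega⟩
  have h8 : (0 : ℤ) < 3 * (((a : ℤ) + 3) ^ 6 - (a + 3) - 2) - ((a : ℤ) + 3 - 3) * (a + 3 + 1) ^ 2 := by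
    clear * -; ring_nf; positivity
  linarith only [h7, h8]

theorem t3 (hq : 3 ≤ q) {u : ℤ} (hu : 9 ≤ u)
    (h : (q ^ 6 + q ^ 2 + q - 1) * (u ^ 2 - u + 1) = (q ^ 7 + 1) * (u - 2)) : False := by
  have hD := D3_pos hq
  have h1 := eqT h
  have h2 : 0 < q ^ 7 + 1 - (q ^ 6 + q ^ 2 + q - 1) * (u + 1) := by
    by_contra hcon
    have := mul_nonpos_of_nonneg_of_nonpos (show 0 ≤ u - 2 by omega) (not_lt.1 hcon)
    linarith
  have h3 : 7 * (q ^ 7 + 1 - (q ^ 6 + q ^ 2 + q - 1) * (u + 1)) ≤ 3 * (q ^ 6 + q ^ 2 + q - 1) := by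
    rw [← h1]
    exact mul_le_mul_of_nonneg_right (by omega) h2.le
  have h4 := o3 hq (by linarith : (q ^ 6 + q ^ 2 + q - 1) * (u + 1) < q ^ 7 + 1)
  linarith

theorem t1 (hq : 3 ≤ q) (hq4 : q ≠ 4) {u : ℤ} (hu : 9 ≤ u)
    (h : (q ^ 4 - q ^ 3 - 2) * (u ^ 2 - u + 1) = (q ^ 7 + 1) * (u - 2)) : q = 3 ∧ u = 41 := by
  have hD := D1_pos hq
  have h1 := eqT h
  have h2 : 0 < q ^ 7 + 1 - (q ^ 4 - q ^ 3 - 2) * (u + 1) := by
    by_contra hcon
    have := mul_nonpos_of_nonneg_of_nonpos (show 0 ≤ u - 2 by omega) (not_lt.1 hcon)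
    linarith
  have h3 : 7 * (q ^ 7 + 1 - (q ^ 4 - q ^ 3 - 2) * (u + 1)) ≤ 3 * (q ^ 4 - q ^ 3 - 2) := by
    rw [← h1]
    exact mul_le_mul_of_nonneg_right (by omega) h2.le
  rcases lt_or_ge q 5 with h5 | h5
  · obtain rfl : q = 3 := by omega
    norm_num only [_root_.Int.sub_pos] at h2 h3
    exact ⟨rfl, by (clear * - h2 h3; omega)⟩
  · exfalso
    have hr : 3 * q ^ 3 + 2 * q ^ 2 + 2 * q + 3 < q ^ 4 - q ^ 3 - 2 := by
      obtain ⟨a, rfl⟩ : ∃ a : ℕ, q = a + 5 := ⟨(q - 5).toNat, by omega⟩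
      refine pos_lt ?_
      clear * -; ring_nf; positivity
    obtain ⟨h6, h7⟩ := gapO hD K1 hr (by linarith : (q ^ 4 - q ^ 3 - 2) * (u + 1) < q ^ 7 + 1)
    have h8 : q ^ 3 + q ^ 2 + q + 1 = u + 1 := by
      by_contra hne
      have h7 : (q ^ 4 - q ^ 3 - 2) * 1 ≤ (q ^ 4 - q ^ 3 - 2) * (q ^ 3 + q ^ 2 + q + 1 - (u + 1)) :=
        mul_le_mul_of_nonneg_left (by omega) hD.le
      have h8 : 0 ≤ 3 * q ^ 3 + 2 * q ^ 2 + 2 * q + 3 := by positivity
      linarith
    rw [h8, sub_self, mul_zero, zero_add] at h7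
    rw [← h7] at h1
    have h9 : u = q ^ 3 + q ^ 2 + q := by linarith
    rw [h9] at h1
    obtain ⟨a, rfl⟩ : ∃ a : ℕ, q = a + 5 := ⟨(q - 5).toNat, by omega⟩
    have h10 : (0 : ℤ) < (((a : ℤ) + 5) ^ 3 + (a + 5) ^ 2 + (a + 5) - 2) *
        (3 * ((a : ℤ) + 5) ^ 3 + 2 * (a + 5) ^ 2 + 2 * (a + 5) + 3) - 3 * (((a : ℤ) + 5) ^ 4 - (a + 5) ^ 3 - 2) := by
      clear * -; ring_nf; positivity
    linarith only [h1, h10]

/-- `X = q⁵ - q² + 2`, `PSL_m(u)` -/
theorem eqL (hq : 3 ≤ q) {u z : ℤ} (hu : 2 ≤ u) (hz : z = u ^ 2 ∨ u ^ 3 ≤ z)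
    (h : (q ^ 5 - q ^ 2 + 2) * (u * z - 1) = (q ^ 7 + 1) * (z + u - 2)) : False := by
  have hX : 0 < q ^ 5 - q ^ 2 + 2 := by
    obtain ⟨a, rfl⟩ : ∃ a : ℕ, q = a + 3 := ⟨(q - 3).toNat, by omega⟩
    clear * -; ring_nf; positivity
  have hK : q ^ 7 + 1 = (q ^ 5 - q ^ 2 + 2) * q ^ 2 + (q ^ 2 - 1) ^ 2 := by ring
  have hz2 : u ^ 2 ≤ z := by
    rcases hz with hz | hz
    · exact hz.ge
    · exact le_trans (pow_le_pow_right₀ (by omega) (by norm_num)) hz
  have hzp : 0 < z + u - 2 := by nlinarith only [hu, hz2]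
  have h1 : ((q ^ 5 - q ^ 2 + 2) * u - (q ^ 7 + 1)) * (z + u - 2) = (q ^ 5 - q ^ 2 + 2) * (u - 1) ^ 2 := by
    linear_combination h
  have h2 : 0 < (q ^ 5 - q ^ 2 + 2) * u - (q ^ 7 + 1) := by
    by_contra hcon
    have h3 := mul_nonpos_of_nonpos_of_nonneg (not_lt.1 hcon) hzp.le
    have h4 : 0 < (q ^ 5 - q ^ 2 + 2) * (u - 1) ^ 2 := mul_pos hX (pow_pos (by omega) 2)
    linarith only [h, h3, h4]
  have hr : (q ^ 2 - 1) ^ 2 ≤ q ^ 5 - q ^ 2 + 2 := by
    obtain ⟨a, rfl⟩ : ∃ a : ℕ, q = a + 3 := ⟨(q - 3).toNat, by omega⟩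
    refine pos_le ?_
    clear * -; ring_nf; positivity
  obtain ⟨h3, h4⟩ := gapE hX hK (by (clear * -; positivity)) (by linarith : q ^ 7 + 1 < (q ^ 5 - q ^ 2 + 2) * u)
  have h5 : u = q ^ 2 + 1 := by
    by_contra hne
    have h6 : (q ^ 5 - q ^ 2 + 2) * (q ^ 2 + 2) ≤ (q ^ 5 - q ^ 2 + 2) * u := mul_le_mul_of_nonneg_left (by omega) hX.le
    have h7 : (q ^ 5 - q ^ 2 + 2) ≤ (q ^ 5 - q ^ 2 + 2) * u - (q ^ 7 + 1) := by linarith only [hr, h6]
    have h8 := mul_le_mul_of_nonneg_right h7 hzp.le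
    rw [h1] at h8
    have h9 := le_of_mul_le_mul_left h8 hX
    linarith only [hu, hz2, h9]
  subst h5
  have h6 : (q ^ 5 - q ^ 2 + 2) * (q ^ 2 + 1) - (q ^ 7 + 1) = (q ^ 5 - q ^ 2 + 2) - (q ^ 2 - 1) ^ 2 := by
    rw [hK]; ring
  rw [h6] at h1
  obtain ⟨a, rfl⟩ : ∃ a : ℕ, q = a + 3 := ⟨(q - 3).toNat, by omega⟩
  rcases hz with hz | hz
  · rw [hz] at h1
    have h7 : (0 : ℤ) < (((a : ℤ) + 3) ^ 5 - (a + 3) ^ 2 + 2) * (((a : ℤ) + 3) ^ 2 + 1 - 1) ^ 2 -
        ((((a : ℤ) + 3) ^ 5 - (a + 3) ^ 2 + 2) - (((a : ℤ) + 3) ^ 2 - 1) ^ 2) *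
          ((((a : ℤ) + 3) ^ 2 + 1) ^ 2 + (((a : ℤ) + 3) ^ 2 + 1) - 2) := by
      clear * -; ring_nf; positivity
    linarith only [h1, h7]
  · have h8 : ((((a : ℤ) + 3) ^ 5 - (a + 3) ^ 2 + 2) - (((a : ℤ) + 3) ^ 2 - 1) ^ 2) *
        ((((a : ℤ) + 3) ^ 2 + 1) ^ 3 + (((a : ℤ) + 3) ^ 2 + 1) - 2) ≤
        ((((a : ℤ) + 3) ^ 5 - (a + 3) ^ 2 + 2) - (((a : ℤ) + 3) ^ 2 - 1) ^ 2) *
        (z + (((a : ℤ) + 3) ^ 2 + 1) - 2) :=
      mul_le_mul_of_nonneg_left (by linarith only [hz]) (by linarith only [h2])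
    have h7 : (0 : ℤ) < ((((a : ℤ) + 3) ^ 5 - (a + 3) ^ 2 + 2) - (((a : ℤ) + 3) ^ 2 - 1) ^ 2) *
          ((((a : ℤ) + 3) ^ 2 + 1) ^ 3 + (((a : ℤ) + 3) ^ 2 + 1) - 2) -
          (((a : ℤ) + 3) ^ 5 - (a + 3) ^ 2 + 2) * (((a : ℤ) + 3) ^ 2 + 1 - 1) ^ 2 := by
      clear * -; ring_nf; positivity
    linarith

end

end Cfsg.Agent.R2.Spec.X7.U7
end

-- part: R2/Spec/X7/U7/Num
section
/-!
# The numerical conditions for `PSU_7(q)`, `q` odd (helper27)
-/

set_option autoImplicit false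

namespace Cfsg.Agent.R2.Spec.X7

/-- the numbers of `PSU_7(q)` -/
structure UNum (p q c w R : ℕ) : Prop where
  hp : p.Prime
  hp2 : p ≠ 2
  hq : ∃ f, 1 ≤ f ∧ q = p ^ f
  hc : c = Nat.gcd 7 (q + 1)
  hw : w = c * (q + 1)
  hR : R * w = q ^ 7 + 1

/-- the condition for the element orders -/
def WU (p q c : ℕ) (E : ℕ) : Prop := ∃ E0, 0 < E0 ∧ E ∣ E0 ∧ Shape (-(q : ℤ)) p q (q + 1) (q + 1) 7 c E0

/-- the special numbers above `R` -/
def DU (p q : ℕ) (D : ℤ) : Prop :=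
  D = (q : ℤ) ^ 4 - (q : ℤ) ^ 3 - 2 ∨ D = (q : ℤ) ^ 6 - q - 2 ∨ (q = p ∧ D = (q : ℤ) ^ 6 + (q : ℤ) ^ 2 + q - 1)

namespace UNum

variable {p q c w R : ℕ} (h : UNum p q c w R)

include h

theorem p3 : 3 ≤ p := by
  have := h.hp.two_le
  have := h.hp2
  omega

theorem pq : p = q ∨ 3 * p ≤ q := by
  obtain ⟨f, hf, hq⟩ := h.hq
  rcases Nat.eq_or_lt_of_le hf with h1 | h1
  · left; rw [hq, ← h1, pow_one]
  · right
    obtain ⟨g, rfl⟩ : ∃ g, f = g + 2 := ⟨f - 2, by omega⟩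
    rw [hq, pow_add]
    calc 3 * p ≤ p * p := Nat.mul_le_mul_right _ h.p3
      _ = 1 * p ^ 2 := by ring
      _ ≤ p ^ g * p ^ 2 := Nat.mul_le_mul_right _ (Nat.one_le_pow _ _ h.hp.pos)

theorem p_le : p ≤ q := by
  have := h.pq
  omega

theorem q3 : 3 ≤ q := by
  have := h.p_le
  have := h.p3
  omega

theorem qZ : (3 : ℤ) ≤ q := by exact_mod_cast h.q3

theorem q_odd : q % 2 = 1 := by
  obtain ⟨f, hf, hq⟩ := h.hq
  have : Odd q := by rw [hq]; exact (h.hp.odd_of_ne_two h.hp2).pow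
  exact Nat.odd_iff.1 this

theorem q4 : (q : ℤ) ≠ 4 := by
  have := h.q_odd
  omega

theorem c_cases : c = 1 ∨ (c = 7 ∧ (q = 13 ∨ 27 ≤ q)) := by
  have h3 := h.q3
  have ho := h.q_odd
  have hc := h.hc
  have h2 : c ∣ 7 := by rw [hc]; exact Nat.gcd_dvd_left _ _
  rcases (Nat.dvd_prime (by norm_num)).1 h2 with h1 | h1
  · exact Or.inl h1
  · right
    refine ⟨h1, ?_⟩
    have h4 : 7 ∣ q + 1 := by rw [← h1, hc]; exact Nat.gcd_dvd_right _ _
    (clear * - ho h4; solve | lia | omega)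

theorem c_pos : 0 < c := by
  rcases h.c_cases with h1 | ⟨h1, -⟩ <;> omega

theorem two_c : 2 * c ≤ q + 1 := by
  have := h.q3
  rcases h.c_cases with h1 | ⟨h1, h2⟩ <;> omega

theorem w_le : 2 * w ≤ (q + 1) ^ 2 := by
  rw [h.hw, pow_two]
  calc 2 * (c * (q + 1)) = (2 * c) * (q + 1) := by ring
    _ ≤ _ := Nat.mul_le_mul_right _ h.two_c

theorem w_le' : 2 * (w : ℤ) ≤ ((q : ℤ) + 1) ^ 2 := by exact_mod_cast h.w_le

theorem w_ge : q + 1 ≤ w := by
  rw [h.hw]
  exact Nat.le_mul_of_pos_left _ h.c_pos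

theorem w_pos : 0 < w := by
  have := h.w_ge
  omega

theorem wZ : (0 : ℤ) < w := by exact_mod_cast h.w_pos

theorem hRZ : (w : ℤ) * R = (q : ℤ) ^ 7 + 1 := by
  have := congrArg (fun x : ℕ => (x : ℤ)) h.hR
  push_cast at this
  linarith

/-- `c R = Φ` -/
theorem cR : (c : ℤ) * R = (q : ℤ) ^ 6 - (q : ℤ) ^ 5 + (q : ℤ) ^ 4 - (q : ℤ) ^ 3 + (q : ℤ) ^ 2 - q + 1 := by
  have h4 : (q : ℤ) + 1 ≠ 0 := by positivity
  apply mul_right_cancel₀ h4
  have h1 := h.hRZ
  rw [h.hw] at h1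
  push_cast at h1
  linear_combination h1

/-- the small numbers -/
theorem small : 10 * (q ^ 4 * (q + 1)) ≤ 7 * R := by
  have h1 := h.cR
  have h3 := h.q3
  have key : (10 : ℤ) * ((q : ℤ) ^ 4 * (q + 1)) ≤ 7 * R := by
    rcases h.c_cases with hc | ⟨hc, hq⟩
    · rw [hc, Nat.cast_one, one_mul] at h1
      rw [h1]
      obtain ⟨a, rfl⟩ : ∃ a, q = a + 3 := ⟨q - 3, by omega⟩
      push_cast
      exact pos_le (by clear * -; ring_nf; positivity)
    · rw [hc] at h1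
      push_cast at h1
      rw [h1]
      obtain ⟨a, rfl⟩ : ∃ a, q = a + 13 := ⟨q - 13, by omega⟩
      push_cast
      exact pos_le (by clear * -; ring_nf; positivity)
  exact_mod_cast key

theorem small2 (hq3 : q ≠ 3) (hq13 : q ≠ 13) : 2 * (q ^ 4 * (q + 1)) ≤ R := by
  have h1 := h.cR
  have h3 := h.q3
  have ho := h.q_odd
  have key : (2 : ℤ) * ((q : ℤ) ^ 4 * (q + 1)) ≤ R := by
    rcases h.c_cases with hc | ⟨hc, hq⟩
    · rw [hc, Nat.cast_one, one_mul] at h1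
      rw [h1]
      obtain ⟨a, rfl⟩ : ∃ a, q = a + 5 := ⟨q - 5, by omega⟩
      push_cast
      exact pos_le (by clear * -; ring_nf; positivity)
    · rw [hc] at h1
      push_cast at h1
      have h2 : (7 : ℤ) * (2 * ((q : ℤ) ^ 4 * (q + 1))) ≤ 7 * R := by
        rw [h1]
        obtain ⟨a, rfl⟩ : ∃ a, q = a + 27 := ⟨q - 27, by omega⟩
        push_cast
        exact pos_le (by clear * -; ring_nf; positivity)
      linarith only [h2]
  exact_mod_cast key

theorem small3 (hq3 : q ≠ 3) : 8 * (q ^ 4 * (q + 1)) ≤ 5 * R := by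
  have h1 := h.cR
  have h3 := h.q3
  have ho := h.q_odd
  have key : (8 : ℤ) * ((q : ℤ) ^ 4 * (q + 1)) ≤ 5 * R := by
    rcases h.c_cases with hc | ⟨hc, hq⟩
    · rw [hc, Nat.cast_one, one_mul] at h1
      rw [h1]
      obtain ⟨a, rfl⟩ : ∃ a, q = a + 5 := ⟨q - 5, by omega⟩
      push_cast
      exact pos_le (by clear * -; ring_nf; positivity)
    · rw [hc] at h1
      push_cast at h1
      have h2 : (7 : ℤ) * (8 * ((q : ℤ) ^ 4 * (q + 1))) ≤ 7 * (5 * R) := by
        have h4 : (7 : ℤ) * (5 * R) = 5 * (7 * R) := by ring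
        rw [h4, h1]
        obtain ⟨a, rfl⟩ : ∃ a, q = a + 13 := ⟨q - 13, by omega⟩
        push_cast
        exact pos_le (by clear * -; ring_nf; positivity)
      linarith only [h2]
  exact_mod_cast key

theorem big : (q = 3 ∧ R = 547) ∨ (q = 13 ∧ R = 640291) ∨ (5 ≤ q ∧ q ≠ 13 ∧ 7500 ≤ R) := by
  have h3 := h.q3
  have ho := h.q_odd
  have hR := h.hR
  have hw := h.hw
  have h4 : q = 3 ∨ q = 13 ∨ (5 ≤ q ∧ q ≠ 13) := by omega
  rcases h4 with h4 | h4 | ⟨h4, h4'⟩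
  · have hc := h.hc
    rw [h4] at hc
    norm_num at hc
    rw [hw, hc, h4] at hR; norm_num at hR; (clear * - h4 hR; omega)
  · have hc := h.hc
    rw [h4] at hc
    norm_num at hc
    rw [hw, hc, h4] at hR; norm_num at hR; omega
  · right; right
    refine ⟨h4, h4', ?_⟩
    have h5 := h.small2 (by omega) (by omega)
    have h6 : 5 ^ 4 * 6 ≤ q ^ 4 * (q + 1) := Nat.mul_le_mul (Nat.pow_le_pow_left h4 4) (by omega)
    omega

theorem R547 : 547 ≤ R := by
  rcases h.big with ⟨-, h1⟩ | ⟨-, h1⟩ | ⟨-, -, h1⟩ <;> omega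

/-- the shapes of the maximal element orders -/
theorem shape_cases {E : ℕ} (hS : Shape (-(q : ℤ)) p q (q + 1) (q + 1) 7 c E) :
    E = R ∨ (∃ D, DU p q D ∧ (w : ℤ) * ((E : ℤ) - R) = D) ∨ (w : ℤ) * ((R : ℤ) - E) = (q : ℤ) ^ 5 - (q : ℤ) ^ 2 + 2 ∨
      (2 * E ≤ R) ∨ E ≤ q ^ 4 * (q + 1) := by
  have h3 := h.q3
  have hw := h.hw
  have hR := h.hRZ
  have hcp := h.c_pos
  have hw0 : 0 < w := h.w_pos
  rcases hS with h1 | ⟨a, b, ha, hb, hab, h1⟩ | h1 | ⟨k, h1, hk⟩ | h1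
  · left
    rw [ua_minus_odd (by decide), ← hw, ← h.hR] at h1
    exact Nat.eq_of_mul_eq_mul_right hw0 h1
  · right
    have h5 : (a = 1 ∧ b = 6) ∨ (a = 2 ∧ b = 5) ∨ (a = 3 ∧ b = 4) ∨ (a = 4 ∧ b = 3) ∨ (a = 5 ∧ b = 2) ∨
        (a = 6 ∧ b = 1) := by (clear * - ha hb hab; (solve | lia | omega))
    have h6 : 1 ≤ q ^ 6 := Nat.one_le_pow _ _ (by omega)
    have h4 : 1 ≤ q ^ 4 := Nat.one_le_pow _ _ (by omega)
    have h2 : 1 ≤ q ^ 2 := Nat.one_le_pow _ _ (by omega)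
    rcases h5 with ⟨rfl, rfl⟩ | ⟨rfl, rfl⟩ | ⟨rfl, rfl⟩ | ⟨rfl, rfl⟩ | ⟨rfl, rfl⟩ | ⟨rfl, rfl⟩
    · left
      rw [ua_minus_odd (by decide), ua_minus_even (by omega) (by decide), ← hw] at h1
      have := congrArg (fun x : ℕ => (x : ℤ)) h1
      push_cast [Nat.cast_sub h6] at this
      exact ⟨_, Or.inr (Or.inl rfl), by linear_combination this - hR⟩
    · right; left
      rw [ua_minus_even (by omega) (by decide), ua_minus_odd (by decide), ← hw] at h1
      have := congrArg (fun x : ℕ => (x : ℤ)) h1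
      push_cast [Nat.cast_sub h2] at this
      linear_combination hR - this
    · left
      rw [ua_minus_odd (by decide), ua_minus_even (by omega) (by decide), ← hw] at h1
      have := congrArg (fun x : ℕ => (x : ℤ)) h1
      push_cast [Nat.cast_sub h4] at this
      exact ⟨_, Or.inl rfl, by linear_combination this - hR⟩
    · left
      rw [ua_minus_even (by omega) (by decide), ua_minus_odd (by decide), ← hw] at h1
      have := congrArg (fun x : ℕ => (x : ℤ)) h1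
      push_cast [Nat.cast_sub h4] at this
      exact ⟨_, Or.inl rfl, by linear_combination this - hR⟩
    · right; left
      rw [ua_minus_odd (by decide), ua_minus_even (by omega) (by decide), ← hw] at h1
      have := congrArg (fun x : ℕ => (x : ℤ)) h1
      push_cast [Nat.cast_sub h2] at this
      linear_combination hR - this
    · left
      rw [ua_minus_even (by omega) (by decide), ua_minus_odd (by decide), ← hw] at h1
      have := congrArg (fun x : ℕ => (x : ℤ)) h1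
      push_cast [Nat.cast_sub h6] at this
      exact ⟨_, Or.inr (Or.inl rfl), by linear_combination this - hR⟩
  · rw [show 7 - 2 = 5 from rfl, ua_minus_odd (by decide)] at h1
    have hwZ : (w : ℤ) = c * ((q : ℤ) + 1) := by rw [hw]; push_cast; ring
    have h2 : (w : ℤ) * E = p * ((q : ℤ) ^ 5 + 1) * ((q : ℤ) + 1) := by
      have := congrArg (fun x : ℕ => (x : ℤ)) h1
      push_cast at this
      rw [hwZ]
      linear_combination ((q : ℤ) + 1) * this
    rcases h.pq with h5 | h5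
    · right; left
      rw [h5] at h2
      exact ⟨_, Or.inr (Or.inr ⟨h5.symm, rfl⟩), by linear_combination h2 - hR⟩
    · right; right; right; left
      have h6 : (w : ℤ) * (2 * E) ≤ (w : ℤ) * R := by
        have h8 : (0 : ℤ) ≤ ((q : ℤ) ^ 5 + 1) * ((q : ℤ) + 1) := by positivity
        have h9 : (3 * (p : ℤ)) * (((q : ℤ) ^ 5 + 1) * ((q : ℤ) + 1)) ≤
            q * (((q : ℤ) ^ 5 + 1) * ((q : ℤ) + 1)) := mul_le_mul_of_nonneg_right (by exact_mod_cast h5) h8
        obtain ⟨a, rfl⟩ : ∃ a, q = a + 3 := ⟨q - 3, by omega⟩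
        have h10 : (0 : ℤ) ≤ 3 * (((a + 3 : ℕ) : ℤ) ^ 7 + 1) -
            2 * (((a + 3 : ℕ) : ℤ) * (((((a + 3 : ℕ) : ℤ)) ^ 5 + 1) * (((a + 3 : ℕ) : ℤ) + 1))) := by
          clear * -
          push_cast
          ring_nf
          positivity
        have h11 : (w : ℤ) * (2 * E) * 3 ≤ (w : ℤ) * R * 3 := by
          rw [hR]
          have e1 : (w : ℤ) * (2 * E) * 3 = 2 * ((3 * (p : ℤ)) * (((((a + 3 : ℕ) : ℤ)) ^ 5 + 1) * (((a + 3 : ℕ) : ℤ) + 1))) := by
            linear_combination 6 * h2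
          rw [e1]
          linarith only [h9, h10]
        exact le_of_mul_le_mul_right h11 (by norm_num)
      have h7 := le_of_mul_le_mul_left h6 (by exact_mod_cast hw0)
      exact_mod_cast h7
  · right; right; right; right
    rw [h1]
    have hpq := h.p_le
    have hp3 := h.p3
    have h2 : p ^ (k + 1) ≤ q ^ 4 := by
      have h5 : k ≤ 1 := by
        by_contra hcon
        have h6 : 3 ^ 2 ≤ p ^ k := (Nat.pow_le_pow_left hp3 2).trans (Nat.pow_le_pow_right (by omega) (by omega))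
        omega
      calc p ^ (k + 1) ≤ q ^ (k + 1) := Nat.pow_le_pow_left hpq _
        _ ≤ q ^ 4 := Nat.pow_le_pow_right (by omega) (by omega)
    rw [mul_comm]
    exact Nat.mul_le_mul_right _ h2
  · right; right; right; right
    have h2 : (q + 1) ^ 2 * E ≤ (q + 1) ^ 2 * (q ^ 4 * (q + 1)) := by
      refine h1.trans (le_of_eq ?_)
      norm_num
      ring
    exact Nat.le_of_mul_le_mul_left h2 (by positivity)

/-- the special numbers -/
theorem DU_bd {D : ℤ} (hD : DU p q D) : ((q : ℤ) + 1) ^ 2 < D ∧ 5 * D ≤ 2 * ((q : ℤ) ^ 7 + 1) ∧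
    (3 * ((q : ℤ) ^ 5 - (q : ℤ) ^ 2 + 2) ≤ D ∨ 4 * D ≤ (q : ℤ) ^ 5 - (q : ℤ) ^ 2 + 2) ∧
      ((q : ℤ) + 1) * D ≤ 2 * ((q : ℤ) ^ 7 + 1) ∧ ((5 : ℤ) ≤ q → 13 * D < 3 * ((q : ℤ) ^ 7 + 1)) := by
  have h3 := h.q3
  refine ⟨?_, ?_, ?_, ?_, fun h5 => ?_⟩
  · obtain ⟨a, rfl⟩ : ∃ a, q = a + 3 := ⟨q - 3, by omega⟩
    rcases hD with rfl | rfl | ⟨-, rfl⟩ <;> push_cast <;> exact pos_lt (by clear * -; ring_nf; positivity)
  · obtain ⟨a, rfl⟩ : ∃ a, q = a + 3 := ⟨q - 3, by omega⟩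
    rcases hD with rfl | rfl | ⟨-, rfl⟩ <;> push_cast <;> exact pos_le (by clear * -; ring_nf; positivity)
  · obtain ⟨a, rfl⟩ : ∃ a, q = a + 3 := ⟨q - 3, by omega⟩
    rcases hD with rfl | rfl | ⟨-, rfl⟩ <;> push_cast
    · right; exact pos_le (by clear * -; ring_nf; positivity)
    · left; exact pos_le (by clear * -; ring_nf; positivity)
    · left; exact pos_le (by clear * -; ring_nf; positivity)
  · obtain ⟨a, rfl⟩ : ∃ a, q = a + 3 := ⟨q - 3, by omega⟩
    rcases hD with rfl | rfl | ⟨-, rfl⟩ <;> push_cast <;> exact pos_le (by clear * -; ring_nf; positivity)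
  · obtain ⟨a, rfl⟩ : ∃ a, q = a + 5 := ⟨q - 5, by omega⟩
    rcases hD with rfl | rfl | ⟨-, rfl⟩ <;> push_cast <;> exact pos_lt (by clear * -; ring_nf; (clear * -; positivity))

theorem shape_le {E : ℕ} (hS : Shape (-(q : ℤ)) p q (q + 1) (q + 1) 7 c E) : 10 * E ≤ 14 * R := by
  have hw0 : (0 : ℤ) < w := by exact_mod_cast h.w_pos
  rcases h.shape_cases hS with h1 | ⟨D, hD, h1⟩ | h1 | h1 | h1
  · omega
  · have h2 := (h.DU_bd hD).2.1
    rw [← h1, ← h.hRZ] at h2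
    have h3 : (w : ℤ) * (5 * ((E : ℤ) - R)) ≤ w * (2 * R) := by linarith
    have h4 := le_of_mul_le_mul_left h3 hw0
    omega
  · have h3 := h.q3
    obtain ⟨a, ha⟩ : ∃ a, q = a + 3 := ⟨q - 3, by omega⟩
    have h2 : (0 : ℤ) ≤ (w : ℤ) * ((R : ℤ) - E) := by
      rw [h1, ha]; push_cast; clear * -; ring_nf; positivity
    have h4 : (0 : ℤ) ≤ (R : ℤ) - E := by
      by_contra hcon
      have := mul_neg_of_pos_of_neg hw0 (not_le.1 hcon)
      linarith only [h2, this]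
    omega
  · omega
  · have := h.small
    omega

/-- the window -/
theorem spec {E : ℕ} (hW : WU p q c E) (h7 : 7 * R < 10 * E) (hne : E ≠ R) :
    (∃ D, DU p q D ∧ (w : ℤ) * ((E : ℤ) - R) = D) ∨ (w : ℤ) * ((R : ℤ) - E) = (q : ℤ) ^ 5 - (q : ℤ) ^ 2 + 2 := by
  obtain ⟨E0, h0, ⟨j, hj⟩, hS⟩ := hW
  have h3 := h.shape_le hS
  have hj1 : j = 1 := by
    have h4 : j ≠ 0 := by
      rintro rfl
      omega
    by_contra h5
    have h6 : E * 2 ≤ E * j := Nat.mul_le_mul_left _ (by omega)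
    omega
  rw [hj1, mul_one] at hj
  rw [hj] at hS
  have hs := h.small
  rcases h.shape_cases hS with h4 | h4 | h4 | h4 | h4
  · exact absurd h4 hne
  · exact Or.inl h4
  · exact Or.inr h4
  · omega
  · omega

/-- the larger window -/
theorem spec2 {E : ℕ} (hW : WU p q c E) (hs : q ^ 4 * (q + 1) < E) (h7 : R < 2 * E) (hne : E ≠ R) :
    (∃ D, DU p q D ∧ (w : ℤ) * ((E : ℤ) - R) = D) ∨ (w : ℤ) * ((R : ℤ) - E) = (q : ℤ) ^ 5 - (q : ℤ) ^ 2 + 2 ∨
      ∃ D, DU p q D ∧ (w : ℤ) * ((2 * E : ℤ) - R) = D := by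
  obtain ⟨E0, h0, ⟨j, hj⟩, hS⟩ := hW
  have h3 := h.shape_le hS
  have hj2 : j = 1 ∨ j = 2 := by
    have h4 : j ≠ 0 := by
      rintro rfl
      omega
    by_contra h5
    have h6 : E * 3 ≤ E * j := Nat.mul_le_mul_left _ (by omega)
    omega
  rcases hj2 with hj1 | hj1
  · rw [hj1, mul_one] at hj
    rw [hj] at hS
    rcases h.shape_cases hS with h4 | h4 | h4 | h4 | h4
    · exact absurd h4 hne
    · exact Or.inl h4
    · exact Or.inr (Or.inl h4)
    · omega
    · omega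
  · rw [hj1] at hj
    rw [hj] at hS
    have hw0 : (0 : ℤ) < w := by exact_mod_cast h.w_pos
    rcases h.shape_cases hS with h4 | ⟨D, hD, h4⟩ | h4 | h4 | h4
    · omega
    · right; right
      refine ⟨D, hD, ?_⟩
      rw [← h4]
      push_cast
      ring
    · exfalso
      have h5 := h.q3
      obtain ⟨a, ha⟩ : ∃ a, q = a + 3 := ⟨q - 3, by omega⟩
      have h6 : (0 : ℤ) < (w : ℤ) * ((R : ℤ) - (E * 2 : ℕ)) := by
        rw [h4, ha]; push_cast; clear * -; ring_nf; positivity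
      have h7 := pos_of_mul_pos_nat' h6
      push_cast at h7
      omega
    · omega
    · omega

theorem not_dvd_q {u : ℕ} (hu : ¬ p ∣ u) : ¬ q ∣ u := by
  intro hd
  obtain ⟨f, hf, hq⟩ := h.hq
  exact hu ((hq ▸ dvd_pow_self p (by omega) : p ∣ q).trans hd)

theorem ne_q {u : ℕ} (hu : ¬ p ∣ u) : (u : ℤ) ≠ q := by
  intro h6
  have : u = q := by exact_mod_cast h6
  exact h.not_dvd_q hu (dvd_of_eq this.symm)

theorem ne39 (hp3 : p ≠ 3) : q ≠ 3 ∧ q ≠ 9 := by
  obtain ⟨f, hf, hq⟩ := h.hq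
  have h1 : p ∣ q := hq ▸ dvd_pow_self p (by omega)
  constructor
  · intro h2
    rw [h2, Nat.prime_dvd_prime_iff_eq h.hp Nat.prime_three] at h1
    exact hp3 h1
  · intro h2
    rw [h2] at h1
    have h3 : p ∣ 3 := h.hp.dvd_of_dvd_pow (n := 2) (by norm_num; exact h1)
    rw [Nat.prime_dvd_prime_iff_eq h.hp Nat.prime_three] at h3
    exact hp3 h3

/-- the special number below `R` -/
theorem X_bd : ((q : ℤ) + 1) ^ 2 < (q : ℤ) ^ 5 - (q : ℤ) ^ 2 + 2 ∧
    8 * ((q : ℤ) ^ 5 - (q : ℤ) ^ 2 + 2) < 2 * ((q : ℤ) ^ 7 + 1) - 4 * ((q : ℤ) + 1) ^ 2 := by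
  have h3 := h.q3
  obtain ⟨a, rfl⟩ : ∃ a, q = a + 3 := ⟨q - 3, by omega⟩
  push_cast
  exact ⟨pos_lt (by clear * -; ring_nf; positivity), pos_lt (by clear * -; ring_nf; positivity)⟩

theorem above {E : ℕ} {D : ℤ} (hD : DU p q D) (h1 : (w : ℤ) * ((E : ℤ) - R) = D) : R < E := by
  have h2 := (h.DU_bd hD).1
  have h3 : (0 : ℤ) < (w : ℤ) * ((E : ℤ) - R) := by
    rw [h1]; exact lt_of_le_of_lt (sq_nonneg _) h2
  have := pos_of_mul_pos_nat' h3
  omega

theorem below {E : ℕ} (h1 : (w : ℤ) * ((R : ℤ) - E) = (q : ℤ) ^ 5 - (q : ℤ) ^ 2 + 2) : E < R := by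
  have h2 := h.X_bd.1
  have h3 : (0 : ℤ) < (w : ℤ) * ((R : ℤ) - E) := by
    rw [h1]; exact lt_of_le_of_lt (sq_nonneg _) h2
  have := pos_of_mul_pos_nat' h3
  omega

/-- an order above `R` in the window -/
theorem spec_above {E : ℕ} (hW : WU p q c E) (h1 : R < E) : ∃ D, DU p q D ∧ (w : ℤ) * ((E : ℤ) - R) = D := by
  rcases h.spec hW (by omega) (by omega) with h2 | h2
  · exact h2
  · have := h.below h2
    omega

/-- an order below `R` in the window -/
theorem spec_below {E : ℕ} (hW : WU p q c E) (h7 : 7 * R < 10 * E) (h1 : E < R) :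
    (w : ℤ) * ((R : ℤ) - E) = (q : ℤ) ^ 5 - (q : ℤ) ^ 2 + 2 := by
  rcases h.spec hW h7 (by omega) with ⟨D, hD, h2⟩ | h2
  · have := h.above hD h2
    omega
  · exact h2

theorem le_upper {E : ℕ} (hW : WU p q c E) : 10 * E ≤ 14 * R := by
  obtain ⟨E0, h0, hd, hS⟩ := hW
  have h1 := Nat.le_of_dvd h0 hd
  have h2 := h.shape_le hS
  omega

theorem DU_pair {D D' : ℤ} (hD : DU p q D) (hD' : DU p q D') (hlt : D' < D) : (4 * D ≤ 5 * D' ∧
    D - D' = ((q : ℤ) + 1) ^ 2) ∨ 10 * D' ≤ D := by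
  have h3 := h.q3
  obtain ⟨a, rfl⟩ : ∃ a, q = a + 3 := ⟨q - 3, by omega⟩
  rcases hD with rfl | rfl | ⟨-, rfl⟩ <;> rcases hD' with rfl | rfl | ⟨-, rfl⟩ <;> push_cast at hlt ⊢
  · exact absurd hlt (lt_irrefl _)
  · exact absurd hlt (not_lt.2 (pos_le (by clear * -; ring_nf; positivity)))
  · exact absurd hlt (not_lt.2 (pos_le (by clear * -; ring_nf; positivity)))
  · right; exact pos_le (by clear * -; ring_nf; positivity)
  · exact absurd hlt (lt_irrefl _)
  · exact absurd hlt (not_lt.2 (pos_le (by clear * -; ring_nf; positivity)))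
  · right; exact pos_le (by clear * -; ring_nf; positivity)
  · left; exact ⟨pos_le (by clear * -; ring_nf; positivity), by ring⟩
  · exact absurd hlt (lt_irrefl _)

theorem DU_5 (hq : 7 ≤ q) {D : ℤ} (hD : DU p q D) : 5 * D < (q : ℤ) ^ 7 + 1 := by
  obtain ⟨a, rfl⟩ : ∃ a, q = a + 7 := ⟨q - 7, by omega⟩
  rcases hD with rfl | rfl | ⟨-, rfl⟩ <;> push_cast <;> exact pos_lt (by clear * -; ring_nf; (clear * -; positivity))

theorem DU_9 (hq : 11 ≤ q) {D : ℤ} (hD : DU p q D) : 18 * D < 2 * ((q : ℤ) ^ 7 + 1) - 25 * ((q : ℤ) + 1) ^ 2 := by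
  obtain ⟨a, rfl⟩ : ∃ a, q = a + 11 := ⟨q - 11, by omega⟩
  rcases hD with rfl | rfl | ⟨-, rfl⟩ <;> push_cast <;> exact pos_lt (by clear * -; ring_nf; (clear * -; positivity))

/-- the type `U`, odd -/
theorem typeO {u z : ℕ} {D : ℤ} (hD : DU p q D) (hpu : ¬ p ∣ u) (hu : 2 ≤ u) (hz : u ^ 3 ≤ z) (hz2 : 61 ≤ u * z + 1)
    (hcr : D * ((u : ℤ) * z + 1) = ((q : ℤ) ^ 7 + 1) * (z - u - 2)) : False := by
  have hzz : (u : ℤ) ^ 3 ≤ z := by exact_mod_cast hz
  have hzz2 : (61 : ℤ) ≤ (u : ℤ) * z + 1 := by exact_mod_cast hz2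
  have huz : (2 : ℤ) ≤ u := by exact_mod_cast hu
  have hK := U7.K_pos h.qZ
  rcases hD with rfl | rfl | ⟨-, rfl⟩
  · exact U7.o1 h.qZ h.q4 huz hzz hzz2 hcr
  · exact U7.eqO (U7.D2_pos h.qZ) hK huz hzz hzz2 hcr (U7.o2 h.qZ (h.ne_q hpu))
  · exact U7.eqO (U7.D3_pos h.qZ) hK huz hzz hzz2 hcr (U7.o3 h.qZ)

theorem not_13 : ¬ 13 ∣ R := by
  intro hd
  have h1 : (13 : ℤ) ∣ (q : ℤ) ^ 6 - (q : ℤ) ^ 5 + (q : ℤ) ^ 4 - (q : ℤ) ^ 3 + (q : ℤ) ^ 2 - q + 1 := by
    rw [← h.cR]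
    exact Dvd.dvd.mul_left (by exact_mod_cast hd) _
  rw [show (13 : ℤ) = ((13 : ℕ) : ℤ) from rfl, ← ZMod.intCast_zmod_eq_zero_iff_dvd] at h1
  push_cast at h1
  have h2 : ∀ x : ZMod 13, x ^ 6 - x ^ 5 + x ^ 4 - x ^ 3 + x ^ 2 - x + 1 ≠ 0 := by decide
  exact h2 _ h1

end UNum

end Cfsg.Agent.R2.Spec.X7
end

-- part: R2/Spec/X7/U7/Nc
section
/-!
# The numerical conditions for `PSU_7(q)`, `q` odd: conclusion (helper27)
-/

set_option autoImplicit false

namespace Cfsg.Agent.R2.Spec.X7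

namespace UNum

variable {p q c w R : ℕ} (h : UNum p q c w R)

include h

/-- **the numerical conditions** -/
theorem nc : NC p R (WU p q c) where
  hp := h.hp
  c1093 := fun hR => by rcases h.big with ⟨-, h1⟩ | ⟨-, h1⟩ | ⟨-, -, h1⟩ <;> omega
  n13 := h.not_13
  big := by rcases h.big with ⟨-, h1⟩ | ⟨-, h1⟩ | ⟨-, -, h1⟩ <;> omega
  upper := fun E _ hW => h.le_upper hW
  near := by
    intro E hE0 hW hne h1 h2
    have hR := h.R547
    have h6 := h.w_le'
    have hw := h.wZ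
    rcases h.spec hW (by omega) hne with ⟨D, hD, h4⟩ | h4
    · have h5 := (h.DU_bd hD).1
      have h7 : (w : ℤ) * ((E : ℤ) - R) ≤ w * 2 := mul_le_mul_of_nonneg_left (by omega) hw.le
      linarith only [h6, h4, h5, h7]
    · have h5 := h.X_bd.1
      have h7 : (w : ℤ) * ((R : ℤ) - E) ≤ w * 2 := mul_le_mul_of_nonneg_left (by omega) hw.le
      linarith only [h6, h4, h5, h7]
  neg := by
    intro E E' hE0 hW hW' h7 h1 h2
    exfalso
    have h3 := h.spec_below hW (by omega) h2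
    have h4 := h.spec_below hW' h7 (by omega)
    have h5 := mul_left_cancel₀ h.wZ.ne' (h3.trans h4.symm)
    omega
  posi := by
    intro E E' hE0 hW hW' h1 h2
    obtain ⟨D, hD, h4⟩ := h.spec_above hW (by omega)
    obtain ⟨D', hD', h4'⟩ := h.spec_above hW' h2
    have hw := h.wZ
    have hlt : D' < D := by
      rw [← h4, ← h4']
      exact mul_lt_mul_of_pos_left (by omega) hw
    rcases h.DU_pair hD hD' hlt with ⟨h5, h6⟩ | h5
    · left
      have h7 := (h.DU_bd hD).2.2.2.1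
      constructor
      · rw [← h4, ← h4'] at h5
        exact le_of_mul_le_mul_left (by linarith only [h5] : (w : ℤ) * (4 * ((E : ℤ) - R)) ≤ w * (5 * (E' - R))) hw
      · have hq1 : (q : ℤ) + 1 ≤ w := by exact_mod_cast h.w_ge
        have hww : (0 : ℤ) < w * w := mul_pos hw hw
        refine le_of_mul_le_mul_left (?_ : (w : ℤ) * w * (((E : ℤ) - E') * (E - R)) ≤ w * w * (2 * R)) hww
        have e1 : (w : ℤ) * w * (((E : ℤ) - E') * (E - R)) = (w * ((E : ℤ) - R) - w * (E' - R)) * (w * (E - R)) := by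
          ring
        have e2 : (w : ℤ) * w * (2 * R) = w * (2 * ((q : ℤ) ^ 7 + 1)) := by
          rw [← h.hRZ]; ring
        rw [e1, h4, h4', h6, e2]
        have h8 : ((q : ℤ) + 1) ^ 2 * D = ((q : ℤ) + 1) * (((q : ℤ) + 1) * D) := by ring
        rw [h8]
        refine (mul_le_mul_of_nonneg_left h7 (by (clear * -; positivity))).trans ?_
        exact mul_le_mul_of_nonneg_right hq1 (by (clear * -; positivity))
    · right
      rw [← h4, ← h4'] at h5
      exact le_of_mul_le_mul_left (by linarith only [h5] : (w : ℤ) * (10 * ((E' : ℤ) - R)) ≤ w * (E - R)) hw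
  opp := by
    intro E E' _ hW hW' h7 h1 h2
    obtain ⟨D, hD, h4⟩ := h.spec_above hW h2
    have h4' := h.spec_below hW' h7 h1
    have hw := h.wZ
    rcases (h.DU_bd hD).2.2.1 with h5 | h5
    · left
      rw [← h4, ← h4'] at h5
      exact le_of_mul_le_mul_left (by linarith only [h5] : (w : ℤ) * (3 * ((R : ℤ) - E')) ≤ w * (E - R)) hw
    · right
      rw [← h4, ← h4'] at h5
      exact le_of_mul_le_mul_left (by linarith only [h5] : (w : ℤ) * (4 * ((E : ℤ) - R)) ≤ w * (R - E')) hw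
  lT := by
    intro u M κ E hpu hu hM h1 h2 hE0 hW
    exfalso
    have hw := h.wZ
    obtain ⟨z, hz⟩ : ∃ z, u ^ (M - 1) = z := ⟨_, rfl⟩
    have hz2 : u ^ 2 ≤ z := by rw [← hz]; exact Nat.pow_le_pow_right (by omega) (by omega)
    have hz3 : z = u ^ 2 ∨ u ^ 3 ≤ z := by
      rcases Nat.eq_or_lt_of_le hM with h3 | h3
      · left; rw [← hz, ← h3]
      · right; rw [← hz]; exact Nat.pow_le_pow_right (by omega) (by omega)
    have huM : u ^ M = u * z := by rw [← hz, ← pow_succ']; congr 1; omega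
    rw [huM] at h1
    rw [hz] at h2
    have hz0 : 9 ≤ z := le_trans (by nlinarith only [hu]) hz2
    have h1Z : (R : ℤ) * κ = (u : ℤ) * z - 1 := by
      have h3 : 1 ≤ u * z := Nat.mul_pos (by omega) (by omega)
      have := congrArg (fun x : ℕ => (x : ℤ)) h1
      push_cast [Nat.cast_sub h3] at this
      exact this
    have h2Z : (κ : ℤ) * E = ((z : ℤ) - 1) * (u - 1) := by
      have := congrArg (fun x : ℕ => (x : ℤ)) h2
      push_cast [Nat.cast_sub (show 1 ≤ z by omega), Nat.cast_sub (show 1 ≤ u by omega)] at this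
      exact this
    have hκ : (0 : ℤ) < κ := by
      rcases Nat.eq_zero_or_pos κ with h3 | h3
      · rw [h3] at h1Z
        have : (3 : ℤ) * 9 ≤ u * z := by exact_mod_cast Nat.mul_le_mul hu hz0
        push_cast at h1Z
        linarith only [this, h1Z]
      · exact_mod_cast h3
    have h4Z : (κ : ℤ) * ((R : ℤ) - E) = z + u - 2 := by linear_combination h1Z - h2Z
    have hER : E < R := by
      have h5 : (0 : ℤ) < (κ : ℤ) * ((R : ℤ) - E) := by rw [h4Z]; omega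
      have := pos_of_mul_pos_nat' h5
      omega
    have huz : (u : ℤ) ^ 2 ≤ z := by exact_mod_cast hz2
    have hu2 : (2 : ℤ) ≤ u := by omega
    have hzz3 : (z : ℤ) = (u : ℤ) ^ 2 ∨ (u : ℤ) ^ 3 ≤ z := by
      rcases hz3 with h6 | h6
      · left; exact_mod_cast h6
      · right; exact_mod_cast h6
    have fin : (w : ℤ) * ((R : ℤ) - E) = (q : ℤ) ^ 5 - (q : ℤ) ^ 2 + 2 → False := by
      intro h5
      exact U7.eqL h.qZ hu2 hzz3 (cross h5 h.hRZ h1Z h4Z)
    rcases Nat.eq_or_lt_of_le hu with hu3 | hu4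
    · -- `u = 3`
      have hp3 : p ≠ 3 := by
        rintro rfl
        exact hpu (hu3 ▸ dvd_rfl)
      obtain ⟨hq3, hq9⟩ := h.ne39 hp3
      rw [← hu3] at h1Z h2Z
      push_cast at h1Z h2Z
      have hz30 : 11 ≤ z := by
        have h5 := h.R547
        have h6 : (R : ℤ) * 1 ≤ R * κ := mul_le_mul_of_nonneg_left (by omega) (by positivity)
        omega
      have h8E : 5 * R ≤ 8 * E := by
        have h5 : (κ : ℤ) * (5 * R) ≤ κ * (8 * E) := by
          have h6 : (κ : ℤ) * (8 * E) - κ * (5 * R) = z - 11 := by linear_combination 8 * h2Z - 5 * h1Z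
          omega
        have h6 := le_of_mul_le_mul_left h5 hκ
        exact_mod_cast h6
      have hs := h.small3 hq3
      have h8E' : 5 * R < 8 * E ∨ 5 * R = 8 * E := by (clear * - h8E; (solve | lia | omega))
      have h2E : R < 2 * E := by
        have := h.R547
        omega
      have hsE : q ^ 4 * (q + 1) < E := by
        rcases Nat.lt_or_ge (q ^ 4 * (q + 1)) E with h9 | h9
        · exact h9
        · exfalso
          have h10 : 8 * (q ^ 4 * (q + 1)) = 5 * R := by (clear * - h8E hs h9; omega)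
          have h11 : 5 * (8 * (q ^ 4 * (q + 1))) = 25 * R := by (clear * - h10; omega)
          by_cases hq13 : q = 13
          · rw [hq13] at h10
            rcases h.big with ⟨h12, -⟩ | ⟨-, h12⟩ | ⟨-, h12, -⟩
            · omega
            · rw [h12] at h10; norm_num at h10
            · exact h12 hq13
          · have := h.small2 hq3 hq13
            have := h.R547
            omega
      rcases h.spec2 hW hsE h2E (by omega) with ⟨D, hD, h5⟩ | h5 | ⟨D, hD, h5⟩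
      · have := h.above hD h5
        omega
      · exact fin h5
      · exfalso
        have h6 : (κ : ℤ) * ((2 * E : ℤ) - R) = z - 3 := by linear_combination 2 * h2Z - h1Z
        have hcr := cross h5 h.hRZ h1Z h6
        have hq5 : 5 ≤ q := by
          have := h.q3
          have := h.q_odd
          omega
        have h7 := (h.DU_bd hD).2.2.2.2 (by exact_mod_cast hq5)
        have h8 : (0 : ℤ) < 3 * z - 1 := by omega
        have h9 := mul_lt_mul_of_pos_right h7 h8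
        have h10 : (0 : ℤ) < (q : ℤ) ^ 7 + 1 := by positivity
        have h11 : ((q : ℤ) ^ 7 + 1) * (13 * (z - 3)) < ((q : ℤ) ^ 7 + 1) * (3 * (3 * z - 1)) := by linarith only [hcr, h9]
        have h12 := lt_of_mul_lt_mul_left h11 h10.le
        omega
    · apply fin
      apply h.spec_below hW _ hER
      have h5 : (κ : ℤ) * (7 * R) < κ * (10 * E) := by
        have h6 : (κ : ℤ) * (10 * E) - κ * (7 * R) = (3 * u - 10) * z - 10 * u + 17 := by
          linear_combination 10 * h2Z - 7 * h1Z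
        have h7 : (0 : ℤ) < (3 * (u : ℤ) - 10) * z - 10 * u + 17 := by
          have h8 : (3 * (u : ℤ) - 10) * (u ^ 2) ≤ (3 * (u : ℤ) - 10) * z :=
            mul_le_mul_of_nonneg_left huz (by omega)
          obtain ⟨a, rfl⟩ : ∃ a, u = a + 4 := ⟨u - 4, by omega⟩
          have h9 : (0 : ℤ) < (3 * ((a + 4 : ℕ) : ℤ) - 10) * ((a + 4 : ℕ) : ℤ) ^ 2 - 10 * ((a + 4 : ℕ) : ℤ) + 17 := by
            clear * -
            push_cast
            ring_nf
            positivity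
          linarith only [h8, h9]
        linarith only [h1Z, h2Z, h7]
      have h6 := lt_of_mul_lt_mul_left h5 hκ.le
      exact_mod_cast h6
  two := by
    intro z E hz h1 h2 hW
    have hR := h.R547
    have h3 := h.spec_below hW (by omega) (by omega)
    have h4 := h.X_bd.2
    have h5 : 4 * ((R : ℤ) - E) = R + 9 := by omega
    have h6 : 4 * ((q : ℤ) ^ 5 - (q : ℤ) ^ 2 + 2) = ((q : ℤ) ^ 7 + 1) + 9 * w := by
      rw [← h3, ← h.hRZ]
      linear_combination (w : ℤ) * h5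
    have := sq_nonneg ((q : ℤ) + 1)
    have := h.wZ
    linarith
  mT := by
    intro v M E hv hM h1 h2 hE0 hW
    obtain ⟨z, hz⟩ : ∃ z, (v + 1) ^ M = z := ⟨_, rfl⟩
    have hz4 : (v + 1) ^ 4 ≤ z := by rw [← hz]; exact Nat.pow_le_pow_right (by omega) hM
    have hz1 : 1 ≤ z := le_trans (Nat.one_le_pow _ _ (by omega)) hz4
    have hzd : (v + 1) ∣ z := by rw [← hz]; exact dvd_pow_self _ (by omega)
    have e1 : (v + 1) ^ (M + 1) = (v + 1) * z := by rw [← hz, pow_succ']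
    rw [hz] at h1
    rw [e1] at h2
    have h1Z : (R : ℤ) * v = z - 1 := by
      have := congrArg (fun x : ℕ => (x : ℤ)) h1
      push_cast [Nat.cast_sub hz1] at this
      exact this
    have h2Z : (E : ℤ) * (v : ℤ) ^ 2 = ((v : ℤ) + 1) * z - 1 := by
      have h3 : 1 ≤ (v + 1) * z := Nat.mul_pos (by omega) (by omega)
      have := congrArg (fun x : ℕ => (x : ℤ)) h2
      push_cast [Nat.cast_sub h3] at this
      exact this
    have h3Z : (R : ℤ) * (v : ℤ) ^ 2 = (v : ℤ) * (z - 1) := by linear_combination (v : ℤ) * h1Z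
    have h4Z : (v : ℤ) ^ 2 * ((E : ℤ) - R) = z + v - 1 := by linear_combination h2Z - h3Z
    have hv2 : (0 : ℤ) < (v : ℤ) ^ 2 := by positivity
    have hRE : R < E := by
      by_contra hcon
      have h5 : (v : ℤ) ^ 2 * ((E : ℤ) - R) ≤ 0 := mul_nonpos_of_nonneg_of_nonpos hv2.le (by omega)
      rw [h4Z] at h5
      omega
    rcases Nat.eq_or_lt_of_le hv with hv1 | hv1
    · have h5 := h.le_upper hW
      rw [← hv1] at h1Z h2Z
      push_cast at h1Z h2Z
      omega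
    · obtain ⟨D, hD, h5⟩ := h.spec_above hW hRE
      have hcr := cross h5 h.hRZ h3Z h4Z
      have hzz : ((v : ℤ) + 1) ^ 4 ≤ z := by exact_mod_cast hz4
      have hv2' : (2 : ℤ) ≤ v := by exact_mod_cast hv1
      have hK := U7.K_pos h.qZ
      rcases hD with rfl | rfl | ⟨-, rfl⟩
      · exact U7.eqM (U7.D1_pos h.qZ) hK hv2' hzz hcr (U7.g1 h.qZ h.q4)
      · exact U7.eqM (U7.D2_pos h.qZ) hK hv2' hzz hcr (U7.g2 h.qZ)
      · by_cases hvq : (v : ℤ) = q
        · rw [hvq] at hcr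
          refine U7.m3q h.qZ ?_ ?_ hcr
          · have := h.q_odd
            omega
          · rw [← hvq]
            exact_mod_cast hzd
        · exact U7.eqM (U7.D3_pos h.qZ) hK hv2' hzz hcr (U7.g3 h.qZ hvq)
  uE := by
    intro u M κ E hpu hu hM h1 h2 hE0 hW
    obtain ⟨z, hz⟩ : ∃ z, u ^ (M - 1) = z := ⟨_, rfl⟩
    have huM : u ^ M = u * z := by rw [← hz, ← pow_succ']; congr 1; omega
    have hz5 : u ^ 5 ≤ z := by rw [← hz]; exact Nat.pow_le_pow_right (by omega) (by omega)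
    have hz1 : 1 ≤ z := le_trans (Nat.one_le_pow _ _ (by omega)) hz5
    rw [huM] at h1
    rw [hz] at h2
    have h1Z : (R : ℤ) * κ = (u : ℤ) * z - 1 := by
      have h3 : 1 ≤ u * z := Nat.mul_pos (by omega) (by omega)
      have := congrArg (fun x : ℕ => (x : ℤ)) h1
      push_cast [Nat.cast_sub h3] at this
      exact this
    have h2Z : (κ : ℤ) * E = ((z : ℤ) + 1) * (u + 1) := by
      have := congrArg (fun x : ℕ => (x : ℤ)) h2
      push_cast at this
      exact this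
    have h4Z : (κ : ℤ) * ((E : ℤ) - R) = z + u + 2 := by linear_combination h2Z - h1Z
    have hRE : R < E := by
      have h5 : (0 : ℤ) < (κ : ℤ) * ((E : ℤ) - R) := by rw [h4Z]; positivity
      have := pos_of_mul_pos_nat' h5
      omega
    obtain ⟨D, hD, h5⟩ := h.spec_above hW hRE
    have hcr := cross h5 h.hRZ h1Z h4Z
    have hzz : (u : ℤ) ^ 5 ≤ z := by exact_mod_cast hz5
    have hu2 : (2 : ℤ) ≤ u := by exact_mod_cast hu
    obtain ⟨a, ha⟩ : ∃ a : ℕ, q = a + 3 := ⟨q - 3, by have := h.q3; omega⟩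
    rcases hD with rfl | rfl | ⟨-, rfl⟩
    · refine U7.eqE (U7.D1_pos h.qZ) ?_ hu2 hzz hcr (U7.g1 h.qZ h.q4)
      rw [ha]; push_cast
      exact pos_le (by clear * -; ring_nf; positivity)
    · refine U7.eqE (U7.D2_pos h.qZ) ?_ hu2 hzz hcr (U7.g2 h.qZ)
      rw [ha]; push_cast
      exact pos_le (by clear * -; ring_nf; positivity)
    · refine U7.eqE (U7.D3_pos h.qZ) ?_ hu2 hzz hcr (U7.g3 h.qZ (h.ne_q hpu))
      rw [ha]; push_cast
      exact pos_le (by clear * -; ring_nf; positivity)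
  uO := by
    intro u M κ E hpu hu hM hκ0 h1 h2 hE0 hW
    obtain ⟨z, hz⟩ : ∃ z, u ^ (M - 1) = z := ⟨_, rfl⟩
    have huM : u ^ M = u * z := by rw [← hz, ← pow_succ']; congr 1; omega
    have hz3 : u ^ 3 ≤ z := by rw [← hz]; exact Nat.pow_le_pow_right (by omega) (by omega)
    have hz1 : 1 ≤ z := le_trans (Nat.one_le_pow _ _ (by omega)) hz3
    rw [huM] at h1
    rw [hz] at h2
    have h1Z : (R : ℤ) * κ = (u : ℤ) * z + 1 := by exact_mod_cast h1
    have h2Z : (κ : ℤ) * E = ((z : ℤ) - 1) * (u + 1) := by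
      have := congrArg (fun x : ℕ => (x : ℤ)) h2
      push_cast [Nat.cast_sub hz1] at this
      exact this
    have h4Z : (κ : ℤ) * ((E : ℤ) - R) = z - u - 2 := by linear_combination h2Z - h1Z
    have hzu : (0 : ℤ) < z - u - 2 := by
      have h5 : u + 3 ≤ u ^ 3 := by
        obtain ⟨a, rfl⟩ : ∃ a, u = a + 2 := ⟨u - 2, by omega⟩
        have : (a + 2) ^ 3 = a ^ 3 + 6 * a ^ 2 + 12 * a + 8 := by ring
        rw [this]
        have := Nat.zero_le (a ^ 3)
        have := Nat.zero_le (a ^ 2)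
        omega
      omega
    have hRE : R < E := by
      have h5 : (0 : ℤ) < (κ : ℤ) * ((E : ℤ) - R) := by rw [h4Z]; exact hzu
      have := pos_of_mul_pos_nat' h5
      omega
    obtain ⟨D, hD, h5⟩ := h.spec_above hW hRE
    have hcr := cross h5 h.hRZ h1Z h4Z
    refine h.typeO hD hpu hu hz3 ?_ hcr
    have h6 : R * 1 ≤ R * κ := Nat.mul_le_mul_left _ hκ0
    have := h.R547
    omega
  uT := by
    intro u g E hu h1 h2 hE0 hW
    have h4Z : (g : ℤ) * ((E : ℤ) - R) = u - 2 := by linear_combination h2 - h1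
    have hRE : R < E := by
      have h5 : (0 : ℤ) < (g : ℤ) * ((E : ℤ) - R) := by rw [h4Z]; omega
      have := pos_of_mul_pos_nat' h5
      omega
    obtain ⟨D, hD, h5⟩ := h.spec_above hW hRE
    have hcr := cross h5 h.hRZ h1 h4Z
    have hu9 : (9 : ℤ) ≤ u := by exact_mod_cast hu
    rcases hD with rfl | rfl | ⟨-, rfl⟩
    · obtain ⟨h6, h7⟩ := U7.t1 h.qZ h.q4 hu9 hcr
      have h8 : q = 3 := by exact_mod_cast h6
      refine ⟨?_, by exact_mod_cast h7⟩
      rcases h.big with ⟨-, h9⟩ | ⟨h9, -⟩ | ⟨h9, -⟩ <;> omega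
    · exact (U7.t2 h.qZ hu9 hcr).elim
    · exact (U7.t3 h.qZ hu9 hcr).elim
  mO := by
    intro u m E hpu hu hm hme h1 h2 hE0 hW
    have hR := h.R547
    obtain ⟨k, hk⟩ := hme
    rcases h.big with ⟨hq, hRv⟩ | ⟨hq, hRv⟩ | ⟨hq5, hq13, hRv⟩
    · -- `q = 3`
      have h3 : (u ^ k) ^ 2 = 1093 := by
        rw [← pow_mul, show k * 2 = m by omega]
        omega
      have h4 : 33 < u ^ k := by
        by_contra hcon
        have : (u ^ k) ^ 2 ≤ 33 ^ 2 := Nat.pow_le_pow_left (by omega) 2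
        omega
      have h5 : 34 ^ 2 ≤ (u ^ k) ^ 2 := Nat.pow_le_pow_left h4 2
      omega
    · have h3 : (u ^ k) ^ 2 = 1280581 := by
        rw [← pow_mul, show k * 2 = m by omega]
        omega
      have h4 : 1131 < u ^ k := by
        by_contra hcon
        have : (u ^ k) ^ 2 ≤ 1131 ^ 2 := Nat.pow_le_pow_left (by omega) 2
        omega
      have h5 : 1132 ^ 2 ≤ (u ^ k) ^ 2 := Nat.pow_le_pow_left h4 2
      omega
    · have hq3 : q ≠ 3 := by omega
      obtain ⟨z, hz⟩ : ∃ z, u ^ (m - 1) = z := ⟨_, rfl⟩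
      have huM : u ^ m = u * z := by rw [← hz, ← pow_succ']; congr 1; omega
      have hz3 : u ^ 3 ≤ z := by rw [← hz]; exact Nat.pow_le_pow_right (by omega) (by omega)
      rw [huM] at h1
      rw [hz] at h2
      have hz1 : 9 * u ≤ z := by
        refine le_trans ?_ hz3
        calc 9 * u = 3 ^ 2 * u := by norm_num
          _ ≤ u ^ 2 * u := Nat.mul_le_mul_right _ (Nat.pow_le_pow_left hu 2)
          _ = _ := by ring
      have h4 : 4 * E + u + 1 = u * z + z := by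
        obtain ⟨y, hy⟩ : ∃ y, z = y + 1 := ⟨z - 1, by omega⟩
        rw [h2, hy, Nat.add_sub_cancel]
        ring
      have h3z : 3 * z ≤ u * z := Nat.mul_le_mul_right _ hu
      have hs2 := h.small2 hq3 hq13
      rcases h.spec2 hW (by omega) (by omega) (by (clear * - h1 h4 h3z; omega)) with ⟨D, hD, h5⟩ | h5 | ⟨D, hD, h5⟩
      · have := h.above hD h5
        (clear * - h1 h4 h3z this; omega)
      · have h6 := h.X_bd.2
        have h8 : (R : ℤ) ≤ 3 * ((R : ℤ) - E) := by omega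
        have h9 := mul_le_mul_of_nonneg_left h8 h.wZ.le
        have h10 := sq_nonneg ((q : ℤ) + 1)
        have h11 : (w : ℤ) * (3 * ((R : ℤ) - E)) = 3 * ((q : ℤ) ^ 5 - (q : ℤ) ^ 2 + 2) := by rw [← h5]; ring
        rw [h.hRZ, h11] at h9
        have h12 : (0 : ℤ) < (q : ℤ) ^ 7 + 1 := by positivity
        linarith only [h6, h9, h10, h12]
      · have h1Z : (R : ℤ) * 2 = (u : ℤ) * z + 1 := by
          have : R * 2 = u * z + 1 := by omega
          exact_mod_cast this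
        have h6Z : (2 : ℤ) * ((2 * E : ℤ) - R) = z - u - 2 := by
          have h7 : (4 : ℤ) * E + u + 1 = u * z + z := by exact_mod_cast h4
          linear_combination h7 - h1Z
        have hcr := cross h5 h.hRZ h1Z h6Z
        exact h.typeO hD hpu (by omega) hz3 (by (clear * - hu hz1 h3z; omega)) hcr
  d3 := by
    intro E hp3 h1 hW
    have hR := h.R547
    obtain ⟨hq3, hq9⟩ := h.ne39 hp3
    obtain ⟨D, hD, h5⟩ := h.spec_above hW (by omega)
    have h6 := h.w_le'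
    have h7 : 9 * D = ((q : ℤ) ^ 7 + 1) - 25 * w := by
      rw [← h5, ← h.hRZ]
      linear_combination (w : ℤ) * h1
    have h3 := h.q3
    have ho := h.q_odd
    have hw := h.wZ
    have hcase : q = 5 ∨ q = 7 ∨ 11 ≤ q := by omega
    rcases hcase with hq | hq | hq
    · rcases hD with rfl | rfl | ⟨-, rfl⟩ <;> rw [hq] at h7 h6 <;> norm_num only [] at h7 h6 <;> omega
    · rcases hD with rfl | rfl | ⟨-, rfl⟩ <;> rw [hq] at h7 h6 <;> norm_num only [] at h7 h6 <;> omega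
    · have h8 := h.DU_9 hq hD
      linarith only [h6, h7, h8]
  d5 := by
    intro E h1 hW
    have hR := h.R547
    obtain ⟨D, hD, h5⟩ := h.spec_above hW (by omega)
    have h7 : 5 * D = ((q : ℤ) ^ 7 + 1) + 9 * w := by
      rw [← h5, ← h.hRZ]
      linear_combination (w : ℤ) * h1
    have hw := h.wZ
    have h3 := h.q3
    have ho := h.q_odd
    have hq : q = 3 ∨ q = 5 ∨ 7 ≤ q := by omega
    have hww := h.hw
    have hc := h.hc
    rcases hq with hq | hq | hq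
    · rw [hq] at hc hww
      norm_num at hc
      rw [hc] at hww
      norm_num at hww
      rw [hww] at h7
      rcases hD with rfl | rfl | ⟨-, rfl⟩ <;> rw [hq] at h7 <;> norm_num at h7
    · rw [hq] at hc hww
      norm_num at hc
      rw [hc] at hww
      norm_num at hww
      rw [hww] at h7
      rcases hD with rfl | rfl | ⟨-, rfl⟩ <;> rw [hq] at h7 <;> norm_num at h7
    · have := h.DU_5 hq hD
      linarith only [h7, hw, this]
  p3 := by
    intro E hp3 h1 hW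
    have hR := h.R547
    obtain ⟨hq3, hq9⟩ := h.ne39 hp3
    have hw := h.wZ
    have h3 := h.q3
    have ho := h.q_odd
    have hs := h.small3 hq3
    rcases h.spec2 hW (by omega) (by omega) (by omega) with ⟨D, hD, h5⟩ | h5 | ⟨D, hD, h5⟩
    · have := h.above hD h5
      omega
    · have h6 := h.X_bd.2
      have h7 : 3 * ((R : ℤ) - E) = R - 4 := by omega
      have h8 : 3 * ((q : ℤ) ^ 5 - (q : ℤ) ^ 2 + 2) = ((q : ℤ) ^ 7 + 1) - 4 * w := by
        rw [← h5, ← h.hRZ]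
        linear_combination (w : ℤ) * h7
      have h9 := h.w_le'
      have h10 := h.X_bd.1
      have h11 := sq_nonneg ((q : ℤ) + 1)
      linarith only [h6, h8, h9, h10]
    · have h6 := (h.DU_bd hD).2.2.2.2 (by omega)
      have h7 : 3 * ((2 * E : ℤ) - R) = R + 8 := by omega
      have h8 : 3 * D = ((q : ℤ) ^ 7 + 1) + 8 * w := by
        rw [← h5, ← h.hRZ]
        linear_combination (w : ℤ) * h7
      have h10 : (0 : ℤ) < (q : ℤ) ^ 7 + 1 := by positivity
      linarith only [h6, h8, h10]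
  half := by
    intro E hRp h1 hW
    have hR := h.R547
    rcases h.big with ⟨hq, hRv⟩ | ⟨hq, hRv⟩ | ⟨hq5, hq13, hRv⟩
    · exact Or.inr (Or.inr hRv)
    · exfalso
      rw [hRv] at hRp
      revert hRp
      norm_num
    · exfalso
      have hs2 := h.small2 (by omega) hq13
      rcases h.spec2 hW (by omega) (by omega) (by omega) with ⟨D, hD, h5⟩ | h5 | ⟨D, hD, h5⟩
      · have := h.above hD h5
        omega
      · have h6 := h.X_bd.2
        have h7 : 2 * ((R : ℤ) - E) = R - 1 := by omega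
        have h8 : 2 * ((q : ℤ) ^ 5 - (q : ℤ) ^ 2 + 2) = ((q : ℤ) ^ 7 + 1) - w := by
          rw [← h5, ← h.hRZ]
          linear_combination (w : ℤ) * h7
        have h9 := h.w_le'
        have h10 : (0 : ℤ) < (q : ℤ) ^ 7 + 1 := by positivity
        have h11 := sq_nonneg ((q : ℤ) + 1)
        linarith only [h6, h8, h9, h10]
      · have h6 := (h.DU_bd hD).1
        have h7 : (2 * E : ℤ) - R = 1 := by omega
        rw [h7, mul_one] at h5
        have h9 := h.w_le'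
        have := h.wZ
        linarith only [h5, h6, h9]

end UNum

end Cfsg.Agent.R2.Spec.X7
end

-- part: R2/Spec/X7/U7/Main
section
/-!
# `PSU_7(q)`, `q` odd: no composition factors of Lie type in other characteristics (helper27)
-/

set_option autoImplicit false

namespace Cfsg.Agent.R2.Spec.X7

open Finset Function Cfsg Subgroup Cfsg.Agent.H420.QR Cfsg.Agent.H360.Iso
open Cfsg.Agent.H426.LieFam Cfsg.Agent.R2.Spec Cfsg.Agent.R2.Spec.F1

universe u w

/-- **`PSU_7(q)`.** -/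
theorem noCross_psu7 {p f : ℕ} (hp : p.Prime) (hp2 : p ≠ 2) {L : Type w} [Group L] [Finite L]
    (hL : Fam.Is p f L (.psu 7)) : NoCross.{u, w} p L := by
  have hfp := Fact.mk hp
  have hcoq : Coq3 L := coq3_of_classes (t := .psu 7) trivial hp hL hp2 (i := 5) (j := 6) (k := 7) (by norm_num)
    (by norm_num) (by norm_num) (show 5 ≤ 7 by norm_num) (show 6 ≤ 7 by norm_num) (show 7 ≤ 7 by norm_num)
    ⟨by norm_num, by norm_num, by norm_num⟩ ⟨by norm_num, by norm_num, by norm_num⟩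
    ⟨by norm_num, by norm_num, by norm_num⟩ (by norm_num) (by norm_num)
  obtain ⟨-, -, F, _, _, _, hF, ⟨e0⟩⟩ := hL
  have e : L ≃* PSU 7 F (p ^ f) := e0
  clear e0
  have hnp : Nat.Prime 7 := by norm_num
  have hf : f ≠ 0 := by
    rintro rfl
    have := Fintype.one_lt_card (α := F)
    rw [hF] at this
    simp at this
  generalize hq : p ^ f = q at hF e
  replace hq := hq.symm
  have hq3 : 3 ≤ q := by
    have h1 := Nat.le_self_pow hf p
    have h2 := hp.two_le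
    omega
  have ht := (par_minus hq3).ht
  obtain ⟨R, hR⟩ := gcd_mul_dvd_ua (s := -(q : ℤ)) (n := 7) ht
  rw [mul_comm] at hR
  have hua : ua (-(q : ℤ)) 7 = q ^ 7 + 1 := ua_minus_odd (by decide)
  have hR0 : 0 < R := by
    rcases Nat.eq_zero_or_pos R with h | h
    · exfalso
      rw [h, zero_mul] at hR
      omega
    · exact h
  have hP : UNum p q (Nat.gcd 7 (q + 1)) (Nat.gcd 7 (q + 1) * (q + 1)) R :=
    ⟨hp, hp2, ⟨f, by omega, hq⟩, rfl, rfl, by rw [← hR, hua]⟩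
  have hwp := hP.w_pos
  have hbig := hP.big
  have hprime : ∀ r : ℕ, r.Prime → r ∣ R → 7 < r ∧ r ≠ p ∧ orderOf (-(q : ZMod r)) = 7 := by
    intro r hr hrR
    have h0 := lt_of_dvd_iso hnp (by norm_num) ht (by omega) hR.symm hR0 hr hrR
    refine ⟨h0.1, ?_, ?_⟩
    · rintro rfl
      have h1 : r ∣ q ^ 7 + 1 := by
        rw [← hua, hR]
        exact hrR.mul_right _
      have h2 : r ∣ q ^ 7 := (dvd_pow_self r hf).trans (by rw [← hq]; exact dvd_pow_self q (by omega))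
      have h4 := (Nat.dvd_add_right h2).1 h1
      exact hr.one_lt.ne' (Nat.dvd_one.1 h4)
    · have h1 := h0.2
      push_cast at h1
      exact h1
  have hRe : R = (Cfsg.Agent.H364.Unitary.sg q 7).natAbs / Nat.gcd 7 (q + 1) := by
    have h1 := Cfsg.Agent.H437.Win.sg_natAbs (q := q) (n := 7) (by decide)
    have h2 : R * Nat.gcd 7 (q + 1) = (Cfsg.Agent.H364.Unitary.sg q 7).natAbs := by
      apply Nat.eq_of_mul_eq_mul_right (show 0 < q + 1 by omega)
      rw [h1, ← hua, hR]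
      ring
    rw [← h2, Nat.mul_div_cancel _ hP.c_pos]
  have iso : ∀ (x : PSU 7 F q) (r : ℕ), r.Prime → r ∣ R → r ∣ orderOf x → orderOf x ∣ R := by
    intro x r hr hrR hrx
    obtain ⟨-, hrp, hra⟩ := hprime r hr hrR
    rw [hRe]
    refine Cfsg.Agent.H364.Unitary.psu_orderOf_dvd hF hr ?_ (by omega) (by omega) hra hrx
    intro h0
    have h1 := (CharP.cast_eq_zero_iff F p r).1 h0
    exact hrp ((Nat.prime_dvd_prime_iff_eq hp hr).1 h1).symm
  have elt : ∃ x : PSU 7 F q, orderOf x = R := by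
    obtain ⟨x, hx⟩ := Cfsg.Agent.H364.UTorus.exists_psu_orderOf hF (n := 7) (by decide) (by omega)
    have h1 : (q ^ 7 + 1) / (q + 1) = R * Nat.gcd 7 (q + 1) := by
      rw [← hua, hR]
      rw [show R * (Nat.gcd 7 (q + 1) * (q + 1)) = R * Nat.gcd 7 (q + 1) * (q + 1) by ring]
      exact Nat.mul_div_cancel _ (by omega)
    rw [h1] at hx
    have h2 : R ∣ orderOf x := Nat.dvd_of_mul_dvd_mul_right hP.c_pos hx
    obtain ⟨r, hr, hrR⟩ := Nat.exists_prime_and_dvd (n := R) (by omega)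
    exact ⟨x, Nat.dvd_antisymm (iso x r hr hrR (hrR.trans h2)) h2⟩
  have hcard := Cfsg.Agent.S0280.result (F := F) (q := q) hF 7 (by norm_num)
  have hce : Nat.card L = Nat.card (PSU 7 F q) := Nat.card_congr e.toEquiv
  rw [← hce] at hcard
  have hnd : ∀ r : ℕ, r.Prime → q = 3 → (r = 41 ∨ r = 137) → ¬ r ∣ Nat.card L := by
    intro r hr h3 hqr hd
    have h1 : r ∣ q ^ (7 * (7 - 1) / 2) * ∏ i ∈ Finset.range 7, (if Even i then q ^ (i + 1) + 1 else q ^ (i + 1) - 1) := by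
      rw [← hcard]
      exact (hd.mul_left _).mul_left _
    have e0 : Even 0 := by decide
    have e1 : ¬ Even 1 := by decide
    have e2 : Even 2 := by decide
    have e3 : ¬ Even 3 := by decide
    have e4 : Even 4 := by decide
    have e5 : ¬ Even 5 := by decide
    have e6 : Even 6 := by decide
    rw [Finset.prod_range_succ, Finset.prod_range_succ, Finset.prod_range_succ, Finset.prod_range_succ,
      Finset.prod_range_succ, Finset.prod_range_succ, Finset.prod_range_succ, Finset.prod_range_zero, if_pos e0,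
      if_neg e1, if_pos e2, if_neg e3, if_pos e4, if_neg e5, if_pos e6] at h1
    rcases hqr with h4 | h4
    · rw [h3, h4] at h1; norm_num at h1
    · rw [h3, h4] at h1; norm_num at h1
  refine NoCross.congr (noCross_of (L := L) hP.nc ?_ ?_ ?_ (fun r hr hrR => (hprime r hr hrR).1) hcoq ?_ ?_ ?_ ?_ ?_)
    (MulEquiv.refl L)
  · intro y
    have h1 : orderOf (e y) = orderOf y := orderOf_injective e.toMonoidHom e.injective y
    rw [← h1]
    exact window_psu hq hq3 hp2 hnp (by omega) (e y)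
  · intro x r hr hrR hrx
    have h1 : orderOf (e x) = orderOf x := orderOf_injective e.toMonoidHom e.injective x
    rw [← h1] at hrx ⊢
    exact iso (e x) r hr hrR hrx
  · obtain ⟨x, hx⟩ := elt
    exact ⟨e.symm x, by rw [← hx]; exact orderOf_injective e.symm.toMonoidHom e.symm.injective x⟩
  · intro h1; omega
  · intro h1; omega
  · intro h1; omega
  · intro h1
    exact hnd 41 (by norm_num) (by omega) (Or.inl rfl)
  · intro h1
    exact hnd 137 (by norm_num) (by omega) (Or.inr rfl)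

end Cfsg.Agent.R2.Spec.X7
end
end

-- part: R2/Spec/F1/HW
section
prune_inst 0x4c06072440d8200080000009653003e06b600010000288001f800070e0f86df2a8d422120fcb01d0288c8328450780048110001f00240000004003400011a00a088ab140271b5ac0cf60007808086000000000000000000000000000000041004000000000
set_option linter.all false
open scoped Cfsg.Agent.FastGrp

/-!
# `PSp_2n(q)`, `Ω_2n+1(q)`, `n ≥ 6` even, `q` odd: tori of `L` in `S` (helper23)

* `LS.sc` : the primes of the class `n - 1` (`2n - 2`) lie in one big class `j` of `S`; the odd divisors `N` of the torus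
  all of whose primes have this class are element orders of `S` and divide `tnum t' u j`;
* `LS.wfac` : `(q ^ n + 1) / 2 = h * E`, `h` odd, `h ∣ f'`, `E` an element order of `S` divisible by the primes of the class
  `2n`.
-/

set_option autoImplicit false
set_option linter.unusedSectionVars false
set_option linter.unusedVariables false

namespace Cfsg.Agent.R2.Spec.F1

open Subgroup Cfsg
open Cfsg.Agent.H426.LieFam Cfsg.Agent.R2.Spec Cfsg.Agent.R2.Spec.P1
open Cfsg.Agent.H420.QR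

universe u w

variable {t : Fam} {p f : ℕ} {L : Type w} [Group L] [Finite L] {G : Type u} [Group G] [Finite G]
variable {K : Subgroup G} [K.Normal] {S : Subgroup (G ⧸ K)} [S.Normal]
variable {t' : Fam} {v f' : ℕ}

/-- element orders prime to `|K| |G / K : S|` -/
theorem order_good {N : ℕ} (hN : ∃ x : G, orderOf x = N) (hg : ∀ r : ℕ, r.Prime → r ∣ N → ¬ r ∣ Nat.card K * S.index) :
    ∃ y : S, orderOf y = N := by
  obtain ⟨x, hx⟩ := hN
  have hcop : Nat.Coprime (orderOf x) (Nat.card K) := by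
    rw [hx]
    by_contra hcon
    obtain ⟨r, hr, h1, h2⟩ := Nat.Prime.not_coprime_iff_dvd.1 hcon
    exact hg r hr h1 (h2.mul_right _)
  obtain ⟨h, E, hE, hi, y, hy⟩ := order_fac (S := S) hcop
  rw [hx] at hE
  have h1 : h = 1 := by
    by_contra hcon
    obtain ⟨r, hr, hrh⟩ := Nat.exists_prime_and_dvd hcon
    exact hg r hr (by rw [hE]; exact hrh.mul_right _) (Dvd.dvd.mul_left (hrh.trans hi) _)
  rw [h1, one_mul] at hE
  exact ⟨y, by rw [hy, hE]⟩

/-- **The classes `n - 1`, `2n - 2` : one class of `S`.** -/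
theorem LS.sc (h : LS t p f L G) (hL : Fam.Is p f L t) (hR : Red G K S) (hF : Frm G K S t' v f') (hp2 : p ≠ 2)
    (ht : CE t) {i : ℕ} (hi : i = rk t - 1 ∨ i = 2 * rk t - 2) :
    ∃ j, 3 ≤ j ∧ mem t' j ∧ rk t' < 2 * wt t' j ∧
      (∀ w : ℕ, w.Prime → cls t (p ^ f) w = i → cls t' (v ^ f') w = j) ∧
      ∀ N : ℕ, Odd N → N ∣ tnum t (p ^ f) i → (∀ w : ℕ, w.Prime → w ∣ N → cls t (p ^ f) w = i) →
        (∃ y : S, orderOf y = N) ∧ N ∣ tnum t' (v ^ f') j := by
  obtain ⟨hn, hn2⟩ := ht.rk6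
  have hiJ : i ∈ JJ (rk t) := by
    rw [mem_JJ]
    omega
  obtain ⟨w0, hw0⟩ := h.exists_J hp2 ht hiJ
  have hmem : ∀ {w : ℕ}, In t (p ^ f) i w → mem t' (cls t' (v ^ f') w) := fun {w} hw =>
    hF.mem_cls hw.prime hw.ne_two (h.good_J hR hF hp2 ht hiJ hw.prime hw.cls_eq).2
      (h.nl hL hR hF hp2 ht hi hw.prime hw.cls_eq).1
  have huniq : ∀ w : ℕ, w.Prime → cls t (p ^ f) w = i → cls t' (v ^ f') w = cls t' (v ^ f') w0 := by
    intro w hw hwi
    by_cases hww : w = w0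
    · rw [hww]
    have hwI := ht.in_J hiJ hw hwi
    obtain ⟨g1, g2⟩ := h.good_J hR hF hp2 ht hiJ hw hwi
    obtain ⟨g1', g2'⟩ := h.good_J hR hF hp2 ht hiJ hw0.prime hw0.cls_eq
    obtain ⟨k1, k2⟩ := h.nl hL hR hF hp2 ht hi hw hwi
    obtain ⟨k1', k2'⟩ := h.nl hL hR hF hp2 ht hi hw0.prime hw0.cls_eq
    have hadj : ∃ g : G, orderOf g = w * w0 := by
      rw [h.adj_iff hwI hw0 hww]
      exact fun hna => na_ne hna rfl
    have hadjS := adj_S_of_good hw hw0.prime g1 g1' hadj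
    rw [hF.na_of hw hw0.prime hww k1 k1' g2 g2'] at hadjS
    by_contra hne
    exact hadjS (na_of_big hF.cla ⟨k1, hmem hwI, k2⟩ ⟨k1', hmem hw0, k2'⟩ hne)
  refine ⟨cls t' (v ^ f') w0, (h.nl hL hR hF hp2 ht hi hw0.prime hw0.cls_eq).1, hmem hw0,
    (h.nl hL hR hF hp2 ht hi hw0.prime hw0.cls_eq).2, huniq, ?_⟩
  intro N hNo hNd hNp
  have hyS : ∃ y : S, orderOf y = N := by
    refine order_good ?_ fun r hr hrN => (h.good_J hR hF hp2 ht hiJ hr (hNp r hr hrN)).1
    rw [h.ord]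
    exact (torFacts ht.cla h.prime hL).tor i N hw0.reg hw0.mem hNo (fun r hr hrN => by
      rw [hNp r hr hrN]
      exact hw0.reg) hNd
  refine ⟨hyS, ?_⟩
  rw [Nat.dvd_iff_prime_pow_dvd_dvd]
  intro r k hr hk
  rcases Nat.eq_zero_or_pos k with rfl | hk0
  · rw [pow_zero]; exact one_dvd _
  have hrN : r ∣ N := (dvd_pow_self r (by omega)).trans hk
  have hri := hNp r hr hrN
  have hrI := ht.in_J hiJ hr hri
  obtain ⟨k1, k2⟩ := h.nl hL hR hF hp2 ht hi hr hri
  obtain ⟨-, hrq, -⟩ := cls_facts hr k1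
  rw [← huniq r hr hri]
  refine (torFacts hF.cla hF.prime hF.is).big r k hr hrI.ne_two (fun hd => hrq (hd.trans (dvd_pow_self v hF.f_ne))) k1
    (hmem hrI) k2 (exists_dvd_order ?_ hk hyS)
  rintro rfl
  exact absurd hNo (by decide)

theorem two_dvd_sub_one {q : ℕ} (hq : q % 2 = 1) : Nat.gcd 2 (q - 1) = 2 := by
  apply Nat.gcd_eq_left
  omega

end Cfsg.Agent.R2.Spec.F1
end

-- part: R2/Spec/X5/WFac_mg
section
prune_inst 0xc06072440d82000800000096130020043400010000208001f800070e0306d3288d4221004ca01c02080c120010000000000000f0004000000400300000020020882a14000100000c460001800086000000000000000000000000000000041004000000000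
set_option linter.all false
open scoped Cfsg.Agent.FastGrp

-- part: R2/Spec/X5/WFac
section
/-!
# S3435, box X5 (helper12): the torus of the class `2n` (variant of helper23's `LS.wfac`, hypothesis `v ∤ (q ^ n + 1) / 2`)
-/

set_option autoImplicit false
set_option linter.unusedSectionVars false
set_option linter.unusedVariables false

namespace Cfsg.Agent.R2.Spec.X5

open Subgroup Cfsg
open Cfsg.Agent.H426.LieFam Cfsg.Agent.R2.Spec Cfsg.Agent.R2.Spec.P1 Cfsg.Agent.R2.Spec.F1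
open Cfsg.Agent.H420.QR

universe u w

variable {t : Fam} {p f : ℕ} {L : Type w} [Group L] [Finite L] {G : Type u} [Group G] [Finite G]
variable {K : Subgroup G} [K.Normal] {S : Subgroup (G ⧸ K)} [S.Normal]
variable {t' : Fam} {v f' : ℕ}

/-- **The torus of the class `2n`.** -/
theorem wfacX (h : LS t p f L G) (hL : Fam.Is p f L t) (hR : Red G K S) (hF : Frm G K S t' v f') (hp2 : p ≠ 2)
    (ht : CE t) (hv : ¬ v ∣ ((p ^ f) ^ rk t + 1) / 2) :
    (∃ a E, ((p ^ f) ^ rk t + 1) / 2 = a * E ∧ Odd a ∧ a ∣ f' ∧ (∃ y : S, orderOf y = E) ∧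
      ∀ w : ℕ, w.Prime → cls t (p ^ f) w = 2 * rk t → w ∣ E) ∧
      ∀ w : ℕ, w.Prime → cls t (p ^ f) w = 2 * rk t → 3 ≤ cls t' (v ^ f') w ∧ nap t' (cls t' (v ^ f') w) := by
  classical
  have hS := h.bigS_CE hR hF hp2 ht
  have hq3 := h.q_three hp2
  have hqo := h.q_odd hp2
  obtain ⟨hn, hn2⟩ := ht.rk6
  obtain ⟨n, hn'⟩ : ∃ n, n = rk t := ⟨_, rfl⟩
  obtain ⟨q, hq⟩ : ∃ q, q = p ^ f := ⟨_, rfl⟩
  obtain ⟨m, hm⟩ : ∃ m, n = 2 * m := ⟨n / 2, by omega⟩
  -- the number `A`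
  have hsq : ∃ k, q ^ n = 8 * k + 1 := by
    obtain ⟨b, hb⟩ : ∃ b, q = 2 * b + 1 := ⟨q / 2, by omega⟩
    have h1 : q ^ 2 % 8 = 1 := by
      have h2 : q % 8 = 1 ∨ q % 8 = 3 ∨ q % 8 = 5 ∨ q % 8 = 7 := by (clear * - hb; omega)
      rcases h2 with h2 | h2 | h2 | h2 <;> rw [Nat.pow_mod, h2]
    have h3 : q ^ n % 8 = 1 := by
      rw [hm, pow_mul, Nat.pow_mod, h1, one_pow]
      rfl
    exact ⟨q ^ n / 8, by omega⟩
  obtain ⟨A, hA⟩ : ∃ A, A = (q ^ n + 1) / 2 := ⟨_, rfl⟩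
  have hA2 : 2 * A = q ^ n + 1 := by
    obtain ⟨k, hk⟩ := hsq
    omega
  have hAo : A % 2 = 1 := by
    obtain ⟨k, hk⟩ := hsq
    omega
  have hA3 : ¬ 3 ∣ A := by
    intro h3
    have h4 : 3 ∣ q ^ n + 1 := by rw [← hA2]; exact Dvd.dvd.mul_left h3 2
    have h5 : q ^ 2 % 3 = 0 ∨ q ^ 2 % 3 = 1 := by
      rw [Nat.pow_mod]
      have : q % 3 = 0 ∨ q % 3 = 1 ∨ q % 3 = 2 := by (clear * -; omega)
      rcases this with h6 | h6 | h6 <;> rw [h6]
      · left; rfl
      · right; rfl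
      · right; rfl
    have h6 : q ^ n % 3 = 0 ∨ q ^ n % 3 = 1 := by
      rw [hm, pow_mul, Nat.pow_mod]
      rcases h5 with h5 | h5 <;> rw [h5]
      · left
        rw [zero_pow (by omega)]
        rfl
      · right
        rw [one_pow]
        rfl
    omega
  have hAd : A ∣ q ^ n + 1 := by rw [← hA2]; exact Dvd.intro_left 2 rfl
  -- its prime divisors
  have hAp : ∀ r : ℕ, r.Prime → r ∣ A → 5 ≤ r ∧ ¬ r ∣ q ^ 2 - 1 ∧ ¬ r ∣ q := by
    intro r hr hd
    have hr2 : r ≠ 2 := by rintro rfl; omega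
    have hr3 : r ≠ 3 := by rintro rfl; exact hA3 hd
    have hr4 : r ≠ 4 := by rintro rfl; exact absurd hr (by norm_num)
    have := hr.two_le
    have hd' := hd.trans hAd
    refine ⟨by omega, ?_, ?_⟩
    · intro h1
      have h2 : r ∣ q ^ n - 1 := by
        rw [hm, pow_mul]
        exact h1.trans (Nat.sub_one_dvd_pow_sub_one _ _)
      have h3 := Nat.one_le_pow n q (by omega)
      have h4 : r ∣ q ^ n + 1 - (q ^ n - 1) := Nat.dvd_sub hd' h2
      rw [show q ^ n + 1 - (q ^ n - 1) = 2 by (clear * - hsq; omega)] at h4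
      exact hr2 ((Nat.prime_dvd_prime_iff_eq hr Nat.prime_two).1 h4)
    · intro h1
      have h2 : r ∣ q ^ n := h1.trans (dvd_pow_self q (by omega))
      have h4 := (Nat.dvd_add_right h2).1 hd'
      exact hr.one_lt.ne' (Nat.dvd_one.1 h4)
  have hvA : ¬ v ∣ A := fun hd => hv (by rw [← hq, ← hn', ← hA]; exact hd)
  have hKA : ∀ r : ℕ, r.Prime → r ∣ A → ¬ r ∣ Nat.card K := by
    intro r hr hd hK
    obtain ⟨h1, h2, h3⟩ := hAp r hr hd
    have hrv : r ≠ v := by rintro rfl; exact hvA hd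
    have h4 := h.kprime_cls hR hF hS (by omega) hq3 hr hrv hK
    exact h2 (by
      rw [hq]
      exact dvd_sq_of_cls (by omega) hr (by rw [← hq]; exact h3) h4)
  -- the element of order `A`
  have htf := top_facts_all ht.cla h.prime hL
  have htop : top t (2 * rk t) := by
    obtain ⟨k, rfl | rfl, -⟩ := ht
    · exact Or.inl rfl
    · exact Or.inl rfl
  have htt : ttor t (p ^ f) (2 * rk t) = A := by
    rw [hA, hq, hn']
    obtain ⟨k, rfl | rfl, -⟩ := ht
    · change (if 2 * k = 2 * k then _ else _) = _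
      rw [if_pos rfl, two_dvd_sub_one hqo]
      rfl
    · change (if 2 * k = 2 * k then _ else _) = _
      rw [if_pos rfl, two_dvd_sub_one hqo]
      rfl
  obtain ⟨x, hx⟩ := (h.ord A).2 (by
    obtain ⟨y, hy⟩ := htf.elt _ htop
    exact ⟨y, by rw [hy, htt]⟩)
  have hcop : Nat.Coprime (orderOf x) (Nat.card K) := by
    rw [hx]
    by_contra hcon
    obtain ⟨r, hr, h1, h2⟩ := Nat.Prime.not_coprime_iff_dvd.1 hcon
    exact hKA r hr h1 h2
  obtain ⟨a, E, hE, hi, y, hy⟩ := order_fac (S := S) hcop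
  rw [hx] at hE
  have haA : a ∣ A := by rw [hE]; exact Dvd.intro _ rfl
  have hao : Odd a := by
    rw [← Nat.not_even_iff_odd, even_iff_two_dvd]
    intro h2
    have := h2.trans haA
    (clear * - hAo this; omega)
  -- the primes of the class `2n`
  have hcl : ∀ w : ℕ, w.Prime → cls t (p ^ f) w = 2 * rk t → w ∣ A ∧ In t (p ^ f) (2 * rk t) w := by
    intro w hw hwc
    have hwI : In t (p ^ f) (2 * rk t) w := ht.in_J (by rw [mem_JJ]; (clear * - hn; omega)) hw hwc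
    have h1 := dvd_tn_cls ht (by omega) hwI
    rw [ht.tn, Cfsg.Agent.H72.AdjOrth.tn, if_pos (by rw [even_iff_two_dvd]; exact Dvd.intro _ rfl),
      Nat.mul_div_cancel_left _ (by norm_num), ← hq, ← hn', ← hA2] at h1
    refine ⟨(hw.dvd_mul.1 h1).resolve_left fun h2 => ?_, hwI⟩
    exact hwI.ne_two ((Nat.prime_dvd_prime_iff_eq hw Nat.prime_two).1 h2)
  -- `w` is not adjacent to `v`
  have hnap : ∀ w : ℕ, w.Prime → cls t (p ^ f) w = 2 * rk t → 3 ≤ cls t' (v ^ f') w ∧ nap t' (cls t' (v ^ f') w) := by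
    intro w hw hwc
    obtain ⟨-, hwI⟩ := hcl w hw hwc
    have j0 : 2 * rk t ∈ JJ (rk t) := by rw [mem_JJ]; (clear * - hn; omega)
    have hwv := h.ne_v_J hR hF hp2 ht j0 hwI.prime hwI.cls_eq
    have hwS := (h.good_J hR hF hp2 ht j0 hwI.prime hwI.cls_eq).2
    have hnv : ¬ ∃ g : S, orderOf g = v * w := by
      intro hg
      obtain ⟨x, hx⟩ := (h.ord _).1 (exists_of_S hg)
      have h1 := htf.ub w hwI.prime (hwI.not_dvd h.fpos) (by rw [hwI.cls_eq]; exact htop) x (by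
        rw [hx]; exact Dvd.intro_left _ rfl)
      rw [hwI.cls_eq, htt, hx] at h1
      exact hvA ((Dvd.intro _ rfl).trans h1)
    rcases hF.vcase hwI.prime hwI.ne_two hwv hwS hnv with h1 | ⟨h1, h2, hk⟩
    · exact h1
    · have := (rk_of_bigS hF hS).2.2.1 hk
      omega
  have hwE : ∀ w : ℕ, w.Prime → cls t (p ^ f) w = 2 * rk t → w ∣ E := by
    intro w hw hwc
    obtain ⟨h1, h2⟩ := hcl w hw hwc
    have hg := (h.good_J hR hF hp2 ht (by rw [mem_JJ]; (clear * - hn; omega)) hw hwc).1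
    rw [hE] at h1
    exact (hw.dvd_mul.1 h1).resolve_left fun h3 => hg (Dvd.dvd.mul_left (h3.trans hi) _)
  refine ⟨⟨a, E, by rw [← hq, ← hn', ← hA]; exact hE, hao, ?_, ⟨y, hy⟩, hwE⟩, hnap⟩
  -- the field primes
  refine hF.dvd_f hi fun r hr hra => ?_
  obtain ⟨hr5, hr2, hrq⟩ := hAp r hr (hra.trans haA)
  refine ⟨hr5, fun hrd => ?_⟩
  have hfr := Fact.mk hr
  -- the class of `r`
  have hrp : ¬ r ∣ p := fun hd => hrq (by rw [hq]; exact hd.trans (dvd_pow_self p (by have := h.fpos; omega)))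
  obtain ⟨l, hl⟩ : ∃ l, l = cls t (p ^ f) r := ⟨_, rfl⟩
  have hl3 : 3 ≤ l := by
    by_contra hcon
    exact hr2 (by
      rw [hq]
      exact dvd_sq_of_cls (by omega) hr (by rw [← hq]; exact hrq) (by rw [← hl]; omega))
  have hrL : r ∣ Nat.card L := by
    obtain ⟨y, hy⟩ := htf.elt _ htop
    rw [htt] at hy
    have h1 := _root_.orderOf_dvd_natCard y
    rw [hy] at h1
    exact (hra.trans haA).trans h1
  have hrI : In t (p ^ f) l r := ⟨hr, hl.symm, hl3, by
    rw [hl]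
    exact (h.adj.dvd r hr (by omega) hrp (by rw [← hl]; exact hl3)).1 hrL⟩
  have hrA := (hra.trans haA).trans hAd
  have hz : ((q : ℕ) : ZMod r) ^ n = -1 := by
    have h3 := (ZMod.natCast_eq_zero_iff _ _).2 hrA
    push_cast at h3
    linear_combination h3
  have h20 : (2 : ZMod r) ≠ 0 := by
    intro h0
    have h1 : ((2 : ℕ) : ZMod r) = 0 := by push_cast; exact h0
    have := (Nat.prime_dvd_prime_iff_eq hr Nat.prime_two).1 ((ZMod.natCast_eq_zero_iff _ _).1 h1)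
    omega
  have hl' : l = orderOf ((q : ℕ) : ZMod r) := by rw [hl, ht.cls_eq, hq]
  have hl2n : l ∣ 2 * n := by
    rw [hl']
    apply orderOf_dvd_of_pow_eq_one
    rw [mul_comm, pow_mul, hz]
    ring
  have hln : ¬ l ∣ n := by
    intro h1
    rw [hl', orderOf_dvd_iff_pow_eq_one, hz] at h1
    apply h20
    linear_combination -h1
  -- `l` is even with odd quotient
  obtain ⟨c, hc⟩ := hl2n
  have hco : c % 2 = 1 := by
    by_contra hcon
    apply hln
    refine ⟨c / 2, ?_⟩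
    have h1 : c = 2 * (c / 2) := by omega
    rw [h1, mul_left_comm] at hc
    (clear * - hc; omega)
  have hle : l % 2 = 0 := by
    by_contra hcon
    have h1 : (l * c) % 2 = 1 := by
      rw [Nat.mul_mod, hco, show l % 2 = 1 by (clear * - hcon; omega)]
    (clear * - hc h1; omega)
  have hln' : l ≤ 2 * n := Nat.le_of_dvd (by (clear * - hn hn'; omega)) ⟨c, hc⟩
  have hoddl : OddMul l (2 * n) := ⟨c, hco, hc⟩
  have e1 := eta_two_mul' (n - 1)
  have e2 : eta (n - 1) = n - 1 := eta_odd (by (clear * - hn hn' hm; omega))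
  have e3 := eta_even hle
  have hna1 : na t l (2 * rk t - 2) := by
    rw [ht.na_iff, ← hn']
    rw [show 2 * n - 2 = 2 * (n - 1) by (clear * -; omega)]
    refine ⟨by (clear * - hl3 e1 e3; omega), ?_, ?_⟩
    · intro h1
      have := oddMul_diff h1 hoddl (by (clear * - hn hn'; omega))
      (clear * - hl3 this; omega)
    · rintro ⟨k, hk, hk'⟩
      have h1 : k = 1 := by
        by_contra hcon
        have : 3 ≤ k := by (clear * - hk hcon; omega)
        have := Nat.mul_le_mul_left (2 * (n - 1)) this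
        (clear * - hn hn' hln' hk' this; omega)
      rw [h1, mul_one] at hk'
      have := oddMul_diff (k := l) (a := l) (b := 2 * n) ⟨1, rfl, by ring⟩ hoddl (by (clear * - hn hn' hm hsq hfr hk'; omega))
      (clear * - hl3 hk' this; omega)
  have hna2 : na t l (rk t - 1) := by
    rw [ht.na_iff, ← hn']
    refine ⟨by (clear * - hl3 e2 e3; omega), ?_, ?_⟩
    · intro h1
      have := oddMul_parity h1
      (clear * - hn hn' hm hle this; omega)
    · intro h1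
      have := oddMul_parity h1
      (clear * - hn hn' hm hle this; omega)
  -- the three primes
  have j0 : 2 * rk t ∈ JJ (rk t) := by rw [mem_JJ]; (clear * - hn; omega)
  have j1 : 2 * rk t - 2 ∈ JJ (rk t) := by rw [mem_JJ]; (clear * - hn; omega)
  have j2 : rk t - 1 ∈ JJ (rk t) := by rw [mem_JJ]; (clear * - hn; omega)
  obtain ⟨w0, hw0⟩ := h.exists_J hp2 ht j0
  obtain ⟨w1, hw1⟩ := h.exists_J hp2 ht j1
  obtain ⟨w2, hw2⟩ := h.exists_J hp2 ht j2
  have hw0S := (h.good_J hR hF hp2 ht j0 hw0.prime hw0.cls_eq).2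
  have hw1S := (h.good_J hR hF hp2 ht j1 hw1.prime hw1.cls_eq).2
  have hw2S := (h.good_J hR hF hp2 ht j2 hw2.prime hw2.cls_eq).2
  have hw0v := h.ne_v_J hR hF hp2 ht j0 hw0.prime hw0.cls_eq
  have hw1v := h.ne_v_J hR hF hp2 ht j1 hw1.prime hw1.cls_eq
  have hw2v := h.ne_v_J hR hF hp2 ht j2 hw2.prime hw2.cls_eq
  obtain ⟨a1, b1, k, hk⟩ := hF.dcase hr hr5 hrd hw1.prime (hrI.ne hw1 (na_ne hna1)).symm (h.not_adj_S hrI hw1 hna1)
  obtain ⟨a2, b2, -⟩ := hF.dcase hr hr5 hrd hw2.prime (hrI.ne hw2 (na_ne hna2)).symm (h.not_adj_S hrI hw2 hna2)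
  have hb0 := hnap w0 hw0.prime hw0.cls_eq
  have hm0 := hF.mem_cls hw0.prime hw0.ne_two hw0S hb0.1
  have hm1 := hF.mem_cls hw1.prime hw1.ne_two hw1S a1
  have hm2 := hF.mem_cls hw2.prime hw2.ne_two hw2S a2
  have key : ∀ {x y : ℕ} {i j : ℕ}, In t (p ^ f) i x → In t (p ^ f) j y → i ∈ JJ (rk t) → j ∈ JJ (rk t) → i ≠ j →
      x ∣ Nat.card S → y ∣ Nat.card S → x ≠ v → y ≠ v → cls t' (v ^ f') x ≠ cls t' (v ^ f') y := by
    intro x y i j hx hy hi hj hij hxS hyS hxv hyv he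
    exact h.not_adj_S hx hy (ht.coq i hi j hj hij) (adj_same' hF.cla hF.prime hF.is hx.prime hy.prime hx.ne_two
      hy.ne_two (hx.ne hy hij) hxv hyv hxS hyS he)
  have k01 := key hw0 hw1 j0 j1 (by (clear * - hn; omega)) hw0S hw1S hw0v hw1v
  have k02 := key hw0 hw2 j0 j2 (by (clear * - hn; omega)) hw0S hw2S hw0v hw2v
  have k12 := key hw1 hw2 j1 j2 (by (clear * - hn; omega)) hw1S hw2S hw1v hw2v
  rcases hk with rfl | rfl
  · change cls (.psl k) (v ^ f') w0 ≤ k at hm0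
    change cls (.psl k) (v ^ f') w1 ≤ k at hm1
    change cls (.psl k) (v ^ f') w2 ≤ k at hm2
    have c0 : k < cls (.psl k) (v ^ f') w0 + 2 := hb0.2
    change k < cls (.psl k) (v ^ f') w1 + 2 at b1
    change k < cls (.psl k) (v ^ f') w2 + 2 at b2
    (clear * - k01 k02 k12 hm0 hm1 hm2 c0 b1 b2; omega)
  · change cls (.psu k) (v ^ f') w0 ≤ k at hm0
    change cls (.psu k) (v ^ f') w1 ≤ k at hm1
    change cls (.psu k) (v ^ f') w2 ≤ k at hm2
    have c0 : k < cls (.psu k) (v ^ f') w0 + 2 := hb0.2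
    change k < cls (.psu k) (v ^ f') w1 + 2 at b1
    change k < cls (.psu k) (v ^ f') w2 + 2 at b2
    (clear * - k01 k02 k12 hm0 hm1 hm2 c0 b1 b2; omega)



end Cfsg.Agent.R2.Spec.X5
end

-- part: R2/Spec/X5/Prim
section
/-!
# S3435, box X5 (helper12): the primitive parts of `q ^ 5 ∓ 1`, `q ^ 7 ∓ 1`, `q ^ 9 ∓ 1`
-/

set_option autoImplicit false

namespace Cfsg.Agent.R2.Spec.X5

open Cfsg.Agent.R2.Spec.P1.Eig

/-- the primitive part -/
theorem prim_z {s : ℕ} (hs : s.Prime) {z Φ : ℤ} (h1 : (z - 1) * Φ = z ^ s - 1) (h2 : ∃ B, Φ = s + (z - 1) * B)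
    (h3 : (s : ℤ) ∣ z - 1 → ∃ c, Φ = s + s ^ 2 * c) :
    ∃ R : ℤ, (R = Φ ∨ Φ = s * R) ∧ ∀ r : ℕ, r.Prime → (r : ℤ) ∣ R → (z : ZMod r) ^ s = 1 ∧ (z : ZMod r) ≠ 1 := by
  have hs0 : (s : ℤ) ≠ 0 := by exact_mod_cast hs.ne_zero
  have key : ∀ R : ℤ, R ∣ Φ → ¬ (s : ℤ) ∣ R → ∀ r : ℕ, r.Prime → (r : ℤ) ∣ R →
      (z : ZMod r) ^ s = 1 ∧ (z : ZMod r) ≠ 1 := by
    intro R hR hsR r hr hrR
    have hrΦ := hrR.trans hR
    constructor
    · have h4 : (r : ℤ) ∣ z ^ s - 1 := by rw [← h1]; exact hrΦ.mul_left _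
      have h5 := (ZMod.intCast_zmod_eq_zero_iff_dvd _ _).2 h4
      push_cast at h5
      linear_combination h5
    · intro h4
      obtain ⟨B, hB⟩ := h2
      have h5 : (r : ℤ) ∣ z - 1 := by
        rw [← ZMod.intCast_zmod_eq_zero_iff_dvd]
        push_cast
        rw [h4, sub_self]
      have h6 : (r : ℤ) ∣ s := by
        have h7 : (s : ℤ) = Φ - (z - 1) * B := by rw [hB]; ring
        rw [h7]
        exact dvd_sub hrΦ (h5.mul_right _)
      have h7 : r = s := (Nat.prime_dvd_prime_iff_eq hr hs).1 (by exact_mod_cast h6)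
      exact hsR (by rw [← h7]; exact hrR)
  by_cases hc : (s : ℤ) ∣ z - 1
  · obtain ⟨c, hc'⟩ := h3 hc
    refine ⟨1 + s * c, Or.inr (by rw [hc']; ring), key _ ⟨s, by rw [hc']; ring⟩ ?_⟩
    intro hd
    have h4 : (s : ℤ) ∣ 1 := by
      have := dvd_sub hd (Dvd.intro c rfl : (s : ℤ) ∣ s * c)
      rwa [add_sub_cancel_right] at this
    exact (Nat.prime_iff_prime_int.1 hs).not_isUnit (isUnit_of_dvd_one h4)
  · refine ⟨Φ, Or.inl rfl, key _ dvd_rfl ?_⟩
    intro hd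
    apply hc
    have hf := Fact.mk hs
    have h4 : (s : ℤ) ∣ z ^ s - 1 := by rw [← h1]; exact hd.mul_left _
    have h5 := (ZMod.intCast_zmod_eq_zero_iff_dvd _ _).2 h4
    push_cast at h5
    rw [ZMod.pow_card] at h5
    rw [← ZMod.intCast_zmod_eq_zero_iff_dvd]
    push_cast
    exact h5

theorem order_s {s r : ℕ} (hs : s.Prime) {z : ZMod r} (h : z ^ s = 1 ∧ z ≠ 1) : orderOf z = s := by
  have hf := Fact.mk hs
  exact orderOf_eq_prime h.1 h.2

theorem order_neg {r ℓ : ℕ} (hr : r.Prime) (hr2 : r ≠ 2) {q : ℕ} (hl : Odd ℓ) (h : orderOf (-(q : ZMod r)) = ℓ) :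
    orderOf (q : ZMod r) = 2 * ℓ := by
  have hf := Fact.mk hr
  have h1 : (q : ZMod r) = (-1) * (-(q : ZMod r)) := by ring
  have h2 : orderOf (-1 : ZMod r) = 2 := by
    rw [orderOf_neg_one, ZMod.ringChar_zmod_n, if_neg hr2]
  rw [h1, (Commute.all _ _).orderOf_mul_eq_mul_orderOf_of_coprime, h2, h]
  rw [h2, h]
  exact Nat.coprime_two_left.2 hl

/-- from the integer `R` to the natural number -/
theorem prim_nat {q n : ℕ} {δ : ℤ} (hδ : δ = 1 ∨ δ = -1) (hq : 3 ≤ q) (hqo : Odd q) {ℓ : ℕ} (hl : Odd ℓ) {Φ : ℤ} {s : ℕ}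
    {ρ : ℕ} (hs : s.Prime) (hΦ : Odd Φ) (hd : Φ ∣ (δ * q) ^ ℓ - 1) (hρ : s * (ρ : ℤ) ≤ n * Φ) (hn : 1 ≤ n)
    (hR : ∃ R : ℤ, (R = Φ ∨ Φ = s * R) ∧ ∀ r : ℕ, r.Prime → (r : ℤ) ∣ R → orderOf (((δ * q : ℤ)) : ZMod r) = ℓ) :
    ∃ R : ℕ, Odd R ∧ ρ ≤ n * R ∧ R ∣ AN δ ℓ q ∧
      ∀ r : ℕ, r.Prime → r ∣ R → orderOf (q : ZMod r) = if δ = 1 then ℓ else 2 * ℓ := by
  obtain ⟨R, hR1, hR2⟩ := hR
  have hRΦ : R ∣ Φ := by
    rcases hR1 with h | h
    · rw [h]
    · rw [h]; exact Dvd.intro_left _ rfl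
  have ho : Odd R.natAbs := by
    rw [Int.natAbs_odd]
    obtain ⟨c, hc⟩ := hRΦ
    rw [hc] at hΦ
    exact (Int.odd_mul.1 hΦ).1
  have hΦ0 : 0 ≤ Φ := by
    have : (0 : ℤ) ≤ s * ρ := by (clear * -; positivity)
    have h5 : (0 : ℤ) ≤ n * Φ := this.trans hρ
    have h6 : (0 : ℤ) < n := by exact_mod_cast hn
    by_contra hcon
    push Not at hcon
    nlinarith only [hρ, hn, hcon]
  have hRs : Φ ≤ s * (R.natAbs : ℤ) := by
    have h5 : R ≤ (R.natAbs : ℤ) := Int.le_natAbs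
    have h6 : (1 : ℤ) ≤ s := by exact_mod_cast hs.one_lt.le
    rcases hR1 with h | h
    · rw [← h]
      nlinarith only [h5, h6]
    · rw [h]
      nlinarith only [h5]
  refine ⟨R.natAbs, ho, ?_, ?_, ?_⟩
  · have h5 : (s : ℤ) * ρ ≤ s * (n * R.natAbs) := by
      have h6 : (0 : ℤ) ≤ n := by positivity
      calc (s : ℤ) * ρ ≤ n * Φ := hρ
        _ ≤ n * (s * (R.natAbs : ℤ)) := mul_le_mul_of_nonneg_left hRs h6
        _ = _ := by ring
    have h6 : (0 : ℤ) < s := by exact_mod_cast hs.pos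
    have h7 := le_of_mul_le_mul_left h5 h6
    exact_mod_cast h7
  · have h5 : (R.natAbs : ℤ) ∣ (q : ℤ) ^ ℓ - δ := by
      rw [Int.natAbs_dvd]
      refine (hRΦ.trans hd).trans ?_
      rcases hδ with rfl | rfl
      · rw [one_mul]
      · rw [show (-1 * (q : ℤ)) ^ ℓ - 1 = -((q : ℤ) ^ ℓ - (-1)) by
          rw [mul_pow, hl.neg_one_pow]; ring]
        exact (neg_dvd.2 dvd_rfl)
    rw [← AN_int hδ (by omega)] at h5
    exact_mod_cast h5
  · intro r hr hrR
    have h5 := hR2 r hr (by rw [← Int.dvd_natAbs]; exact_mod_cast hrR)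
    have hr2 : r ≠ 2 := by
      rintro rfl
      have := ho
      rw [← Nat.not_even_iff_odd, even_iff_two_dvd] at this
      exact this hrR
    rcases hδ with rfl | rfl
    · rw [if_pos rfl]
      push_cast at h5
      rw [one_mul] at h5
      exact h5
    · rw [if_neg (by norm_num)]
      push_cast at h5
      exact order_neg hr hr2 hl (by rw [← h5]; congr 1; ring)

/-- **`q ^ 5 - δ`.** -/
theorem exists_R5 {q : ℕ} {δ : ℤ} (hδ : δ = 1 ∨ δ = -1) (hq : 3 ≤ q) (hqo : Odd q) :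
    ∃ R : ℕ, Odd R ∧ 2 * q ^ 4 ≤ 15 * R ∧ R ∣ AN δ 5 q ∧
      ∀ r : ℕ, r.Prime → r ∣ R → orderOf (q : ZMod r) = if δ = 1 then 5 else 2 * 5 := by
  obtain ⟨y, hy⟩ : ∃ y : ℤ, y = δ * q := ⟨_, rfl⟩
  have hyo : Odd y := by
    rw [hy]
    refine Int.odd_mul.2 ⟨?_, by exact_mod_cast hqo⟩
    rcases hδ with rfl | rfl
    · exact odd_one
    · exact odd_neg_one
  obtain ⟨a, ha⟩ := hyo
  refine prim_nat (Φ := y ^ 4 + y ^ 3 + y ^ 2 + y + 1) (s := 5) hδ hq hqo (by decide) (by norm_num) ?_ ?_ ?_ (by norm_num) ?_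
  · rw [ha]
    refine ⟨8 * a ^ 4 + 20 * a ^ 3 + 20 * a ^ 2 + 10 * a + 2, by ring⟩
  · rw [← hy]
    exact ⟨y - 1, by ring⟩
  · rw [hy]
    have hq3 : (3 : ℤ) ≤ q := by exact_mod_cast hq
    push_cast
    rcases hδ with rfl | rfl
    · linarith only [pow_pos (show (0 : ℤ) < q by linarith) 3, pow_pos (show (0 : ℤ) < q by linarith) 4, _root_.sq_nonneg (↑q : ℤ)]
    · have h1 : (q : ℤ) ^ 4 ≥ 3 * q ^ 3 := by
        have : (0 : ℤ) ≤ q ^ 3 := by positivity
        nlinarith only [hq, this]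
      linarith only [h1, sq_nonneg ((q : ℤ) - 1)]
  · obtain ⟨R, hR1, hR2⟩ := prim_z (s := 5) (by norm_num) (z := y) (Φ := y ^ 4 + y ^ 3 + y ^ 2 + y + 1) (by ring)
      ⟨y ^ 3 + 2 * y ^ 2 + 3 * y + 4, by push_cast; ring⟩ (by
        rintro ⟨x, hx⟩
        have : y = 1 + 5 * x := by push_cast at hx; linarith
        exact ⟨2 * x + 10 * x ^ 2 + 25 * x ^ 3 + 25 * x ^ 4, by rw [this]; push_cast; ring⟩)
    refine ⟨R, hR1, fun r hr hd => ?_⟩
    rw [← hy]
    exact order_s (by norm_num) (hR2 r hr hd)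

/-- **`q ^ 7 - δ`.** -/
theorem exists_R7 {q : ℕ} {δ : ℤ} (hδ : δ = 1 ∨ δ = -1) (hq : 3 ≤ q) (hqo : Odd q) :
    ∃ R : ℕ, Odd R ∧ 2 * q ^ 6 ≤ 21 * R ∧ R ∣ AN δ 7 q ∧
      ∀ r : ℕ, r.Prime → r ∣ R → orderOf (q : ZMod r) = if δ = 1 then 7 else 2 * 7 := by
  obtain ⟨y, hy⟩ : ∃ y : ℤ, y = δ * q := ⟨_, rfl⟩
  have hyo : Odd y := by
    rw [hy]
    refine Int.odd_mul.2 ⟨?_, by exact_mod_cast hqo⟩
    rcases hδ with rfl | rfl
    · exact odd_one
    · exact odd_neg_one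
  refine prim_nat (Φ := y ^ 6 + y ^ 5 + y ^ 4 + y ^ 3 + y ^ 2 + y + 1) (s := 7) hδ hq hqo (by decide) (by norm_num) ?_ ?_
    ?_ (by norm_num) ?_
  · have h6 : Even (y * (y + 1)) := Int.even_mul_succ_self y
    have : y ^ 6 + y ^ 5 + y ^ 4 + y ^ 3 + y ^ 2 + y + 1 = (y * (y + 1)) * (y ^ 4 + y ^ 2 + 1) + 1 := by ring
    rw [this]
    exact (h6.mul_right _).add_one
  · rw [← hy]
    exact ⟨y - 1, by ring⟩
  · rw [hy]
    have hq3 : (3 : ℤ) ≤ q := by exact_mod_cast hq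
    push_cast
    rcases hδ with rfl | rfl
    · rw [one_mul]
      have h1 : (0 : ℤ) ≤ q ^ 6 := by positivity
      have h2 : (0 : ℤ) ≤ q ^ 5 := by positivity
      have h3 : (0 : ℤ) ≤ q ^ 4 := by positivity
      have h4 : (0 : ℤ) ≤ q ^ 3 := by positivity
      have h5 : (0 : ℤ) ≤ q ^ 2 := by positivity
      linarith
    · have h1 : (q : ℤ) ^ 6 ≥ 3 * q ^ 5 := by
        have : (0 : ℤ) ≤ q ^ 5 := by positivity
        nlinarith only [hq, this]
      have h2 : (q : ℤ) ^ 4 ≥ 3 * q ^ 3 := by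
        have : (0 : ℤ) ≤ q ^ 3 := by positivity
        nlinarith only [hq, this]
      have h3 : (0 : ℤ) ≤ q ^ 3 := by positivity
      have h4 : (q : ℤ) ≤ q ^ 2 := by nlinarith only []
      have e : (-1 * (q : ℤ)) ^ 6 + (-1 * (q : ℤ)) ^ 5 + (-1 * (q : ℤ)) ^ 4 + (-1 * (q : ℤ)) ^ 3 + (-1 * (q : ℤ)) ^ 2 +
        (-1 * (q : ℤ)) + 1 = q ^ 6 - q ^ 5 + q ^ 4 - q ^ 3 + q ^ 2 - q + 1 := by ring
      rw [e]
      linarith
  · obtain ⟨R, hR1, hR2⟩ := prim_z (s := 7) (by norm_num) (z := y)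
      (Φ := y ^ 6 + y ^ 5 + y ^ 4 + y ^ 3 + y ^ 2 + y + 1) (by ring)
      ⟨y ^ 5 + 2 * y ^ 4 + 3 * y ^ 3 + 4 * y ^ 2 + 5 * y + 6, by push_cast; ring⟩ (by
        rintro ⟨x, hx⟩
        have : y = 1 + 7 * x := by push_cast at hx; linarith
        exact ⟨3 * x + 35 * x ^ 2 + 245 * x ^ 3 + 1029 * x ^ 4 + 2401 * x ^ 5 + 2401 * x ^ 6, by
          rw [this]; push_cast; ring⟩)
    refine ⟨R, hR1, fun r hr hd => ?_⟩
    rw [← hy]
    exact order_s (by norm_num) (hR2 r hr hd)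

/-- **`q ^ 9 - δ`.** -/
theorem exists_R9 {q : ℕ} {δ : ℤ} (hδ : δ = 1 ∨ δ = -1) (hq : 3 ≤ q) (hqo : Odd q) :
    ∃ R : ℕ, Odd R ∧ q ^ 6 ≤ 4 * R ∧ R ∣ AN δ 9 q ∧
      ∀ r : ℕ, r.Prime → r ∣ R → orderOf (q : ZMod r) = if δ = 1 then 9 else 2 * 9 := by
  obtain ⟨y, hy⟩ : ∃ y : ℤ, y = δ * q := ⟨_, rfl⟩
  refine prim_nat (Φ := y ^ 6 + y ^ 3 + 1) (s := 3) hδ hq hqo (by decide) (by norm_num) ?_ ?_ ?_ (by norm_num) ?_
  · have h6 : Even (y ^ 3 * (y ^ 3 + 1)) := Int.even_mul_succ_self _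
    have : y ^ 6 + y ^ 3 + 1 = (y ^ 3 * (y ^ 3 + 1)) + 1 := by ring
    rw [this]
    exact h6.add_one
  · rw [← hy]
    exact ⟨y ^ 3 - 1, by ring⟩
  · rw [hy]
    have hq3 : (3 : ℤ) ≤ q := by exact_mod_cast hq
    push_cast
    have h2 : (0 : ℤ) ≤ q ^ 3 := by positivity
    have h27 : (27 : ℤ) ≤ q ^ 3 := by
      calc (27 : ℤ) = 3 ^ 3 := by norm_num
        _ ≤ q ^ 3 := by gcongr
    rcases hδ with rfl | rfl
    · nlinarith only [h27]
    · nlinarith only [h27]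
  · obtain ⟨R, hR1, hR2⟩ := prim_z (s := 3) (by norm_num) (z := y ^ 3) (Φ := y ^ 6 + y ^ 3 + 1) (by ring)
      ⟨y ^ 3 + 2, by push_cast; ring⟩ (by
        rintro ⟨x, hx⟩
        have : y ^ 3 = 1 + 3 * x := by push_cast at hx; linarith
        have h6 : y ^ 6 = (1 + 3 * x) ^ 2 := by rw [← this]; ring
        exact ⟨x + x ^ 2, by rw [h6, this]; push_cast; ring⟩)
    refine ⟨R, hR1, fun r hr hd => ?_⟩
    rw [← hy]
    obtain ⟨h1, h2⟩ := hR2 r hr hd
    push_cast at h1 h2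
    have h3 : orderOf ((y : ℤ) : ZMod r) = 3 ^ (1 + 1) := by
      have hf : Fact (Nat.Prime 3) := ⟨by norm_num⟩
      apply orderOf_eq_prime_pow
      · rw [pow_one]; exact h2
      · rw [show 3 ^ (1 + 1) = 3 * 3 by norm_num, pow_mul]; exact h1
    rw [h3]
    norm_num

end Cfsg.Agent.R2.Spec.X5
end
end

-- part: R2/Spec/X5/MBound_mg
section
prune_inst 0x4c0403204010200080018009453001e029600000000088000e800020407808c2885420121b8a0010018c0204440380048110000200240000004000000011800800800140241c10100820000000084000000000000000000000000000000000000000000000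
set_option linter.all false
open scoped Cfsg.Agent.FastGrp

-- part: R2/Spec/X5/MBound
section
/-!
# S3435, box X5 (helper12): the rank of `S`

* `card_lt` : the cocliques of `psp m`, `oodd m`, `oplus m`, `ominus m`, `psl m`, `psu m`, small `m`.
-/

set_option autoImplicit false
set_option linter.unusedSectionVars false
set_option linter.unusedVariables false

namespace Cfsg.Agent.R2.Spec.X5

open Subgroup Cfsg
open Cfsg.Agent.H426.LieFam Cfsg.Agent.R2.Spec Cfsg.Agent.R2.Spec.P1 Cfsg.Agent.R2.Spec.F1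
open Cfsg.Agent.H420.QR

universe u w

theorem count {J U : Finset ℕ} {R : ℕ → ℕ → Bool} {big : ℕ → Bool} {c : ℕ} (hJ : J ⊆ U)
    (hR : ∀ a ∈ J, ∀ i ∈ J, a ≠ i → R a i = true) (h1 : (U.filter (fun i => big i = true)).card < c)
    (h2 : ∀ a ∈ U, big a = false → (U.filter (fun i => i ≠ a ∧ R a i = true)).card + 1 < c) : J.card < c := by
  by_cases h : ∀ a ∈ J, big a = true
  · exact lt_of_le_of_lt (Finset.card_le_card (fun a ha => Finset.mem_filter.2 ⟨hJ ha, h a ha⟩)) h1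
  · push Not at h
    obtain ⟨a, ha, hb⟩ := h
    have hb' : big a = false := by simpa using hb
    have h3 := h2 a (hJ ha) hb'
    have h4 : J.erase a ⊆ U.filter (fun i => i ≠ a ∧ R a i = true) := by
      intro i hi
      obtain ⟨hia, hiJ⟩ := Finset.mem_erase.1 hi
      exact Finset.mem_filter.2 ⟨hJ hiJ, hia, hR a ha i hiJ hia.symm⟩
    have h5 := Finset.card_le_card h4
    rw [Finset.card_erase_of_mem ha] at h5
    omega

/-- the classes -/
def UBn (m : ℕ) : Finset ℕ := (Finset.range (2 * m + 1)).filter (fun i => 3 ≤ i ∧ eta i ≤ m)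
def UPn (m : ℕ) : Finset ℕ := (Finset.range (2 * m + 1)).filter (fun i => 3 ≤ i ∧ (eta i + 1 ≤ m ∨ (i = m ∧ m % 2 = 1)))
def UMn (m : ℕ) : Finset ℕ := (Finset.range (2 * m + 1)).filter (fun i => 3 ≤ i ∧ (eta i + 1 ≤ m ∨ i = 2 * m))
def UAn (m : ℕ) : Finset ℕ := (Finset.range (m + 1)).filter (fun i => 3 ≤ i)
def RB (m a i : ℕ) : Bool := decide (m < eta a + eta i)
def RP (m a i : ℕ) : Bool := decide (m < eta a + eta i) || (decide (m = eta a + eta i) && decide ((a + i) % 2 = 1))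
def RM (m a i : ℕ) : Bool := decide (m < eta a + eta i) || (decide (m = eta a + eta i) && decide ((a + i) % 2 = 0))
def RA (m a i : ℕ) : Bool := decide (m < a + i) && !decide (a ∣ i) && !decide (i ∣ a)
def bB (m a : ℕ) : Bool := decide (m < 2 * eta a)
def bA (m a : ℕ) : Bool := decide (m < 2 * a)

def okB (U : ℕ → Finset ℕ) (R : ℕ → ℕ → ℕ → Bool) (b : ℕ → ℕ → Bool) (m c : ℕ) : Prop :=
  ((U m).filter (fun i => b m i = true)).card < c ∧
    ∀ a ∈ U m, b m a = false → ((U m).filter (fun i => i ≠ a ∧ R m a i = true)).card + 1 < c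

instance (U : ℕ → Finset ℕ) (R : ℕ → ℕ → ℕ → Bool) (b : ℕ → ℕ → Bool) (m c : ℕ) : Decidable (okB U R b m c) := by
  unfold okB; infer_instance

theorem ok_B5 : ∀ m < 5, okB UBn RB bB m 5 := by decide +kernel
theorem ok_P5 : ∀ m < 6, okB UPn RP bB m 5 := by decide +kernel
theorem ok_M5 : ∀ m < 6, okB UMn RM bB m 5 := by decide +kernel
theorem ok_B9 : ∀ m < 11, okB UBn RB bB m 9 := by decide +kernel
theorem ok_P9 : ∀ m < 11, okB UPn RP bB m 9 := by decide +kernel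
theorem ok_M9 : ∀ m < 11, okB UMn RM bB m 9 := by decide +kernel
theorem ok_A : ∀ m < 17, okB UAn RA bA m ((m + 1) / 2 + 1) := by decide +kernel

/-- a coclique of classes -/
def Coc (t : Fam) (J : Finset ℕ) : Prop :=
  (∀ a ∈ J, 3 ≤ a ∧ mem t a) ∧ ∀ a ∈ J, ∀ i ∈ J, a ≠ i → na t a i

theorem le_two_eta (i : ℕ) : i ≤ 2 * eta i := by
  rcases eta_cases i with ⟨h1, h2⟩ | ⟨h1, h2⟩ <;> omega

theorem coc_B {t : Fam} {m : ℕ} (ht : t = .psp m ∨ t = .oodd m) {J : Finset ℕ} (hJ : Coc t J) {c : ℕ}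
    (ok : okB UBn RB bB m c) : J.card < c := by
  obtain ⟨h1, h2⟩ := hJ
  have hm : ∀ i, mem t i → eta i ≤ m := by
    intro i hi
    rcases ht with rfl | rfl <;> exact hi
  have hn : ∀ a i, na t a i → m < eta a + eta i := by
    intro a i hi
    rcases ht with rfl | rfl <;> exact hi.1
  refine count (U := UBn m) (R := RB m) (big := bB m) (fun i hi => ?_) (fun a ha i hi hai => ?_) ok.1 ok.2
  · obtain ⟨h3, h4⟩ := h1 i hi
    have := hm i h4
    have := le_two_eta i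
    simp only [UBn, Finset.mem_filter, Finset.mem_range]
    omega
  · have := hn a i (h2 a ha i hi hai)
    simp [RB, this]

theorem coc_P {m : ℕ} {J : Finset ℕ} (hJ : Coc (.oplus m) J) {c : ℕ} (ok : okB UPn RP bB m c) : J.card < c := by
  obtain ⟨h1, h2⟩ := hJ
  refine count (U := UPn m) (R := RP m) (big := bB m) (fun i hi => ?_) (fun a ha i hi hai => ?_) ok.1 ok.2
  · obtain ⟨h3, h4⟩ := h1 i hi
    have h5 : eta i + 1 ≤ m ∨ (i = m ∧ m % 2 = 1) := h4
    have := le_two_eta i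
    simp only [UPn, Finset.mem_filter, Finset.mem_range]
    omega
  · have h3 : (m < eta a + eta i ∨ (m = eta a + eta i ∧ (a + i) % 2 = 1)) := (h2 a ha i hi hai).1
    simp only [RP, Bool.or_eq_true, Bool.and_eq_true, decide_eq_true_eq]
    exact h3

theorem coc_M {m : ℕ} {J : Finset ℕ} (hJ : Coc (.ominus m) J) {c : ℕ} (ok : okB UMn RM bB m c) : J.card < c := by
  obtain ⟨h1, h2⟩ := hJ
  refine count (U := UMn m) (R := RM m) (big := bB m) (fun i hi => ?_) (fun a ha i hi hai => ?_) ok.1 ok.2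
  · obtain ⟨h3, h4⟩ := h1 i hi
    have h5 : eta i + 1 ≤ m ∨ i = 2 * m := h4
    have := le_two_eta i
    simp only [UMn, Finset.mem_filter, Finset.mem_range]
    omega
  · have h3 : (m < eta a + eta i ∨ (m = eta a + eta i ∧ (a + i) % 2 = 0)) := (h2 a ha i hi hai).1
    simp only [RM, Bool.or_eq_true, Bool.and_eq_true, decide_eq_true_eq]
    exact h3

theorem coc_A {t : Fam} {m : ℕ} (ht : t = .psl m ∨ t = .psu m) {J : Finset ℕ} (hJ : Coc t J) {c : ℕ}
    (ok : okB UAn RA bA m c) : J.card < c := by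
  obtain ⟨h1, h2⟩ := hJ
  have hm : ∀ i, mem t i → i ≤ m := by
    intro i hi
    rcases ht with rfl | rfl <;> exact hi
  have hn : ∀ a i, na t a i → m < a + i ∧ ¬ a ∣ i ∧ ¬ i ∣ a := by
    intro a i hi
    rcases ht with rfl | rfl <;> exact hi
  refine count (U := UAn m) (R := RA m) (big := bA m) (fun i hi => ?_) (fun a ha i hi hai => ?_) ok.1 ok.2
  · obtain ⟨h3, h4⟩ := h1 i hi
    have := hm i h4
    simp only [UAn, Finset.mem_filter, Finset.mem_range]
    omega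
  · obtain ⟨g1, g2, g3⟩ := hn a i (h2 a ha i hi hai)
    simp [RA, g1, g2, g3]

/-- **The rank and the cocliques.** -/
theorem coc_rank {t : Fam} (hc : Classical t) {J : Finset ℕ} (hJ : Coc t J) :
    ((∃ m, t = .psp m ∨ t = .oodd m) → (5 ≤ J.card → 5 ≤ rk t) ∧ (9 ≤ J.card → 11 ≤ rk t)) ∧
    ((∃ m, t = .oplus m ∨ t = .ominus m) → (5 ≤ J.card → 6 ≤ rk t) ∧ (9 ≤ J.card → 11 ≤ rk t)) ∧
    ((∃ m, t = .psl m ∨ t = .psu m) → 17 ≤ rk t ∨ J.card ≤ (rk t + 1) / 2) := by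
  refine ⟨?_, ?_, ?_⟩
  · rintro ⟨m, ht⟩
    have hr : rk t = m := by rcases ht with rfl | rfl <;> rfl
    rw [hr]
    constructor
    · intro h5
      by_contra hcon
      have := coc_B ht hJ (ok_B5 m (by omega))
      omega
    · intro h5
      by_contra hcon
      have := coc_B ht hJ (ok_B9 m (by omega))
      omega
  · rintro ⟨m, rfl | rfl⟩
    · constructor
      · intro h5
        by_contra hcon
        have h6 : ¬ 6 ≤ m := hcon
        have := coc_P hJ (ok_P5 m (by omega))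
        omega
      · intro h5
        by_contra hcon
        have h6 : ¬ 11 ≤ m := hcon
        have := coc_P hJ (ok_P9 m (by omega))
        omega
    · constructor
      · intro h5
        by_contra hcon
        have h6 : ¬ 6 ≤ m := hcon
        have := coc_M hJ (ok_M5 m (by omega))
        omega
      · intro h5
        by_contra hcon
        have h6 : ¬ 11 ≤ m := hcon
        have := coc_M hJ (ok_M9 m (by omega))
        omega
  · rintro ⟨m, ht⟩
    have hr : rk t = m := by rcases ht with rfl | rfl <;> rfl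
    rw [hr]
    by_contra hcon
    have := coc_A ht hJ (ok_A m (by omega))
    omega

section

variable {t : Fam} {p f : ℕ} {L : Type w} [Group L] [Finite L] {G : Type u} [Group G] [Finite G]
variable {K : Subgroup G} [K.Normal] {S : Subgroup (G ⧸ K)} [S.Normal]
variable {t' : Fam} {v f' : ℕ}

/-- **A coclique of `L` gives one of `S`.** -/
theorem coc_S (h : LS t p f L G) (hF : Frm G K S t' v f') (hS : BigS t') {I : Finset ℕ} (h5 : 5 ≤ I.card)
    (hna : ∀ j ∈ I, ∀ k ∈ I, j ≠ k → na t j k)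
    (hI : ∀ j ∈ I, ∃ r, In t (p ^ f) j r ∧ r ≠ v ∧ r ∣ Nat.card S) : ∃ J : Finset ℕ, J.card = I.card ∧ Coc t' J := by
  classical
  choose! x hx using hI
  have hinj : ∀ j ∈ I, ∀ k ∈ I, j ≠ k → x j ≠ x k := fun j hj k hk hjk =>
    (hx j hj).1.ne (hx k hk).1 hjk
  have hreg : ∀ j ∈ I, 3 ≤ cls t' (v ^ f') (x j) := by
    intro j hj
    by_contra hcon
    have hinj' : Set.InjOn x ((I.erase j : Finset ℕ) : Set ℕ) := by
      intro a ha b hb hab
      by_contra hne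
      exact hinj a (Finset.mem_of_mem_erase ha) b (Finset.mem_of_mem_erase hb) hne hab
    have hcard : ((I.erase j).image x).card = (I.erase j).card := Finset.card_image_of_injOn hinj'
    have h1 := hF.irr_few hS (hx j hj).1.prime (hx j hj).1.ne_two (hx j hj).2.1 (by omega) (X := (I.erase j).image x) (by
      intro y hy
      obtain ⟨k, hk, rfl⟩ := Finset.mem_image.1 hy
      obtain ⟨hkj, hkI⟩ := Finset.mem_erase.1 hk
      exact ⟨(hx k hkI).1.prime, (hx k hkI).1.five, hinj j hj k hkI hkj.symm, (hx k hkI).2.2⟩) (by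
      intro y hy
      obtain ⟨k, hk, rfl⟩ := Finset.mem_image.1 hy
      obtain ⟨hkj, hkI⟩ := Finset.mem_erase.1 hk
      exact h.not_adj_S (hx j hj).1 (hx k hkI).1 (hna j hj k hkI hkj.symm)) (by
      intro y hy y' hy' hne
      obtain ⟨k, hk, rfl⟩ := Finset.mem_image.1 hy
      obtain ⟨l, hl, rfl⟩ := Finset.mem_image.1 hy'
      have hkI := Finset.mem_of_mem_erase hk
      have hlI := Finset.mem_of_mem_erase hl
      exact h.not_adj_S (hx k hkI).1 (hx l hlI).1 (hna k hkI l hlI (fun hkl => hne (by rw [hkl]))))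
    rw [hcard, Finset.card_erase_of_mem hj] at h1
    omega
  have hm : ∀ j ∈ I, mem t' (cls t' (v ^ f') (x j)) := fun j hj =>
    hF.mem_cls (hx j hj).1.prime (hx j hj).1.ne_two (hx j hj).2.2 (hreg j hj)
  have hnaS : ∀ j ∈ I, ∀ k ∈ I, j ≠ k → na t' (cls t' (v ^ f') (x j)) (cls t' (v ^ f') (x k)) := by
    intro j hj k hk hjk
    by_contra hcon
    refine h.not_adj_S (S := S) (hx j hj).1 (hx k hk).1 (hna j hj k hk hjk) ?_
    exact ((adjFacts hF.cla hF.prime hF.is).adj (x j) (x k) (hx j hj).1.prime (hx k hk).1.prime (hx j hj).1.ne_two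
      (hx k hk).1.ne_two (hinj j hj k hk hjk)
      (fun hd => (hx j hj).2.1 ((Nat.prime_dvd_prime_iff_eq (hx j hj).1.prime hF.prime).1 hd))
      (fun hd => (hx k hk).2.1 ((Nat.prime_dvd_prime_iff_eq (hx k hk).1.prime hF.prime).1 hd))
      (hreg j hj) (hreg k hk) (hm j hj) (hm k hk)).2 hcon
  refine ⟨I.image (fun j => cls t' (v ^ f') (x j)), ?_, ?_, ?_⟩
  · apply Finset.card_image_of_injOn
    intro j hj k hk hjk
    by_contra hne
    exact na_ne (hnaS j hj k hk hne) hjk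
  · intro a ha
    obtain ⟨j, hj, rfl⟩ := Finset.mem_image.1 ha
    exact ⟨hreg j hj, hm j hj⟩
  · intro a ha b hb hab
    obtain ⟨j, hj, rfl⟩ := Finset.mem_image.1 ha
    obtain ⟨k, hk, rfl⟩ := Finset.mem_image.1 hb
    exact hnaS j hj k hk (fun h => hab (by rw [h]))

theorem big_CE {n j : ℕ} {t : Fam} (ht : t = .psp n ∨ t = .oodd n) (h3 : 3 ≤ j) (h1 : n < 2 * eta j) (h2 : eta j ≤ n) :
    j ∈ BigF t := by
  rcases ht with rfl | rfl <;> exact mem_BigF.2 ⟨h3, h2, h1⟩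

theorem card_BigF_CE (ht : CE t) : (8 ≤ rk t → 6 ≤ (BigF t).card) ∧ (10 ≤ rk t → 7 ≤ (BigF t).card) ∧
    (12 ≤ rk t → 9 ≤ (BigF t).card) := by
  classical
  obtain ⟨n, ht, hn, hn2⟩ := ht
  have hr : rk t = n := by rcases ht with rfl | rfl <;> rfl
  rw [hr]
  have ke : ∀ j, n < 2 * j → j ≤ n → 2 * j ∈ BigF t := fun j h1 h2 =>
    big_CE ht (by omega) (by rw [eta_two_mul']; exact h1) (by rw [eta_two_mul']; exact h2)
  have ko : ∀ j, j % 2 = 1 → n < 2 * j → j ≤ n → j ∈ BigF t := fun j hj h1 h2 =>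
    big_CE ht (by omega) (by rw [eta_odd hj]; exact h1) (by rw [eta_odd hj]; exact h2)
  refine ⟨fun h => ?_, fun h => ?_, fun h => ?_⟩
  · have h1 : ({2 * n, n - 1, 2 * (n - 1), 2 * (n - 2), n - 3, 2 * (n - 3)} : Finset ℕ) ⊆ BigF t := by
      intro x hx
      simp only [Finset.mem_insert, Finset.mem_singleton] at hx
      rcases hx with rfl | rfl | rfl | rfl | rfl | rfl
      · exact ke _ (by omega) (by omega)
      · exact ko _ (by omega) (by omega) (by omega)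
      · exact ke _ (by omega) (by omega)
      · exact ke _ (by omega) (by omega)
      · exact ko _ (by omega) (by omega) (by omega)
      · exact ke _ (by omega) (by omega)
    refine le_trans (le_of_eq ?_) (Finset.card_le_card h1)
    symm
    repeat rw [Finset.card_insert_of_notMem (by simp only [Finset.mem_insert, Finset.mem_singleton]; (clear * - h hn2; omega))]
    rw [Finset.card_singleton]
  · have h1 : ({2 * n, n - 1, 2 * (n - 1), 2 * (n - 2), n - 3, 2 * (n - 3), 2 * (n - 4)} : Finset ℕ) ⊆ BigF t := by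
      intro x hx
      simp only [Finset.mem_insert, Finset.mem_singleton] at hx
      rcases hx with rfl | rfl | rfl | rfl | rfl | rfl | rfl
      · exact ke _ (by omega) (by omega)
      · exact ko _ (by omega) (by omega) (by omega)
      · exact ke _ (by omega) (by omega)
      · exact ke _ (by omega) (by omega)
      · exact ko _ (by omega) (by omega) (by omega)
      · exact ke _ (by omega) (by omega)
      · exact ke _ (by omega) (by omega)
    refine le_trans (le_of_eq ?_) (Finset.card_le_card h1)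
    symm
    repeat rw [Finset.card_insert_of_notMem (by simp only [Finset.mem_insert, Finset.mem_singleton]; (clear * - h; omega))]
    rw [Finset.card_singleton]
  · have h1 : ({2 * n, n - 1, 2 * (n - 1), 2 * (n - 2), n - 3, 2 * (n - 3), 2 * (n - 4), n - 5, 2 * (n - 5)} : Finset ℕ) ⊆
        BigF t := by
      intro x hx
      simp only [Finset.mem_insert, Finset.mem_singleton] at hx
      rcases hx with rfl | rfl | rfl | rfl | rfl | rfl | rfl | rfl | rfl
      · exact ke _ (by omega) (by omega)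
      · exact ko _ (by omega) (by omega) (by omega)
      · exact ke _ (by omega) (by omega)
      · exact ke _ (by omega) (by omega)
      · exact ko _ (by omega) (by omega) (by omega)
      · exact ke _ (by omega) (by omega)
      · exact ke _ (by omega) (by omega)
      · exact ko _ (by omega) (by omega) (by omega)
      · exact ke _ (by omega) (by omega)
    refine le_trans (le_of_eq ?_) (Finset.card_le_card h1)
    symm
    repeat rw [Finset.card_insert_of_notMem (by simp only [Finset.mem_insert, Finset.mem_singleton]; (clear * - h hn2; omega))]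
    rw [Finset.card_singleton]

/-- **The rank of `S`.** -/
theorem rank_S (h : LS t p f L G) (hR : Red G K S) (hF : Frm G K S t' v f') (hp2 : p ≠ 2) (ht : CE t) :
    ((∃ m, t' = .psp m ∨ t' = .oodd m) → 5 ≤ rk t' ∧ (12 ≤ rk t → 11 ≤ rk t')) ∧
    ((∃ m, t' = .oplus m ∨ t' = .ominus m) → 6 ≤ rk t' ∧ (12 ≤ rk t → 11 ≤ rk t')) ∧
    ((∃ m, t' = .psl m ∨ t' = .psu m) → 9 ≤ rk t' ∧ (rk t ≤ 10 → rk t + 3 ≤ rk t') ∧ (12 ≤ rk t → 17 ≤ rk t')) := by
  have hS := h.bigS_CE hR hF hp2 ht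
  obtain ⟨hn, hn2⟩ := ht.rk6
  -- the coclique `JJ`
  obtain ⟨J1, hJ1, hJ1'⟩ := coc_S h hF hS (I := JJ (rk t)) (by rw [card_JJ hn hn2]) ht.coq (fun j hj => by
    obtain ⟨r, hr⟩ := h.exists_J hp2 ht hj
    exact ⟨r, hr, h.ne_v_J hR hF hp2 ht hj hr.prime hr.cls_eq, (h.good_J hR hF hp2 ht hj hr.prime hr.cls_eq).2⟩)
  rw [card_JJ hn hn2] at hJ1
  have k1 := coc_rank hF.cla hJ1'
  rw [hJ1] at k1
  -- the coclique of the big classes
  have k2 : 8 ≤ rk t → ∃ J : Finset ℕ, J.card = (BigF t).card ∧ Coc t' J := by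
    intro h8
    have h5 : Five t := by
      rcases ht.cases with ⟨h5, -⟩ | ⟨h6, -⟩
      · exact h5
      · exfalso
        obtain ⟨n, rfl | rfl, -⟩ := ht
        · rcases h6 with h | h <;> rw [show rk (.psp n) = n from rfl] at h8 <;> omega
        · rcases h6 with h | h <;> rw [show rk (.oodd n) = n from rfl] at h8 <;> omega
    refine coc_S h hF hS ((card_BigF h5)) (fun j hj k hk hjk => na_of_big h.cla (mem_BigF.1 hj) (mem_BigF.1 hk) hjk)
      (fun j hj => ?_)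
    have hb := mem_BigF.1 hj
    obtain ⟨r, hr⟩ := exists_in h (h.q_three hp2) hb.1 hb.2.1
    exact ⟨r, hr, h.big_ne_v hR hF h5 (ht.fldOk _) hb hr.prime hr.cls_eq,
      (h.good_big hR hF h5 (ht.fldOk _) hb hr.prime hr.cls_eq).2⟩
  obtain ⟨c6, c7, c9⟩ := card_BigF_CE ht
  refine ⟨fun hm => ⟨(k1.1 hm).1 le_rfl, fun h12 => ?_⟩, fun hm => ⟨(k1.2.1 hm).1 le_rfl, fun h12 => ?_⟩,
    fun hm => ⟨?_, fun h10 => ?_, fun h12 => ?_⟩⟩
  · obtain ⟨J, hJ, hJ'⟩ := k2 (by omega)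
    exact ((coc_rank hF.cla hJ').1 hm).2 (by rw [hJ]; exact c9 h12)
  · obtain ⟨J, hJ, hJ'⟩ := k2 (by omega)
    exact ((coc_rank hF.cla hJ').2.1 hm).2 (by rw [hJ]; exact c9 h12)
  · have := k1.2.2 hm
    omega
  · have h1 := k1.2.2 hm
    rcases (show rk t = 6 ∨ 8 ≤ rk t by omega) with h6 | h8
    · omega
    · obtain ⟨J, hJ, hJ'⟩ := k2 (by omega)
      have h3 := (coc_rank hF.cla hJ').2.2 hm
      have c6 := c6 h8
      rcases (show rk t = 8 ∨ rk t = 10 by omega) with h4 | h4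
      · omega
      · have c7 := c7 (by omega)
        omega
  · obtain ⟨J, hJ, hJ'⟩ := k2 (by omega)
    have h3 := (coc_rank hF.cla hJ').2.2 hm
    have c9 := c9 h12
    omega

end

end Cfsg.Agent.R2.Spec.X5
end

-- part: R2/Spec/X5/LWin
section
/-!
# S3435, box X5 (helper12): the elements of `PSp_2n(q)`, `PΩ_{2n+1}(q)` of order divisible by a prime of the class
`n - 1` or `2 (n - 1)`, `n` even, `q` odd
-/

set_option autoImplicit false
set_option linter.unusedSectionVars false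

namespace Cfsg.Agent.R2.Spec.X5

open Module Polynomial Cfsg Cfsg.Agent.H426.LieFam Cfsg.Agent.R2.Spec Cfsg.Agent.R2.Spec.P1
open Cfsg.Agent.H160.QRoots Cfsg.Agent.H160.QChar Cfsg.Agent.R2.Spec.P1.Eig
open Cfsg.Agent.LieClassical.OrthCore Cfsg.Agent.LieClassical.OrthFinite Cfsg.Agent.LieClassical.OrthForms
open Cfsg.Agent.H160.QSpin Cfsg.Agent.H160.QDisc Cfsg.Agent.H160.QSplit Cfsg.Agent.H160.QFinal

universe u

section

variable {K : Type*} [Field K] [DecidableEq K] {q : ℕ}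

/-- the rest: three elements -/
theorem rest_three (hq : Function.Injective (fun x : K => x ^ q)) (h2 : (2 : K) ≠ 0) {R' : Multiset K} (h : ED q R') (hc : R'.card = 3) (hp : R'.prod = 1) :
    ∃ μ : K, μ ≠ 0 ∧ R' = 1 ::ₘ {μ, μ⁻¹} ∧ (μ ^ q = μ ∨ μ ^ q = μ⁻¹) := by
  have hone : (1 : K) ∈ R' := by
    by_contra hcon
    have key : ∀ a b c : K, R' = {a, b, c} → a = -1 := by
      intro a b c habc
      have hp' : a * (b * c) = 1 := by
        rw [habc] at hp
        simpa only [_root_.Multiset.insert_eq_cons, _root_.Multiset.prod_cons, _root_.Multiset.prod_singleton] using hp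
      have ha : a ∈ R' := by rw [habc]; simp
      have hb : b ∈ R' := by rw [habc]; simp
      have hc' : c ∈ R' := by rw [habc]; simp
      have ha0 : a ≠ 0 := h.ne0 a ha
      have hai : a⁻¹ ∈ R' := by
        rw [← Multiset.one_le_count_iff_mem, h.inv, Multiset.one_le_count_iff_mem]
        exact ha
      rw [habc] at hai
      simp only [Multiset.insert_eq_cons, Multiset.mem_cons, Multiset.mem_singleton] at hai
      rcases hai with h1 | h1 | h1
      · have h3 : a * a = 1 := by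
          nth_rewrite 2 [← h1]
          exact mul_inv_cancel₀ ha0
        rcases mul_self_eq_one_iff.1 h3 with h4 | h4
        · exact absurd (h4 ▸ ha) hcon
        · exact h4
      · exfalso
        apply hcon
        have : c = 1 := by
          rw [← h1, ← mul_assoc, mul_inv_cancel₀ ha0, one_mul] at hp'
          exact hp'
        exact this ▸ hc'
      · exfalso
        apply hcon
        have : b = 1 := by
          rw [← h1, mul_comm b, ← mul_assoc, mul_inv_cancel₀ ha0, one_mul] at hp'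
          exact hp'
        exact this ▸ hb
    obtain ⟨a, b, c, habc⟩ := Multiset.card_eq_three.1 hc
    have ha := key a b c habc
    have hb := key b a c (by rw [habc]; simp only [Multiset.insert_eq_cons]; exact Multiset.cons_swap a b _)
    have hc2 := key c a b (by
      rw [habc]
      simp only [Multiset.insert_eq_cons, ← Multiset.singleton_add]
      rw [add_left_comm, ← add_assoc, ← add_assoc, add_comm ({b} : Multiset K), add_assoc, add_assoc]
      abel)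
    rw [habc, ha, hb, hc2] at hp
    simp at hp
    apply h2
    linear_combination -hp
  obtain ⟨R'', rfl⟩ := Multiset.exists_cons_of_mem hone
  rw [Multiset.card_cons] at hc
  rw [Multiset.prod_cons, one_mul] at hp
  obtain ⟨a, b, rfl⟩ := Multiset.card_eq_two.1 (show R''.card = 2 by omega)
  rw [Multiset.insert_eq_cons, Multiset.prod_cons, Multiset.prod_singleton] at hp
  have ha0 : a ≠ 0 := by
    rintro rfl
    rw [zero_mul] at hp
    exact zero_ne_one hp
  have hb : b = a⁻¹ := eq_inv_of_mul_eq_one_right hp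
  subst hb
  have h1 : a ^ q ∈ (1 ::ₘ ({a, a⁻¹} : Multiset K)) := by
    rw [← Multiset.one_le_count_iff_mem, h.frob, Multiset.one_le_count_iff_mem]
    simp
  simp only [Multiset.insert_eq_cons, Multiset.mem_cons, Multiset.mem_singleton] at h1
  by_cases ha1 : a = 1
  · subst ha1
    exact ⟨1, one_ne_zero, rfl, Or.inl (one_pow _)⟩
  · refine ⟨a, ha0, rfl, ?_⟩
    rcases h1 with h1 | h1 | h1
    · exfalso
      exact ha1 (hq (by simpa only [_root_.one_pow] using h1))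
    · exact Or.inl h1
    · exact Or.inr h1

end

/-! ### endomorphisms -/

section

variable {F V : Type*} [Field F] [Fintype F] [AddCommGroup V] [Module F V] [FiniteDimensional F V]

theorem pm_eq {K : Type*} [Field K] {μ : K} (h0 : μ ≠ 0) (h : μ = μ⁻¹) : μ = 1 ∨ μ = -1 := by
  apply mul_self_eq_one_iff.1
  nth_rewrite 2 [h]
  exact mul_inv_cancel₀ h0

theorem dvd_AN {δ : ℤ} (hδ : δ = 1 ∨ δ = -1) {m q : ℕ} (hm : Odd m) (hq : 1 ≤ q) : AN δ 1 q ∣ AN δ m q := by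
  rcases hδ with rfl | rfl
  · rw [AN_one, AN_one, pow_one]
    simpa only [_root_.one_pow] using Nat.sub_dvd_pow_sub_pow q 1 m
  · rw [AN_neg, AN_neg, pow_one]
    simpa using hm.nat_add_dvd_pow_add_pow q 1

theorem pow_frob {K : Type*} [Field K] {μ : K} {q : ℕ} (h0 : μ ≠ 0) (hq : 1 ≤ q) (h : μ ^ q = μ ∨ μ ^ q = μ⁻¹) :
    μ ^ (q - 1) = 1 ∨ μ ^ (q + 1) = 1 := by
  rcases h with h | h
  · left
    have h2 : μ ^ (q - 1) * μ = μ := by
      rw [← pow_succ, Nat.sub_add_cancel hq, h]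
    exact mul_right_cancel₀ h0 (by rw [h2, one_mul])
  · right
    rw [pow_succ, h, inv_mul_cancel₀ h0]

open Classical in
/-- **The window for an endomorphism.** -/
theorem win_end (h2 : (2 : F) ≠ 0) {e : ℕ} (he1 : 1 ≤ e) (he : Fintype.card F = 2 * e + 1) {p : ℕ} [Fact p.Prime]
    [CharP F p] {f : Module.End F V} (hED : ED (Fintype.card F) (rts f)) (hprod : (rts f).prod = 1) {m : ℕ}
    (hm : 2 ≤ m) (hmo : Odd m) (hV : finrank F V = 2 * m + 2 ∨ finrank F V = 2 * m + 3) {N : ℕ} (hN : 0 < N)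
    (hf : f ^ N = 1) (hmin : ∀ k, f ^ k = 1 → N ∣ k) {r : ℕ} (hr : r.Prime) (hrp : r ≠ p) (hrN : r ∣ N) {δ : ℤ}
    (hi : (orderOf ((Fintype.card F : ℕ) : ZMod r) = 2 * m ∧ δ = -1) ∨
      (orderOf ((Fintype.card F : ℕ) : ZMod r) = m ∧ δ = 1))
    (h3 : 3 ≤ orderOf ((Fintype.card F : ℕ) : ZMod r)) :
    N ∣ AN δ m (Fintype.card F) * p ∨ N ∣ AN δ m (Fintype.card F) * AN (-δ) 1 (Fintype.card F) := by
  have hp := (Fact.out : p.Prime)
  have hinj := frob_inj F
  have hδ : δ = 1 ∨ δ = -1 := by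
    rcases hi with ⟨-, h⟩ | ⟨-, h⟩
    · exact Or.inr h
    · exact Or.inl h
  have hp3 : 3 ≤ p := by
    by_contra hcon
    have hp2 : p = 2 := le_antisymm (by omega) hp.two_le
    apply h2
    have := CharP.cast_eq_zero F p
    rw [hp2] at this
    exact_mod_cast this
  obtain ⟨x, hx, k, hk1, hkr⟩ := exists_eig (f := f) (p := p) hN hf hmin hr hrp hrN
  have hcard := card_rts f
  obtain ⟨hminx, hb1, hb2, R', hR, hR', hc⟩ := hED.block hinj (by omega) hx hr hk1 hkr rfl h3 (m := m)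
    (by rcases hi with h | h
        · exact Or.inl h.1
        · exact Or.inr ⟨h.1, hmo⟩) (by rcases hV with h | h <;> omega)
  have hblk : Blk (Fintype.card F) m δ x := by
    refine ⟨hminx, ?_⟩
    rcases hi with ⟨h, rfl⟩ | ⟨h, rfl⟩
    · exact Or.inr ⟨rfl, hb1 h⟩
    · exact Or.inl ⟨rfl, hb2 h⟩
  have hprod' : R'.prod = 1 := by
    have h4 := hprod
    rw [hR, Multiset.prod_add, prod_orb_val hinj hminx, one_mul] at h4
    exact h4
  obtain ⟨μ, hμ0, hμR, hμq⟩ : ∃ μ : AlgebraicClosure F, μ ≠ 0 ∧ (R' = {μ, μ⁻¹} ∨ R' = 1 ::ₘ {μ, μ⁻¹}) ∧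
      (μ ^ Fintype.card F = μ ∨ μ ^ Fintype.card F = μ⁻¹) := by
    rcases hV with h | h
    · obtain ⟨μ, h4, h5, h6⟩ := ED.rest_two hR' (by omega) hprod'
      exact ⟨μ, h4, Or.inl h5, h6⟩
    · obtain ⟨μ, h4, h5, h6⟩ := rest_three hinj (two_ne_K h2) hR' (by omega) hprod'
      exact ⟨μ, h4, Or.inr h5, h6⟩
  have hR'mem : ∀ y ∈ R', y = 1 ∨ y = μ ∨ y = μ⁻¹ := by
    intro y hy
    rcases hμR with h | h
    · rw [h] at hy
      simp only [Multiset.insert_eq_cons, Multiset.mem_cons, Multiset.mem_singleton] at hy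
      exact Or.inr hy
    · rw [h] at hy
      simpa only [Multiset.insert_eq_cons, Multiset.mem_cons, Multiset.mem_singleton] using hy
  have hR'q : ∀ y ∈ R', y ≠ 0 ∧ (y ^ Fintype.card F = y ∨ y ^ Fintype.card F = y⁻¹) := by
    intro y hy
    rcases hR'mem y hy with rfl | rfl | rfl
    · exact ⟨one_ne_zero, Or.inl (one_pow _)⟩
    · exact ⟨hμ0, hμq⟩
    · refine ⟨inv_ne_zero hμ0, ?_⟩
      rw [inv_pow, inv_inv]
      rcases hμq with h | h
      · exact Or.inl (by rw [h])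
      · exact Or.inr (by rw [h, inv_inv])
  -- the orbit of `x` and the rest
  have hdisj : ∀ y ∈ R', y ∉ orb (Fintype.card F) x m := by
    intro y hy hyo
    obtain ⟨-, h5⟩ := hR'q y hy
    obtain ⟨i, hi2, h6⟩ := mem_orb.1 hyo
    have h7 : (x ^ Fintype.card F ^ i) ^ Fintype.card F = x ^ Fintype.card F ^ i ∨
        (x ^ Fintype.card F ^ i) ^ Fintype.card F = (x ^ Fintype.card F ^ i)⁻¹ := by
      rcases h6 with rfl | rfl
      · exact h5
      · rw [inv_pow, inv_inv] at h5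
        rcases h5 with h5 | h5
        · exact Or.inl (inv_injective h5)
        · refine Or.inr ?_
          rw [← inv_inj, inv_inv]
          exact h5
    have h8 := hminx.min 1 one_pos (by omega)
    have h9 : (fun z : AlgebraicClosure F => z ^ (Fintype.card F ^ i)) (x ^ Fintype.card F ^ 1) =
        (x ^ Fintype.card F ^ i) ^ Fintype.card F := by
      show (x ^ Fintype.card F ^ 1) ^ Fintype.card F ^ i = _
      rw [pow_one, ← pow_mul, ← pow_mul, mul_comm]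
    rcases h7 with h7 | h7
    · exact h8.1 (inj_pow hinj i (by rw [h9, h7]))
    · refine h8.2 (inj_pow hinj i ?_)
      rw [h9, h7]
      show _ = (x⁻¹) ^ _
      rw [inv_pow]
  have hcnt : ∀ y, (rts f).count y ≤ 1 ∨ (rts f).count y = R'.count y := by
    intro y
    by_cases hy : y ∈ orb (Fintype.card F) x m
    · left
      rw [hR, Multiset.count_add, Multiset.count_eq_zero_of_notMem (fun h => hdisj y h hy), add_zero]
      exact Multiset.nodup_iff_count_le_one.1 (orb (Fintype.card F) x m).nodup y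
    · right
      rw [hR, Multiset.count_add, Multiset.count_eq_zero_of_notMem (show y ∉ (orb _ x m).val from hy), zero_add]
  have hqodd : Fintype.card F % 2 = 1 := by omega
  have hxorb : ∀ y ∈ orb (Fintype.card F) x m, y ^ AN δ m (Fintype.card F) = 1 := fun y hy =>
    pow_of_mem_orb hy (hblk.pow (by omega)) (Or.inl rfl) hqodd
  by_cases hμ : μ = μ⁻¹
  · left
    have hμ1 := pm_eq hμ0 hμ
    apply hmin
    have hM : ∀ y, (rts f).count y ≤ 3 := by
      intro y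
      rcases hcnt y with h | h
      · omega
      · rw [h]
        refine (Multiset.count_le_card _ _).trans ?_
        rcases hV with h | h <;> omega
    have hE : ∀ y ∈ rts f, y ^ AN δ m (Fintype.card F) = 1 := by
      intro y hy
      rw [hR, Multiset.mem_add] at hy
      rcases hy with hy | hy
      · exact hxorb y hy
      · have h6 : y = 1 ∨ y = -1 := by
          rcases hR'mem y hy with rfl | rfl | rfl
          · exact Or.inl rfl
          · exact hμ1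
          · rcases hμ1 with h | h
            · rw [h, inv_one]; exact Or.inl rfl
            · rw [h]; right; norm_num only []
        have h7 := AN_even (δ := δ) (m := m) hqodd
        rw [← h7, pow_mul]
        rcases h6 with rfl | rfl
        · simp
        · simp only [_root_.even_two, _root_.Even.neg_pow, _root_.one_pow]
    have h5 := pow_eq_one_of_bd (p := p) (g := f) (N := AN δ m (Fintype.card F)) (M := 3) (c := 1)
      ⟨hM, hE⟩ (by simpa using hp3)
    rwa [pow_one] at h5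
  · right
    apply hmin
    have hR'1 : ∀ y, R'.count y ≤ 1 := by
      intro y
      have hμ1 : μ ≠ 1 := by rintro rfl; exact hμ inv_one.symm
      have h4 : ({μ, μ⁻¹} : Multiset (AlgebraicClosure F)).Nodup := by
        rw [Multiset.insert_eq_cons, Multiset.nodup_cons]
        exact ⟨by rw [Multiset.mem_singleton]; exact hμ, Multiset.nodup_singleton _⟩
      rcases hμR with h | h
      · rw [h]
        exact Multiset.nodup_iff_count_le_one.1 h4 y
      · rw [h]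
        refine Multiset.nodup_iff_count_le_one.1 (Multiset.nodup_cons.2 ⟨?_, h4⟩) y
        rw [Multiset.insert_eq_cons, Multiset.mem_cons, Multiset.mem_singleton, not_or]
        refine ⟨hμ1.symm, fun h5 => hμ1 ?_⟩
        rw [← inv_inv μ, ← h5, inv_one]
    have hM : ∀ y, (rts f).count y ≤ 1 := by
      intro y
      rcases hcnt y with h | h
      · exact h
      · rw [h]; exact hR'1 y
    have hE : ∀ y ∈ rts f, y ^ (AN δ m (Fintype.card F) * AN (-δ) 1 (Fintype.card F)) = 1 := by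
      intro y hy
      rw [hR, Multiset.mem_add] at hy
      rcases hy with hy | hy
      · rw [pow_mul, hxorb y hy, one_pow]
      · obtain ⟨hy0, hyq⟩ := hR'q y hy
        have h6 := pow_frob hy0 (by omega) hyq
        have h7 : y ^ AN δ 1 (Fintype.card F) = 1 ∨ y ^ AN (-δ) 1 (Fintype.card F) = 1 := by
          rcases hδ with rfl | rfl
          · rw [AN_one, AN_neg, pow_one]; exact h6
          · rw [neg_neg, AN_neg, AN_one, pow_one]; exact h6.symm
        rcases h7 with h7 | h7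
        · obtain ⟨c, hc⟩ := dvd_AN hδ (q := Fintype.card F) hmo (by omega)
          rw [pow_mul, hc, pow_mul, h7, one_pow, one_pow]
        · rw [mul_comm, pow_mul, h7, one_pow]
    have h5 := pow_eq_one_of_bd (p := p) (g := f)
      (N := AN δ m (Fintype.card F) * AN (-δ) 1 (Fintype.card F)) (M := 1) (c := 0)
      ⟨hM, hE⟩ (by simp)
    rwa [pow_zero, mul_one] at h5

end

/-! ### the groups -/

/-- `PSp` -/
theorem psp_win {F : Type*} [Field F] [Fintype F] (h2 : (2 : F) ≠ 0) {e : ℕ} (he1 : 1 ≤ e)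
    (he : Fintype.card F = 2 * e + 1) {p : ℕ}
    [Fact p.Prime] [CharP F p] {n : ℕ} (hn : 3 ≤ n) (hne : Odd (n - 1)) {y : PSp n F} {r : ℕ} (hr : r.Prime)
    (hrp : r ≠ p) (hrg : r ∣ orderOf y) {δ : ℤ}
    (hi : (orderOf ((Fintype.card F : ℕ) : ZMod r) = 2 * (n - 1) ∧ δ = -1) ∨
      (orderOf ((Fintype.card F : ℕ) : ZMod r) = n - 1 ∧ δ = 1))
    (h3 : 3 ≤ orderOf ((Fintype.card F : ℕ) : ZMod r)) :
    orderOf y ∣ AN δ (n - 1) (Fintype.card F) * p ∨
      orderOf y ∣ AN δ (n - 1) (Fintype.card F) * AN (-δ) 1 (Fintype.card F) := by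
  classical
  obtain ⟨A, rfl⟩ := QuotientGroup.mk_surjective y
  set M : Matrix (Fin n ⊕ Fin n) (Fin n ⊕ Fin n) F := (A : Matrix (Fin n ⊕ Fin n) (Fin n ⊕ Fin n) F) with hM
  set g : Module.End F (Fin n ⊕ Fin n → F) := Matrix.toLin' M with hg
  have hfin : finrank F (Fin n ⊕ Fin n → F) = 2 * n := by
    rw [Module.finrank_fintype_fun_eq_card]; simp only [_root_.Fintype.card_sum, _root_.Fintype.card_fin]; ring
  have hroots : (M.map (algebraMap F (AlgebraicClosure F))).charpoly.roots = rts g := by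
    rw [Matrix.charpoly_map, rts, hg, Matrix.charpoly_toLin']
  have hJM : Matrix.transpose M * Matrix.J (Fin n) F * M = Matrix.J (Fin n) F := SymplecticGroup.mem_iff'.1 A.2
  have hinv : rts g = (rts g).map (fun x => x⁻¹) := by
    rw [← hroots]
    refine roots_inv (M := M.map (algebraMap F (AlgebraicClosure F)))
      (G := (Matrix.J (Fin n) F).map (algebraMap F (AlgebraicClosure F))) ?_ ?_ (IsAlgClosed.splits _)
    · have h4 : ((Matrix.J (Fin n) F).map (algebraMap F (AlgebraicClosure F))).det =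
          algebraMap F (AlgebraicClosure F) (Matrix.J (Fin n) F).det := by
        rw [RingHom.map_det]; rfl
      rw [h4]
      exact (_root_.map_ne_zero _).2 (Matrix.isUnit_det_J (Fin n) F).ne_zero
    · have h5 := congrArg (fun A : Matrix _ _ F => A.map (algebraMap F (AlgebraicClosure F))) hJM
      simp only [Matrix.map_mul] at h5
      exact h5
  have hdetM : M.det = 1 := SymplecticGroup.det_eq_one A.2
  have hprod : (rts g).prod = 1 := prod_rts (by rw [hg, LinearMap.det_toLin', hdetM])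
  have hED : ED (Fintype.card F) (rts g) := by
    refine ⟨fun x => ?_, fun x => ?_, ?_⟩
    · have := count_frob g x
      convert this using 2
    · conv_lhs => rw [hinv]
      exact Multiset.count_map_eq_count' _ _ inv_injective _
    · rintro x hx rfl
      rw [Multiset.prod_eq_zero hx] at hprod
      exact zero_ne_one hprod
  have hpow : ∀ k, g ^ k = 1 ↔ A ^ k = 1 := by
    intro k
    have h4 : (1 : Module.End F (Fin n ⊕ Fin n → F)) = Matrix.toLin' 1 := by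
      rw [Matrix.toLin'_one]; rfl
    rw [hg, ← Matrix.toLin'_pow, h4, (Matrix.toLin' (R := F)).injective.eq_iff, Subtype.ext_iff]
    rfl
  have hfinG : Finite (Matrix.symplecticGroup (Fin n) F) := inferInstance
  have hN : 0 < orderOf A := orderOf_pos A
  have hdv : orderOf (QuotientGroup.mk A : PSp n F) ∣ orderOf A := orderOf_map_dvd (QuotientGroup.mk' _) A
  have h5 := win_end h2 he1 he (f := g) (p := p) hED hprod (m := n - 1) (by omega) hne (by left; omega) hN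
    ((hpow _).2 (pow_orderOf_eq_one A)) (fun k hk => orderOf_dvd_of_pow_eq_one ((hpow k).1 hk)) hr hrp
    (hrg.trans hdv) hi h3
  rcases h5 with h5 | h5
  · exact Or.inl (hdv.trans h5)
  · exact Or.inr (hdv.trans h5)

/-- `PΩ` in odd dimension -/
theorem oodd_win {F : Type*} [Field F] [Fintype F] {ι : Type} [Fintype ι] [DecidableEq ι] (h2 : (2 : F) ≠ 0)
    {e : ℕ} (he1 : 1 ≤ e) (he : Fintype.card F = 2 * e + 1) {p : ℕ} [Fact p.Prime] [CharP F p]
    {Q : QuadraticForm F (ι → F)} (hQ : Nondeg Q) {n : ℕ} (hn : 3 ≤ n) (hne : Odd (n - 1))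
    (hV : Fintype.card ι = 2 * n + 1)
    {y : POmega F ⇑Q} {r : ℕ} (hr : r.Prime) (hrp : r ≠ p) (hrg : r ∣ orderOf y) {δ : ℤ}
    (hi : (orderOf ((Fintype.card F : ℕ) : ZMod r) = 2 * (n - 1) ∧ δ = -1) ∨
      (orderOf ((Fintype.card F : ℕ) : ZMod r) = n - 1 ∧ δ = 1))
    (h3 : 3 ≤ orderOf ((Fintype.card F : ℕ) : ZMod r)) :
    orderOf y ∣ AN δ (n - 1) (Fintype.card F) * p ∨
      orderOf y ∣ AN δ (n - 1) (Fintype.card F) * AN (-δ) 1 (Fintype.card F) := by
  classical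
  obtain ⟨g, hg, hgs, hgo⟩ := lift_pomega h2 hQ (by omega) y
  have hfin : finrank F (ι → F) = 2 * n + 1 := by rw [Module.finrank_fintype_fun_eq_card, hV]
  obtain ⟨hgO, hdet, hs⟩ := id hg
  have hdet1 : LinearMap.det (en g) = 1 := by
    have := congrArg Units.val hdet
    rwa [LinearEquiv.coe_det] at this
  have hN : 0 < orderOf g := by
    have hfin : Finite ((ι → F) ≃ₗ[F] (ι → F)) :=
      Finite.of_injective (fun g : (ι → F) ≃ₗ[F] (ι → F) => (g : (ι → F) → (ι → F))) DFunLike.coe_injective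
    exact orderOf_pos g
  have hED := ed_rts hQ hgO
  have h5 := win_end h2 he1 he (f := en g) (p := p) (by convert hED) (prod_rts hdet1) (m := n - 1) (by omega) hne
    (by right; omega) hN (by rw [← en_pow, pow_orderOf_eq_one]; rfl)
    (fun k hk => orderOf_dvd_of_pow_eq_one (en_inj (by rw [en_pow, hk]; rfl))) hr hrp
    (hrg.trans hgo) hi h3
  rcases h5 with h5 | h5
  · exact Or.inl (hgo.trans h5)
  · exact Or.inr (hgo.trans h5)

/-- **The windows of the classes `n - 1` (`δ = 1`) and `2 (n - 1)` (`δ = -1`).** -/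
structure LWin (n p q : ℕ) (X : Type u) [Group X] : Prop where
  win : ∀ (δ : ℤ) (r : ℕ), r.Prime → ¬ r ∣ p → ((P1.co q r = 2 * (n - 1) ∧ δ = -1) ∨ (P1.co q r = n - 1 ∧ δ = 1)) →
    ∀ x : X, r ∣ orderOf x → orderOf x ∣ AN δ (n - 1) q * p ∨ orderOf x ∣ AN δ (n - 1) q * AN (-δ) 1 q

theorem lwin_psp {p f n : ℕ} {X : Type u} [Group X] [Finite X] (hp : p.Prime) (hp2 : p ≠ 2) (hn : 4 ≤ n)
    (hne : Even n) (h : Fam.Is p f X (.psp n)) : LWin n p (p ^ f) X := by
  have hfp := Fact.mk hp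
  obtain ⟨-, -, F, _, _, hch, hF, ⟨E⟩⟩ := h
  obtain ⟨hf, -, h2, e, he1, he⟩ := field_data hp hp2 hF
  refine ⟨fun δ r hr hrp hi x hx => ?_⟩
  have hrp' : r ≠ p := fun h => hrp (by rw [h])
  have hodd : Odd (n - 1) := Nat.Even.sub_odd (by omega) hne odd_one
  have hco : P1.co (p ^ f) r = orderOf ((Fintype.card F : ℕ) : ZMod r) := by rw [hF]; rfl
  rw [hco] at hi
  rw [← MulEquiv.orderOf_eq E x, ← hF]
  rw [← MulEquiv.orderOf_eq E x] at hx
  exact psp_win h2 he1 he (by omega) hodd hr hrp' hx hi (by rcases hi with h | h <;> omega)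

theorem lwin_oodd {p f n : ℕ} {X : Type u} [Group X] [Finite X] (hp : p.Prime) (hp2 : p ≠ 2) (hn : 4 ≤ n)
    (hne : Even n) (h : Fam.Is p f X (.oodd n)) : LWin n p (p ^ f) X := by
  have hfp := Fact.mk hp
  obtain ⟨-, -, F, _, _, hch, hF, ⟨E⟩⟩ := h
  obtain ⟨hf, -, h2, e, he1, he⟩ := field_data hp hp2 hF
  refine ⟨fun δ r hr hrp hi x hx => ?_⟩
  have hrp' : r ≠ p := fun h => hrp (by rw [h])
  have hodd : Odd (n - 1) := Nat.Even.sub_odd (by omega) hne odd_one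
  have hco : P1.co (p ^ f) r = orderOf ((Fintype.card F : ℕ) : ZMod r) := by rw [hF]; rfl
  rw [hco] at hi
  rw [← MulEquiv.orderOf_eq E x, ← hF]
  rw [← MulEquiv.orderOf_eq E x] at hx
  have key : ∀ y : POmega F ⇑(oddForm n F), r ∣ orderOf y →
      orderOf y ∣ AN δ (n - 1) (Fintype.card F) * p ∨
        orderOf y ∣ AN δ (n - 1) (Fintype.card F) * AN (-δ) 1 (Fintype.card F) := fun y hy1 =>
    oodd_win h2 he1 he (nondeg_oddForm n F h2) (by omega) hodd (by simp only [_root_.Fintype.card_sum, _root_.Fintype.card_unique, _root_.Fintype.card_fin]; ring) hr hrp' hy1 hi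
      (by rcases hi with h | h <;> omega)
  rw [coe_oddForm] at key
  exact key (E x) hx

end Cfsg.Agent.R2.Spec.X5
end

private theorem dce_47273febdf67 : _root_.True := by
  try have : _root_.True := by simp only [_root_.Cfsg.Agent.R2.Spec.X5.RP.eq_1]
  try have : _root_.True := by simp only [_root_.Cfsg.Agent.R2.Spec.X5.RM.eq_1]
  try have : _root_.True := by simp only [_root_.Cfsg.Agent.R2.Spec.X5.UMn.eq_1]
  try have : _root_.True := by simp only [_root_.Cfsg.Agent.R2.Spec.X5.RA.eq_1]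
  try have : _root_.True := by simp only [_root_.Cfsg.Agent.R2.Spec.X5.UPn.eq_1]
  try have : _root_.True := by simp only [_root_.Cfsg.Agent.R2.Spec.X5.UAn.eq_1]
  try have : _root_.True := by simp only [_root_.Cfsg.Agent.R2.Spec.X5.UBn.eq_1]
  try have : _root_.True := by simp only [_root_.Cfsg.Agent.R2.Spec.X5.RB.eq_1]
  exact _root_.True.intro
end

-- part: R2/Spec/X5/Build
section
set_option linter.all false
open scoped Cfsg.Agent.FastGrp

-- part: R2/Spec/X5/TopNum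
section
/-!
# S3435, box X5 (helper12): the numbers `ttor`, `tnum`
-/

set_option autoImplicit false

namespace Cfsg.Agent.R2.Spec.X5

open Cfsg Cfsg.Agent.H426.LieFam Cfsg.Agent.R2.Spec Cfsg.Agent.R2.Spec.P1 Cfsg.Agent.R2.Spec.P1.Eig
open Cfsg.Agent.R2.Spec.F1 Cfsg.Agent.H403.NumTop

/-- the sign of the class `j` -/
def eB (j : ℕ) : ℤ := if j % 2 = 0 then -1 else 1

theorem eB_pm (j : ℕ) : eB j = 1 ∨ eB j = -1 := by
  unfold eB
  split_ifs
  · exact Or.inr rfl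
  · exact Or.inl rfl

theorem eB_even {j : ℕ} (h : j % 2 = 0) : eB j = -1 := if_pos h

theorem eB_odd {j : ℕ} (h : j % 2 = 1) : eB j = 1 := if_neg (by omega)

theorem tnum_B {t : Fam} {m : ℕ} (ht : IsB t m) (u j : ℕ) : tnum t u j = AN (eB j) (eta j) u := by
  have key : (if Even j then u ^ (j / 2) + 1 else u ^ j - 1) = AN (eB j) (eta j) u := by
    rcases Nat.mod_two_eq_zero_or_one j with h | h
    · rw [if_pos (Nat.even_iff.2 h), eB_even h, AN_neg, show eta j = j / 2 by have := eta_even h; omega]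
    · rw [if_neg (by rw [Nat.even_iff]; omega), eB_odd h, AN_one, eta_odd h]
  cases t with
  | psp n => exact key
  | oodd n => exact key
  | oplus n => exact key
  | ominus n => exact key
  | _ => exact ht.elim

theorem tnum_A {t : Fam} {m : ℕ} {e : Bool} (ht : IsA t m e) (u j : ℕ) : tnum t u j = AA e j u := by
  cases t with
  | psl n =>
    obtain ⟨-, rfl⟩ := ht
    exact tnum_psl n u j
  | psu n =>
    obtain ⟨-, rfl⟩ := ht
    exact tnum_psu n u j
  | _ => exact ht.elim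

theorem gcd_two_dvd {u m : ℕ} (hu : 1 ≤ u) : Nat.gcd 2 (u - 1) ∣ u ^ m - 1 ∧ Nat.gcd 2 (u - 1) ∣ u ^ m + 1 := by
  have h1 : Nat.gcd 2 (u - 1) ∣ u ^ m - 1 := (Nat.gcd_dvd_right _ _).trans (Nat.sub_one_dvd_pow_sub_one _ _)
  refine ⟨h1, ?_⟩
  have h2 : u ^ m + 1 = (u ^ m - 1) + 2 := by
    have := Nat.one_le_pow m u hu
    omega
  rw [h2]
  exact dvd_add h1 (Nat.gcd_dvd_left _ _)

theorem gcd_two_even {u : ℕ} (hu : 1 ≤ u) (h : u % 2 = 0) : Nat.gcd 2 (u - 1) = 1 := by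
  apply Nat.Coprime.gcd_eq_one
  rw [Nat.coprime_two_left, Nat.odd_iff]
  omega

theorem gcd_four_odd {N : ℕ} (h : N % 2 = 1) : Nat.gcd 4 N = 1 := by
  have : Nat.Coprime (2 ^ 2) N := Nat.Coprime.pow_left 2 (by rw [Nat.coprime_two_left, Nat.odd_iff]; exact h)
  exact this

theorem pow_mod_two {u m : ℕ} (hm : 1 ≤ m) : u ^ m % 2 = u % 2 := by
  rw [Nat.pow_mod]
  rcases Nat.mod_two_eq_zero_or_one u with h | h <;> rw [h]
  · rw [zero_pow (by omega)]
    rfl
  · rw [one_pow]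
    rfl

/-- `4 ∣ a b` -/
theorem gcd_four_dvd {N a b : ℕ} (h : N % 2 = 0 → a % 2 = 0 ∧ b % 2 = 0) : Nat.gcd 4 N ∣ a * b := by
  rcases Nat.mod_two_eq_zero_or_one N with h1 | h1
  · obtain ⟨h2, h3⟩ := h h1
    refine (Nat.gcd_dvd_left _ _).trans ?_
    exact mul_dvd_mul (a := 2) (b := a) (c := 2) (d := b) (Nat.dvd_of_mod_eq_zero h2) (Nat.dvd_of_mod_eq_zero h3)
  · rw [gcd_four_odd h1]
    exact one_dvd _

/-- **The numbers of a top class, families `B`, `C`, `D`.** -/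
theorem exists_TB {t : Fam} {m u c : ℕ} (ht : IsB t m) (hm : 3 ≤ m) (hu : 2 ≤ u) (hc : top t c) :
    ∃ F c0, c0 * ttor t u c = F * AN (eB c) (eta c) u ∧ (F = 1 ∨ F = u - 1 ∨ F = u + 1) ∧
      ((eta c = m ∧ F = 1) ∨ eta c + 1 = m) ∧ c0 ∣ 4 ∧ (u % 2 = 0 → c0 = 1) ∧
      ((t = .psp m ∨ t = .oodd m) → c0 ∣ 2) := by
  have hu1 : 1 ≤ u := by omega
  have kBC : ∀ c : ℕ, (c = 2 * m ∨ (c = m ∧ m % 2 = 1)) →
      Nat.gcd 2 (u - 1) * (if c = 2 * m then (u ^ m + 1) / Nat.gcd 2 (u - 1) else (u ^ m - 1) / Nat.gcd 2 (u - 1)) =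
        1 * AN (eB c) (eta c) u ∧ eta c = m := by
    intro c hc
    obtain ⟨g1, g2⟩ := gcd_two_dvd (u := u) (m := m) hu1
    rcases hc with rfl | ⟨rfl, hm1⟩
    · rw [if_pos rfl, Nat.mul_div_cancel' g2, eB_even (by omega), eta_two_mul', AN_neg, one_mul]
      exact ⟨rfl, rfl⟩
    · rw [if_neg (by omega), Nat.mul_div_cancel' g1, eB_odd hm1, eta_odd hm1, AN_one, one_mul]
      exact ⟨rfl, rfl⟩
  cases t with
  | psp n =>
    obtain rfl : n = m := ht
    obtain ⟨h1, h2⟩ := kBC c hc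
    exact ⟨1, _, h1, Or.inl rfl, Or.inl ⟨h2, rfl⟩, (Nat.gcd_dvd_left _ _).trans (by norm_num), gcd_two_even hu1,
      fun _ => Nat.gcd_dvd_left _ _⟩
  | oodd n =>
    obtain rfl : n = m := ht
    obtain ⟨h1, h2⟩ := kBC c hc
    exact ⟨1, _, h1, Or.inl rfl, Or.inl ⟨h2, rfl⟩, (Nat.gcd_dvd_left _ _).trans (by norm_num), gcd_two_even hu1,
      fun _ => Nat.gcd_dvd_left _ _⟩
  | oplus n =>
    obtain rfl : n = m := ht
    have hpm := pow_mod_two (u := u) (m := n) (by omega)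
    have hpm1 := pow_mod_two (u := u) (m := n - 1) (by omega)
    have h1n := Nat.one_le_pow n u hu1
    have h1n1 := Nat.one_le_pow (n - 1) u hu1
    obtain ⟨g1, g2⟩ := gcd_two_dvd (u := u) (m := n - 1) hu1
    have hev : u % 2 = 0 → Nat.gcd 4 (u ^ n - 1) = 1 := fun h => gcd_four_odd (by omega)
    rcases hc with ⟨rfl, hm1⟩ | rfl | ⟨rfl, hm1⟩
    · refine ⟨1, Nat.gcd 4 (u ^ c - 1), ?_, Or.inl rfl, Or.inl ⟨eta_odd hm1, rfl⟩, Nat.gcd_dvd_left _ _, hev,
        fun h => by rcases h with h | h <;> cases h⟩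
      change _ * (if c = c then _ else _) = _
      rw [if_pos rfl, Nat.mul_div_cancel' (Nat.gcd_dvd_right _ _), eB_odd hm1, eta_odd hm1, AN_one, one_mul]
    · rcases Nat.mod_two_eq_zero_or_one n with hn | hn
      · refine ⟨1, Nat.gcd 2 (u - 1), ?_, Or.inl rfl, Or.inr (by rw [eta_two_mul']; omega),
          (Nat.gcd_dvd_left _ _).trans (by norm_num), gcd_two_even hu1, fun h => by rcases h with h | h <;> cases h⟩
        change _ * (if 2 * (n - 1) = n then _ else if 2 * (n - 1) = n - 1 then _ else if n % 2 = 0 then _ else _) = _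
        rw [if_neg (by omega), if_neg (by omega), if_pos hn, Nat.mul_div_cancel' g2, eB_even (by omega), eta_two_mul',
          AN_neg, one_mul]
      · refine ⟨u + 1, Nat.gcd 4 (u ^ n - 1), ?_, Or.inr (Or.inr rfl), Or.inr (by rw [eta_two_mul']; omega),
          Nat.gcd_dvd_left _ _, hev, fun h => by rcases h with h | h <;> cases h⟩
        change _ * (if 2 * (n - 1) = n then _ else if 2 * (n - 1) = n - 1 then _ else if n % 2 = 0 then _ else _) = _
        rw [if_neg (by omega), if_neg (by omega), if_neg (by omega),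
          Nat.mul_div_cancel' (gcd_four_dvd (fun h => by omega)), eB_even (by omega), eta_two_mul', AN_neg, mul_comm]
    · refine ⟨1, Nat.gcd 2 (u - 1), ?_, Or.inl rfl, Or.inr (by rw [eta_odd (by omega)]; omega),
        (Nat.gcd_dvd_left _ _).trans (by norm_num), gcd_two_even hu1, fun h => by rcases h with h | h <;> cases h⟩
      change _ * (if n - 1 = n then _ else if n - 1 = n - 1 then _ else _) = _
      rw [if_neg (by omega), if_pos rfl, Nat.mul_div_cancel' g1, eB_odd (by omega), eta_odd (by omega), AN_one, one_mul]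
  | ominus n =>
    obtain rfl : n = m := ht
    have hpm := pow_mod_two (u := u) (m := n) (by omega)
    have hpm1 := pow_mod_two (u := u) (m := n - 1) (by omega)
    have h1n := Nat.one_le_pow n u hu1
    have h1n1 := Nat.one_le_pow (n - 1) u hu1
    have hev : u % 2 = 0 → Nat.gcd 4 (u ^ n + 1) = 1 := fun h => gcd_four_odd (by omega)
    rcases hc with rfl | rfl | ⟨rfl, hm1⟩
    · refine ⟨1, Nat.gcd 4 (u ^ n + 1), ?_, Or.inl rfl, Or.inl ⟨eta_two_mul' n, rfl⟩, Nat.gcd_dvd_left _ _, hev,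
        fun h => by rcases h with h | h <;> cases h⟩
      change _ * (if 2 * n = 2 * n then _ else _) = _
      rw [if_pos rfl, Nat.mul_div_cancel' (Nat.gcd_dvd_right _ _), eB_even (by omega), eta_two_mul', AN_neg, one_mul]
    · refine ⟨u - 1, Nat.gcd 4 (u ^ n + 1), ?_, Or.inr (Or.inl rfl), Or.inr (by rw [eta_two_mul']; omega),
        Nat.gcd_dvd_left _ _, hev, fun h => by rcases h with h | h <;> cases h⟩
      change _ * (if 2 * (n - 1) = 2 * n then _ else if 2 * (n - 1) = n - 1 then _ else _) = _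
      rw [if_neg (by omega), if_neg (by omega), Nat.mul_div_cancel' (gcd_four_dvd (fun h => by omega)),
        eB_even (by omega), eta_two_mul', AN_neg, mul_comm]
    · refine ⟨u + 1, Nat.gcd 4 (u ^ n + 1), ?_, Or.inr (Or.inr rfl), Or.inr (by rw [eta_odd (by omega)]; omega),
        Nat.gcd_dvd_left _ _, hev, fun h => by rcases h with h | h <;> cases h⟩
      change _ * (if n - 1 = 2 * n then _ else if n - 1 = n - 1 then _ else _) = _
      rw [if_neg (by omega), if_pos rfl, Nat.mul_div_cancel' (gcd_four_dvd (fun h => by omega)),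
        eB_odd (by omega), eta_odd (by omega), AN_one, mul_comm]
  | _ => exact ht.elim

/-- `(y - 1) gcd (m, y - 1) ∣ y ^ m - 1` -/
theorem AA_dvd {e : Bool} {m u : ℕ} (hu : 1 ≤ u) : AA e 1 u * Nat.gcd m (AA e 1 u) ∣ AA e m u := by
  obtain ⟨y, hy⟩ : ∃ y, y = xv e u := ⟨_, rfl⟩
  have key : ∀ (i : ℕ) (z : ℤ), (z ∣ ((AA e i u : ℕ) : ℤ) ↔ z ∣ y ^ i - 1) := by
    intro i z
    rcases AA_eq (e := e) (i := i) hu with h | h
    · rw [h, hy]
    · rw [h, hy, dvd_neg]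
  have hg1 : ((Nat.gcd m (AA e 1 u) : ℕ) : ℤ) ∣ y - 1 := by
    have h1 := (key 1 ((Nat.gcd m (AA e 1 u) : ℕ) : ℤ)).1 (by exact_mod_cast Nat.gcd_dvd_right m (AA e 1 u))
    rwa [pow_one] at h1
  have hg2 : ((Nat.gcd m (AA e 1 u) : ℕ) : ℤ) ∣ m := by exact_mod_cast Nat.gcd_dvd_left m (AA e 1 u)
  have hsum : ((Nat.gcd m (AA e 1 u) : ℕ) : ℤ) ∣ ∑ i ∈ Finset.range m, y ^ i := by
    have h1 : (y - 1) ∣ ∑ i ∈ Finset.range m, (y ^ i - 1) := Finset.dvd_sum (fun i _ => by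
      have := sub_dvd_pow_sub_pow y 1 i
      rwa [one_pow] at this)
    have h2 : ∑ i ∈ Finset.range m, y ^ i = (∑ i ∈ Finset.range m, (y ^ i - 1)) + m := by
      rw [Finset.sum_sub_distrib]
      simp
    rw [h2]
    exact dvd_add (hg1.trans h1) hg2
  have h3 : (((AA e 1 u * Nat.gcd m (AA e 1 u) : ℕ)) : ℤ) ∣ ((AA e m u : ℕ) : ℤ) := by
    rw [key m, ← geom_sum_mul, Nat.cast_mul, mul_comm]
    refine mul_dvd_mul hsum ?_
    have h4 := (key 1 ((AA e 1 u : ℕ) : ℤ)).1 dvd_rfl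
    rwa [pow_one] at h4
  exact_mod_cast h3

/-- `gcd (m, y - 1) ∣ y ^ i - 1` -/
theorem gcd_dvd_AA {e : Bool} {m i u : ℕ} (hu : 1 ≤ u) : Nat.gcd m (AA e 1 u) ∣ AA e i u :=
  ((Nat.gcd_dvd_right _ _).trans (Dvd.intro _ rfl)).trans (AA_dvd (e := e) (m := i) hu)

/-- **The numbers of a top class, family `A`.** -/
theorem exists_TA {t : Fam} {m u c : ℕ} {e : Bool} (ht : IsA t m e) (hm : 3 ≤ m) (hu : 2 ≤ u) (hc : top t c) :
    ∃ c0, c0 * ttor t u c = AA e c u ∧
      ((c = m ∧ c0 = AA e 1 u * Nat.gcd m (AA e 1 u)) ∨ (c + 1 = m ∧ c0 = Nat.gcd m (AA e 1 u))) := by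
  have hu1 : 1 ≤ u := by omega
  have a1 : AA true 1 u = u - 1 := by simp [AA]
  have a2 : AA false 1 u = u + 1 := by simp [AA]
  cases t with
  | psl n =>
    obtain ⟨rfl, rfl⟩ := ht
    obtain ⟨-, rfl | h1⟩ := hc
    · refine ⟨_, ?_, Or.inl ⟨rfl, rfl⟩⟩
      have h2 := AA_dvd (e := true) (m := c) hu1
      have h3 : ttor (.psl c) u c = AA true c u / (AA true 1 u * Nat.gcd c (AA true 1 u)) := by
        change (if c = c then _ else _) = _
        rw [if_pos rfl, a1]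
        simp [AA]
      rw [h3, Nat.mul_div_cancel' h2]
    · refine ⟨_, ?_, Or.inr ⟨h1, rfl⟩⟩
      have h2 := gcd_dvd_AA (e := true) (m := n) (i := c) hu1
      have h3 : ttor (.psl n) u c = AA true c u / Nat.gcd n (AA true 1 u) := by
        change (if c = n then _ else _) = _
        rw [if_neg (by omega), a1, show n - 1 = c by omega]
        simp [AA]
      rw [h3, Nat.mul_div_cancel' h2]
  | psu n =>
    obtain ⟨rfl, rfl⟩ := ht
    obtain ⟨-, rfl | h1⟩ := hc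
    · refine ⟨_, ?_, Or.inl ⟨rfl, rfl⟩⟩
      have h2 := AA_dvd (e := false) (m := c) hu1
      have h3 : ttor (.psu c) u c = AA false c u / (AA false 1 u * Nat.gcd c (AA false 1 u)) := by
        change (if c = c then _ else _) = _
        rw [if_pos rfl, a2]
        simp [AA]
      rw [h3, Nat.mul_div_cancel' h2]
    · refine ⟨_, ?_, Or.inr ⟨h1, rfl⟩⟩
      have h2 := gcd_dvd_AA (e := false) (m := n) (i := c) hu1
      have h3 : ttor (.psu n) u c = AA false c u / Nat.gcd n (AA false 1 u) := by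
        change (if c = n then _ else _) = _
        rw [if_neg (by omega), a2, show n - 1 = c by omega]
        rcases Nat.mod_two_eq_zero_or_one n with h | h
        · have : ¬ c % 2 = 0 := by omega
          simp [AA, h, this]
        · have : c % 2 = 0 := by omega
          simp [AA, h, this]
      rw [h3, Nat.mul_div_cancel' h2]
  | _ => exact ht.elim

end Cfsg.Agent.R2.Spec.X5
end

-- part: R2/Spec/X5/Build
section
/-!
# S3435, box X5 (helper12): from the groups to the numbers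
-/

set_option autoImplicit false
set_option linter.unusedSectionVars false
set_option linter.unusedVariables false

namespace Cfsg.Agent.R2.Spec.X5

open Subgroup Cfsg
open Cfsg.Agent.H426.LieFam Cfsg.Agent.R2.Spec Cfsg.Agent.R2.Spec.P1 Cfsg.Agent.R2.Spec.F1
open Cfsg.Agent.H420.QR Cfsg.Agent.R2.Spec.P1.Eig Cfsg.Agent.H403.NumTop

universe u w

variable {t : Fam} {p f : ℕ} {L : Type w} [Group L] [Finite L] {G : Type u} [Group G] [Finite G]
variable {K : Subgroup G} [K.Normal] {S : Subgroup (G ⧸ K)} [S.Normal]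
variable {t' : Fam} {v f' : ℕ}

/-- the class of `L` -/
def icl (n : ℕ) (δ : ℤ) : ℕ := if δ = 1 then n - 1 else 2 * (n - 1)

theorem icl_or {n : ℕ} {δ : ℤ} (hn : 6 ≤ n) : icl n δ = n - 1 ∨ icl n δ = 2 * n - 2 := by
  unfold icl
  split_ifs
  · exact Or.inl rfl
  · right; omega

theorem icl_JJ {n : ℕ} {δ : ℤ} (hn : 6 ≤ n) : icl n δ ∈ JJ n := by
  rw [mem_JJ]
  rcases icl_or (δ := δ) hn with h | h <;> omega

theorem lwin_CE (hL : Fam.Is p f L t) (hp : p.Prime) (hp2 : p ≠ 2) (ht : CE t) : LWin (rk t) p (p ^ f) L := by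
  obtain ⟨n, rfl | rfl, hn, hn2⟩ := ht
  · exact lwin_psp hp hp2 (show 4 ≤ n by omega) (Nat.even_iff.2 hn2) hL
  · exact lwin_oodd hp hp2 (show 4 ≤ n by omega) (Nat.even_iff.2 hn2) hL

/-- **The window.** -/
theorem winS (h : LS t p f L G) (hL : Fam.Is p f L t) (hp2 : p ≠ 2) (ht : CE t) {δ : ℤ} (hδ : δ = 1 ∨ δ = -1) {w : ℕ}
    (hw : w.Prime) (hwc : cls t (p ^ f) w = icl (rk t) δ) {N : ℕ} (hN : ∃ y : S, orderOf y = N) (hd : w ∣ N) :
    ∃ κ : ℕ, 1 ≤ κ ∧ κ ≤ p ^ f + 1 ∧ (N : ℤ) ∣ κ * (((p ^ f) ^ (rk t - 1) : ℕ) - δ) := by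
  obtain ⟨hn, hn2⟩ := ht.rk6
  have hq := h.q_pos
  have hwI := ht.in_J (icl_JJ (δ := δ) hn) hw hwc
  obtain ⟨y, hy⟩ := hN
  obtain ⟨x, hx⟩ := (h.ord N).1 (exists_of_S ⟨y, hy⟩)
  have h1 := (lwin_CE hL h.prime hp2 ht).win δ w hw (hwI.not_dvd h.fpos) (by
    rw [← cls_eq_co (t := t) (by intro k hk; obtain ⟨n, rfl | rfl, -⟩ := ht <;> cases hk), hwc]
    unfold icl
    rcases hδ with rfl | rfl
    · right; simp
    · left; simp) x (by rw [hx]; exact hd)
  rw [hx] at h1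
  have hq1 : 1 ≤ p ^ f := by omega
  have hV : ((AN δ (rk t - 1) (p ^ f) : ℕ) : ℤ) = (((p ^ f) ^ (rk t - 1) : ℕ) : ℤ) - δ := by
    rw [AN_int hδ hq1]
    push_cast
    ring
  rcases h1 with h1 | h1
  · refine ⟨p, h.prime.one_lt.le, ?_, ?_⟩
    · have : p ≤ p ^ f := Nat.le_self_pow (by have := h.fpos; omega) p
      omega
    · rw [← hV]
      rw [mul_comm] at h1
      exact_mod_cast h1
  · refine ⟨AN (-δ) 1 (p ^ f), ?_, ?_, ?_⟩
    · have := AN_ge (ε := -δ) (by rcases hδ with rfl | rfl; exact Or.inr rfl; exact Or.inl (by norm_num)) 1 hq1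
      rw [pow_one] at this
      have := h.q_three hp2
      omega
    · have := AN_le (ε := -δ) (by rcases hδ with rfl | rfl; exact Or.inr rfl; exact Or.inl (by norm_num)) 1 (p ^ f)
      rwa [pow_one] at this
    · rw [← hV]
      rw [mul_comm] at h1
      exact_mod_cast h1

/-- different classes -/
theorem cls_ne (h : LS t p f L G) (hR : Red G K S) (hF : Frm G K S t' v f') (hp2 : p ≠ 2) (ht : CE t) {i j x y : ℕ}
    (hi : i ∈ JJ (rk t)) (hj : j ∈ JJ (rk t)) (hij : i ≠ j) (hx : x.Prime) (hxc : cls t (p ^ f) x = i) (hy : y.Prime)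
    (hyc : cls t (p ^ f) y = j) : cls t' (v ^ f') x ≠ cls t' (v ^ f') y := by
  intro he
  have hxI := ht.in_J hi hx hxc
  have hyI := ht.in_J hj hy hyc
  exact h.not_adj_S hxI hyI (ht.coq i hi j hj hij) (adj_same' hF.cla hF.prime hF.is hx hy hxI.ne_two
    hyI.ne_two (hxI.ne hyI hij) (h.ne_v_J hR hF hp2 ht hi hx hxc) (h.ne_v_J hR hF hp2 ht hj hy hyc)
    (h.good_J hR hF hp2 ht hi hx hxc).2 (h.good_J hR hF hp2 ht hj hy hyc).2 he)

/-- the data of the class `2n` -/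
structure TopD (t : Fam) (p f : ℕ) (t' : Fam) (v f' : ℕ) (S : Type*) [Group S] (h w : ℕ) : Prop where
  wp : w.Prime
  wc : cls t (p ^ f) w = 2 * rk t
  top : top t' (cls t' (v ^ f') w)
  hf : h ∣ f'
  ho : Odd h
  vh : ¬ v ∣ h
  l : 2 * h * ttor t' (v ^ f') (cls t' (v ^ f') w) = p ^ f * (p ^ f) ^ (rk t - 1) + 1

theorem exists_TopD (h : LS t p f L G) (hL : Fam.Is p f L t) (hR : Red G K S) (hF : Frm G K S t' v f') (hp2 : p ≠ 2)
    (ht : CE t) (hv : ¬ v ∣ ((p ^ f) ^ rk t + 1) / 2) : ∃ h0 w, TopD t p f t' v f' S h0 w := by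
  obtain ⟨⟨a, E, hE, hao, haf, ⟨y, hy⟩, hwE⟩, hnap⟩ := wfacX h hL hR hF hp2 ht hv
  obtain ⟨hn, hn2⟩ := ht.rk6
  have hq3 := h.q_three hp2
  have hqo := h.q_odd hp2
  have j0 : 2 * rk t ∈ JJ (rk t) := by rw [mem_JJ]; omega
  obtain ⟨w, hw⟩ := h.exists_J hp2 ht j0
  obtain ⟨h3, hn'⟩ := hnap w hw.prime hw.cls_eq
  have hwv := h.ne_v_J hR hF hp2 ht j0 hw.prime hw.cls_eq
  have hwS := (h.good_J hR hF hp2 ht j0 hw.prime hw.cls_eq).2
  have hm := hF.mem_cls hw.prime hw.ne_two hwS h3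
  have htop := top_of_iso hF.cla h3 hm hn'
  have hTF := top_facts_all hF.cla hF.prime hF.is
  have hwv' : ¬ w ∣ v := fun hd => hwv ((Nat.prime_dvd_prime_iff_eq hw.prime hF.prime).1 hd)
  have hEP := hTF.ub w hw.prime hwv' htop y (by rw [hy]; exact hwE w hw.prime hw.cls_eq)
  rw [hy] at hEP
  obtain ⟨x, hx⟩ := hTF.elt _ htop
  -- `A`
  obtain ⟨A, hA⟩ : ∃ A, A = ((p ^ f) ^ rk t + 1) / 2 := ⟨_, rfl⟩
  rw [← hA] at hE hv
  have htf := top_facts_all ht.cla h.prime hL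
  have htopL : P1.top t (2 * rk t) := by
    obtain ⟨k, rfl | rfl, -⟩ := ht
    · exact Or.inl rfl
    · exact Or.inl rfl
  have htt : ttor t (p ^ f) (2 * rk t) = A := by
    rw [hA]
    obtain ⟨k, rfl | rfl, -⟩ := ht
    · change (if 2 * k = 2 * k then _ else _) = _
      rw [if_pos rfl, two_dvd_sub_one hqo]
      rfl
    · change (if 2 * k = 2 * k then _ else _) = _
      rw [if_pos rfl, two_dvd_sub_one hqo]
      rfl
  obtain ⟨P0, hP0⟩ : ∃ P0, P0 = ttor t' (v ^ f') (cls t' (v ^ f') w) := ⟨_, rfl⟩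
  rw [← hP0] at hx hEP
  obtain ⟨x', hx'⟩ := (h.ord P0).1 (exists_of_S ⟨x, hx⟩)
  have hPA := htf.ub w hw.prime (hw.not_dvd h.fpos) (by rw [hw.cls_eq]; exact htopL) x' (by
    rw [hx']
    exact (hwE w hw.prime hw.cls_eq).trans hEP)
  rw [hw.cls_eq, htt, hx'] at hPA
  obtain ⟨h0, hh0⟩ := hPA
  obtain ⟨z, hz⟩ := hEP
  have hE0 : 0 < E := by rw [← hy]; exact orderOf_pos y
  have ha0 : h0 ∣ a := by
    refine ⟨z, ?_⟩
    have h5 : E * a = E * (h0 * z) := by
      rw [mul_comm E a, ← hE, hh0, hz]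
      ring
    exact Nat.eq_of_mul_eq_mul_left hE0 h5
  have hmod : ((p ^ f) ^ rk t + 1) % 2 = 0 := by
    have := pow_mod_two (u := p ^ f) (m := rk t) (by omega)
    omega
  refine ⟨h0, w, hw.prime, hw.cls_eq, htop, ha0.trans haf, ?_, fun hd => hv ?_, ?_⟩
  · obtain ⟨b, hb⟩ := ha0
    rw [hb] at hao
    exact (Nat.odd_mul.1 hao).1
  · rw [hh0]
    exact hd.mul_left _
  · rw [← hP0]
    have h6 : p ^ f * (p ^ f) ^ (rk t - 1) = (p ^ f) ^ rk t := by
      rw [← pow_succ']; congr 1; omega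
    rw [h6, mul_assoc, mul_comm h0 P0, ← hh0, hA]
    omega

end Cfsg.Agent.R2.Spec.X5
end
end

-- part: R2/Spec/X5/NoB
section
set_option linter.all false
open scoped Cfsg.Agent.FastGrp

-- part: R2/Spec/X5/BuildB
section
/-!
# S3435, box X5 (helper12): the data of `NumB`, `NumA` from the groups
-/

set_option autoImplicit false
set_option linter.unusedSectionVars false
set_option linter.unusedVariables false

namespace Cfsg.Agent.R2.Spec.X5

open Subgroup Cfsg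
open Cfsg.Agent.H426.LieFam Cfsg.Agent.R2.Spec Cfsg.Agent.R2.Spec.P1 Cfsg.Agent.R2.Spec.F1
open Cfsg.Agent.H420.QR Cfsg.Agent.R2.Spec.P1.Eig Cfsg.Agent.H403.NumTop

universe u w

variable {t : Fam} {p f : ℕ} {L : Type w} [Group L] [Finite L] {G : Type u} [Group G] [Finite G]
variable {K : Subgroup G} [K.Normal] {S : Subgroup (G ⧸ K)} [S.Normal]
variable {t' : Fam} {v f' : ℕ}

theorem IsB.rk {t : Fam} {m : ℕ} (h : IsB t m) : rk t = m := by
  cases t with
  | psp n => exact h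
  | oodd n => exact h
  | oplus n => exact h
  | ominus n => exact h
  | _ => exact h.elim

theorem IsB.wt {t : Fam} {m : ℕ} (h : IsB t m) (j : ℕ) : wt t j = eta j := by
  cases t with
  | psp n => rfl
  | oodd n => rfl
  | oplus n => rfl
  | ominus n => rfl
  | _ => exact h.elim

theorem IsB.mem_le {t : Fam} {m : ℕ} (h : IsB t m) {j : ℕ} (hj : mem t j) : eta j ≤ m := by
  cases t with
  | psp n => obtain rfl : n = m := h; exact hj
  | oodd n => obtain rfl : n = m := h; exact hj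
  | oplus n =>
    obtain rfl : n = m := h
    rcases hj with h1 | ⟨h1, h2⟩
    · omega
    · rw [h1, eta_odd h2]
  | ominus n =>
    obtain rfl : n = m := h
    rcases hj with h1 | h1
    · omega
    · rw [h1, eta_two_mul']
  | _ => exact h.elim

theorem IsB.top_of {t : Fam} {m : ℕ} (h : IsB t m) {j : ℕ} (hj : mem t j) (he : eta j = m) (hm : 1 ≤ m) :
    P1.top t j := by
  have hc : (j % 2 = 1 ∧ j = m) ∨ (j % 2 = 0 ∧ j = 2 * m) := by
    rcases Nat.mod_two_eq_zero_or_one j with h1 | h1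
    · right
      have := eta_even h1
      omega
    · left
      have := eta_odd h1
      omega
  cases t with
  | psp n =>
    obtain rfl : n = m := h
    rcases hc with ⟨h1, rfl⟩ | ⟨h1, rfl⟩
    · exact Or.inr ⟨rfl, h1⟩
    · exact Or.inl rfl
  | oodd n =>
    obtain rfl : n = m := h
    rcases hc with ⟨h1, rfl⟩ | ⟨h1, rfl⟩
    · exact Or.inr ⟨rfl, h1⟩
    · exact Or.inl rfl
  | oplus n =>
    obtain rfl : n = m := h
    rcases hj with h1 | ⟨h1, h2⟩
    · omega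
    · exact Or.inl ⟨h1, h2⟩
  | ominus n =>
    obtain rfl : n = m := h
    rcases hj with h1 | h1
    · omega
    · exact Or.inl h1
  | _ => exact h.elim

/-- in `D` there is only one class of weight `m` -/
theorem IsB.uniq {t : Fam} {m : ℕ} (h : IsB t m) {j c : ℕ} (hj : mem t j) (hc : mem t c) (hej : eta j = m)
    (hec : eta c = m) (hm : 1 ≤ m) (hjc : j ≠ c) : t = .psp m ∨ t = .oodd m := by
  cases t with
  | psp n => obtain rfl : n = m := h; exact Or.inl rfl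
  | oodd n => obtain rfl : n = m := h; exact Or.inr rfl
  | oplus n =>
    obtain rfl : n = m := h
    rcases hj with h1 | ⟨h1, h2⟩
    · omega
    · rcases hc with h3 | ⟨h3, h4⟩ <;> omega
  | ominus n =>
    obtain rfl : n = m := h
    rcases hj with h1 | h1
    · omega
    · rcases hc with h3 | h3 <;> omega
  | _ => exact h.elim

theorem dvd_of_mul {w N c : ℕ} (hw : w.Prime) (h5 : 5 ≤ w) (hd : w ∣ N * c) (hc : c ∣ 2) : w ∣ N := by
  rcases hw.dvd_mul.1 hd with h | h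
  · exact h
  · have := Nat.le_of_dvd two_pos (h.trans hc)
    omega

/-- the primitive part -/
theorem exists_prim (ht : CE t) {q : ℕ} {δ : ℤ} (hδ : δ = 1 ∨ δ = -1) (hq : 3 ≤ q) (hqo : Odd q) {R : ℕ}
    (hR : R ∣ AN δ (rk t - 1) q)
    (hRp : ∀ r : ℕ, r.Prime → r ∣ R → orderOf (q : ZMod r) = if δ = 1 then rk t - 1 else 2 * (rk t - 1)) :
    R ∣ tnum t q (icl (rk t) δ) ∧ ∀ r : ℕ, r.Prime → r ∣ R → cls t q r = icl (rk t) δ := by
  constructor
  · have hB : IsB t (rk t) := by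
      obtain ⟨n, rfl | rfl, -⟩ := ht <;> exact rfl
    rw [tnum_B hB]
    obtain ⟨hn, hn2⟩ := ht.rk6
    unfold icl
    rcases hδ with rfl | rfl
    · rw [if_pos rfl, eB_odd (by omega), eta_odd (by omega)]
      exact hR
    · rw [if_neg (by norm_num), eB_even (by omega), eta_two_mul']
      exact hR
  · intro r hr hd
    rw [ht.cls_eq, hRp r hr hd]
    rfl

theorem sgB (h : LS t p f L G) (hL : Fam.Is p f L t) (hR : Red G K S) (hF : Frm G K S t' v f') (hp2 : p ≠ 2)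
    (ht : CE t) {m : ℕ} (hB : IsB t' m) {h0 w0 : ℕ} (hT : TopD t p f t' v f' S h0 w0) {δ : ℤ} (hδ : δ = 1 ∨ δ = -1) :
    ∃ k ε, SgB (p ^ f) (rk t) (v ^ f') m (eta (cls t' (v ^ f') w0)) δ k ε := by
  obtain ⟨hn, hn2⟩ := ht.rk6
  have hq3 := h.q_three hp2
  have hqo : Odd (p ^ f) := Nat.odd_iff.2 (h.q_odd hp2)
  have hS := h.bigS_CE hR hF hp2 ht
  have hm3 : 3 ≤ m := by
    have := (rk_of_bigS hF hS).1
    rw [hB.rk] at this
    exact this
  have hu2 : 2 ≤ v ^ f' := hF.prime.two_le.trans (Nat.le_self_pow hF.f_ne v)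
  have hJ := icl_JJ (δ := δ) hn
  have hJ0 : 2 * rk t ∈ JJ (rk t) := by rw [mem_JJ]; omega
  obtain ⟨w, hw⟩ := h.exists_J hp2 ht hJ
  have hwp := hw.prime
  have hwc := hw.cls_eq
  have hw5 := hw.five
  have hwv := h.ne_v_J hR hF hp2 ht hJ hwp hwc
  have hwS := (h.good_J hR hF hp2 ht hJ hwp hwc).2
  have hwv' : ¬ w ∣ v := fun hd => hwv ((Nat.prime_dvd_prime_iff_eq hwp hF.prime).1 hd)
  obtain ⟨hj3, hjb⟩ := h.nl hL hR hF hp2 ht (icl_or hn) hwp hwc
  have hjm := hF.mem_cls hwp hw.ne_two hwS hj3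
  obtain ⟨j, hj⟩ : ∃ j, j = cls t' (v ^ f') w := ⟨_, rfl⟩
  obtain ⟨c, hc⟩ : ∃ c, c = cls t' (v ^ f') w0 := ⟨_, rfl⟩
  have hcj : j ≠ c := by
    rw [hj, hc]
    refine cls_ne h hR hF hp2 ht hJ hJ0 ?_ hwp hwc hT.wp hT.wc
    rcases icl_or (δ := δ) hn with h1 | h1 <;> omega
  have hTF := top_facts_all hF.cla hF.prime hF.is
  obtain ⟨xw, hxw⟩ : ∃ x : S, orderOf x = w := by
    have := Fact.mk hwp
    obtain ⟨x, hx⟩ := exists_prime_orderOf_dvd_card' (G := S) w hwS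
    exact ⟨x, hx⟩
  have hwT : w ∣ tnum t' (v ^ f') j := by
    rw [hj]
    have := (torFacts hF.cla hF.prime hF.is).big w 1 hwp hw.ne_two hwv' hj3 hjm hjb ⟨xw, by rw [hxw, pow_one]⟩
    rwa [pow_one] at this
  rw [tnum_B hB] at hwT
  rw [hB.rk, hB.wt, ← hj] at hjb
  rw [← hj] at hj3 hjm
  have hkm := hB.mem_le hjm
  have hcm : mem t' c := by
    rw [hc]
    exact hF.mem_cls hT.wp (ht.in_J hJ0 hT.wp hT.wc).ne_two (h.good_J hR hF hp2 ht hJ0 hT.wp hT.wc).2 (by
      obtain ⟨w0', hw0'⟩ : ∃ c, c = cls t' (v ^ f') w0 := ⟨_, rfl⟩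
      by_contra hcon
      have h1 := hT.top
      cases t' with
      | psl n => exact hB.elim
      | psu n => exact hB.elim
      | psp n =>
        obtain rfl : n = m := hB
        rcases h1 with h2 | h2 <;> omega
      | oodd n =>
        obtain rfl : n = m := hB
        rcases h1 with h2 | h2 <;> omega
      | oplus n =>
        obtain rfl : n = m := hB
        have := (show 4 ≤ n from hF.is.1)
        rcases h1 with h2 | h2 | h2 <;> omega
      | ominus n =>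
        obtain rfl : n = m := hB
        have := (show 4 ≤ n from hF.is.1)
        rcases h1 with h2 | h2 | h2 <;> omega
      | _ => exact hB.elim)
  -- the torus of the class `m`
  have topT : eta j = m → ∃ c1, c1 ∣ 4 ∧ ((t' = .psp m ∨ t' = .oodd m) → c1 ∣ 2) ∧
      ttor t' (v ^ f') j * c1 = AN (eB j) (eta j) (v ^ f') ∧ ∃ κ : ℕ, 1 ≤ κ ∧ κ ≤ p ^ f + 1 ∧
        ((ttor t' (v ^ f') j : ℕ) : ℤ) ∣ κ * (((p ^ f) ^ (rk t - 1) : ℕ) - δ) := by
    intro hem
    have htop := hB.top_of hjm hem (by omega)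
    obtain ⟨F, c1, g1, g2, g3, g4, g5, g6⟩ := exists_TB hB hm3 hu2 htop
    have hF1 : F = 1 := by
      rcases g3 with ⟨-, g3⟩ | g3
      · exact g3
      · omega
    rw [hF1, one_mul, mul_comm] at g1
    refine ⟨c1, g4, g6, g1, ?_⟩
    refine winS h hL hp2 ht hδ hwp hwc (hTF.elt j htop) ?_
    have := hTF.ub w hwp hwv' (by rw [← hj]; exact htop) xw (by rw [hxw])
    rwa [hxw, ← hj] at this
  -- the primitive part
  have hsc := h.sc hL hR hF hp2 ht (icl_or (δ := δ) hn)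
  have prim : ∀ R : ℕ, Odd R → R ∣ AN δ (rk t - 1) (p ^ f) →
      (∀ r : ℕ, r.Prime → r ∣ R → orderOf ((p ^ f : ℕ) : ZMod r) = if δ = 1 then rk t - 1 else 2 * (rk t - 1)) →
      R ∣ AN (eB j) (eta j) (v ^ f') := by
    intro R hRo hR1 hR2
    obtain ⟨j', g1, g2, g3, g4, g5⟩ := hsc
    have hjj : j' = j := by rw [hj, g4 w hwp hwc]
    obtain ⟨g6, g7⟩ := exists_prim ht hδ hq3 hqo hR1 hR2
    have g8 := (g5 R hRo g6 g7).2
    rwa [hjj, tnum_B hB] at g8
  have hk1 : 1 ≤ eta j := by omega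
  have hposAN : 0 < AN (eB j) (eta j) (v ^ f') := AN_pos' hk1 hu2
  refine ⟨eta j, eB j, ⟨eB_pm j, fun h1 => ?_, by omega, hkm, fun h1 => ?_, fun h1 => ?_, fun b ε' hε' hb hkb => ?_,
    fun h6 => ?_, fun h8 => ?_, fun h10 => ?_⟩⟩
  · rcases Nat.mod_two_eq_zero_or_one j with h2 | h2
    · rw [eB_even h2] at h1
      norm_num at h1
    · rw [eta_odd h2]
      exact Nat.odd_iff.2 h2
  · rcases Nat.lt_or_ge (eta j) m with h2 | h2
    · obtain ⟨x, c1, h3, h4⟩ := torB_one hF.prime hF.is hB hk1 h2 (eB_pm j)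
      obtain ⟨κ, k1, k2, k3⟩ := winS h hL hp2 ht hδ hwp hwc (N := orderOf x) ⟨x, rfl⟩
        (dvd_of_mul hwp hw5 (by rw [h4]; exact hwT) h3)
      exact ⟨orderOf x, κ, c1, h3, h4, k1, k2, k3⟩
    · have hem : eta j = m := by omega
      have hec : eta c = m := by
        have := hB.mem_le hcm
        rw [← hc] at h1
        omega
      have hBC := hB.uniq hjm hcm hem hec (by omega) hcj
      obtain ⟨c1, h3, h4, h5, κ, k1, k2, k3⟩ := topT hem
      exact ⟨_, κ, c1, h4 hBC, h5, k1, k2, k3⟩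
  · have hem : eta j = m := by
      have h2 := hT.top
      rw [← hc] at h2 h1
      obtain ⟨F, c1, g1, g2, g3, g4, g5, g6⟩ := exists_TB hB hm3 hu2 h2
      omega
    obtain ⟨c1, h3, h4, h5, κ, k1, k2, k3⟩ := topT hem
    exact ⟨_, κ, c1, h3, h5, k1, k2, k3⟩
  · obtain ⟨x, c1, h3, h4⟩ := torB hF.prime hF.is hB hk1 hb (by omega) (eB_pm j) hε'
    obtain ⟨κ, k1, k2, k3⟩ := winS h hL hp2 ht hδ hwp hwc (N := orderOf x) ⟨x, rfl⟩
      (dvd_of_mul hwp hw5 (by rw [h4]; exact hwT.trans (Nat.dvd_lcm_left _ _)) h3)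
    exact ⟨orderOf x, κ, c1, h3, h4, k1, k2, k3⟩
  · obtain ⟨R, r1, r2, r3, r4⟩ := exists_R5 hδ hq3 hqo
    have r5 := prim R r1 (by rw [h6]; exact r3) (by rw [h6]; exact r4)
    have r6 := (Nat.le_of_dvd hposAN r5).trans (AN_le (eB_pm j) _ _)
    omega
  · obtain ⟨R, r1, r2, r3, r4⟩ := exists_R7 hδ hq3 hqo
    have r5 := prim R r1 (by rw [h8]; exact r3) (by rw [h8]; exact r4)
    have r6 := (Nat.le_of_dvd hposAN r5).trans (AN_le (eB_pm j) _ _)
    omega
  · obtain ⟨R, r1, r2, r3, r4⟩ := exists_R9 hδ hq3 hqo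
    have r5 := prim R r1 (by rw [h10]; exact r3) (by rw [h10]; exact r4)
    refine ⟨R, r2, r5, ?_⟩
    have h7 : ((AN δ 9 (p ^ f) : ℕ) : ℤ) = (((p ^ f) ^ (rk t - 1) : ℕ) : ℤ) - δ := by
      rw [AN_int hδ (by omega), h10]
      push_cast
      ring
    rw [← h7]
    exact_mod_cast r3

end Cfsg.Agent.R2.Spec.X5
end

-- part: R2/Spec/X5/NoB
section
/-!
# S3435, box X5 (helper12): `S` of type `B`, `C`, `D`, `v ∤ (q ^ n + 1) / 2`
-/

set_option autoImplicit false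
set_option linter.unusedSectionVars false
set_option linter.unusedVariables false

namespace Cfsg.Agent.R2.Spec.X5

open Subgroup Cfsg
open Cfsg.Agent.H426.LieFam Cfsg.Agent.R2.Spec Cfsg.Agent.R2.Spec.P1 Cfsg.Agent.R2.Spec.F1
open Cfsg.Agent.H420.QR Cfsg.Agent.R2.Spec.P1.Eig Cfsg.Agent.H403.NumTop

universe u w

variable {t : Fam} {p f : ℕ} {L : Type w} [Group L] [Finite L] {G : Type u} [Group G] [Finite G]
variable {K : Subgroup G} [K.Normal] {S : Subgroup (G ⧸ K)} [S.Normal]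
variable {t' : Fam} {v f' : ℕ}

/-- **Families `B`, `C`, `D`.** -/
theorem noB (h : LS t p f L G) (hL : Fam.Is p f L t) (hR : Red G K S) (hF : Frm G K S t' v f') (hvp : v ≠ p)
    (hp2 : p ≠ 2) (ht : CE t) {m : ℕ} (hB : IsB t' m) (hv : ¬ v ∣ ((p ^ f) ^ rk t + 1) / 2) : False := by
  obtain ⟨h0, w0, T⟩ := exists_TopD h hL hR hF hp2 ht hv
  obtain ⟨hn, hn2⟩ := ht.rk6
  have hq3 := h.q_three hp2
  have hqo : Odd (p ^ f) := Nat.odd_iff.2 (h.q_odd hp2)
  have hS := h.bigS_CE hR hF hp2 ht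
  have hm3 : 3 ≤ m := by
    have := (rk_of_bigS hF hS).1
    rw [hB.rk] at this
    exact this
  have hf1 : 1 ≤ f' := Nat.one_le_iff_ne_zero.2 hF.f_ne
  have hu2 : 2 ≤ v ^ f' := hF.prime.two_le.trans (Nat.le_self_pow hF.f_ne v)
  obtain ⟨F, c0, g1, g2, g3, g4, g5, g6⟩ := exists_TB hB hm3 hu2 T.top
  obtain ⟨r1, r2, r3⟩ := rank_S h hR hF hp2 ht
  rw [hB.rk] at r1 r2
  have hh0 := T.ho.pos
  have hfh : 1 ≤ f' / h0 := Nat.div_pos (Nat.le_of_dvd hf1 T.hf) hh0
  have hBC : (t' = .psp m ∨ t' = .oodd m) ∨ (∃ m, t' = .oplus m ∨ t' = .ominus m) := by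
    cases t' with
    | psp n => obtain rfl : n = m := hB; exact Or.inl (Or.inl rfl)
    | oodd n => obtain rfl : n = m := hB; exact Or.inl (Or.inr rfl)
    | oplus n => exact Or.inr ⟨n, Or.inl rfl⟩
    | ominus n => exact Or.inr ⟨n, Or.inr rfl⟩
    | _ => exact hB.elim
  have hm11 : 12 ≤ rk t → 11 ≤ m := by
    intro h12
    rcases hBC with h1 | h1
    · exact (r1 ⟨m, h1⟩).2 h12
    · exact (r2 h1).2 h12
  have hk5 : 5 ≤ eta (cls t' (v ^ f') w0) := by
    rcases hBC with h1 | h1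
    · have h5 := (r1 ⟨m, h1⟩).1
      have h6 : eta (cls t' (v ^ f') w0) = m := by
        have h7 := T.top
        rcases h1 with rfl | rfl
        · rcases h7 with h8 | ⟨h8, h9⟩
          · rw [h8, eta_two_mul']
          · rw [h8, eta_odd h9]
        · rcases h7 with h8 | ⟨h8, h9⟩
          · rw [h8, eta_two_mul']
          · rw [h8, eta_odd h9]
      omega
    · have h5 := (r2 h1).1
      rcases g3 with ⟨h6, -⟩ | h6 <;> omega
  obtain ⟨k1, ε1, S1⟩ := sgB h hL hR hF hp2 ht hB T (δ := 1) (Or.inl rfl)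
  obtain ⟨k2, ε2, S2⟩ := sgB h hL hR hF hp2 ht hB T (δ := -1) (Or.inr rfl)
  refine NB.false (v := v) (w := v ^ (f' / h0)) (h := h0) (F := F) (c0 := c0)
    (P0 := ttor t' (v ^ f') (cls t' (v ^ f') w0)) (ε0 := eB (cls t' (v ^ f') w0)) ?_ S1 S2
  refine ⟨⟨eB_pm _, by omega, T.l, g1⟩, hn, hn2, hq3, hqo, hF.prime, ?_, ⟨f', hf1, rfl⟩, ?_, ?_, T.ho, T.vh, g2, g3, g4,
    fun hv2 => g5 ?_, hk5, hm11⟩
  · intro hd
    exact hvp ((Nat.prime_dvd_prime_iff_eq hF.prime h.prime).1 (hF.prime.dvd_of_dvd_pow hd))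
  · rw [← pow_mul, Nat.div_mul_cancel T.hf]
  · exact hF.prime.two_le.trans (Nat.le_self_pow (by omega) v)
  · rw [hv2, pow_mod_two hf1]

end Cfsg.Agent.R2.Spec.X5
end
end

-- part: R2/Spec/X5/VA
section
set_option linter.all false
open scoped Cfsg.Agent.FastGrp

-- part: R2/Spec/X5/NoA
section
/-!
# S3435, box X5 (helper12): `S` of type `A`, `v ∤ (q ^ n + 1) / 2`
-/

set_option autoImplicit false
set_option linter.unusedSectionVars false
set_option linter.unusedVariables false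

namespace Cfsg.Agent.R2.Spec.X5

open Subgroup Cfsg
open Cfsg.Agent.H426.LieFam Cfsg.Agent.R2.Spec Cfsg.Agent.R2.Spec.P1 Cfsg.Agent.R2.Spec.F1
open Cfsg.Agent.H420.QR Cfsg.Agent.R2.Spec.P1.Eig Cfsg.Agent.H403.NumTop

universe u w

variable {t : Fam} {p f : ℕ} {L : Type w} [Group L] [Finite L] {G : Type u} [Group G] [Finite G]
variable {K : Subgroup G} [K.Normal] {S : Subgroup (G ⧸ K)} [S.Normal]
variable {t' : Fam} {v f' : ℕ}

theorem IsA.rk {t : Fam} {m : ℕ} {e : Bool} (h : IsA t m e) : rk t = m := by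
  cases t with
  | psl n => exact h.1
  | psu n => exact h.1
  | _ => exact h.elim

theorem IsA.wt {t : Fam} {m : ℕ} {e : Bool} (h : IsA t m e) (j : ℕ) : wt t j = j := by
  cases t with
  | psl n => rfl
  | psu n => rfl
  | _ => exact h.elim

theorem IsA.mem_le {t : Fam} {m : ℕ} {e : Bool} (h : IsA t m e) {j : ℕ} (hj : mem t j) : j ≤ m := by
  cases t with
  | psl n => obtain ⟨rfl, -⟩ := h; exact hj
  | psu n => obtain ⟨rfl, -⟩ := h; exact hj
  | _ => exact h.elim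

theorem IsA.top_of {t : Fam} {m : ℕ} {e : Bool} (h : IsA t m e) {j : ℕ} (h3 : 3 ≤ j) (hj : j = m ∨ j + 1 = m) :
    P1.top t j := by
  cases t with
  | psl n => obtain ⟨rfl, -⟩ := h; exact ⟨h3, hj⟩
  | psu n => obtain ⟨rfl, -⟩ := h; exact ⟨h3, hj⟩
  | _ => exact h.elim

theorem IsA.sg {t : Fam} {m : ℕ} {e : Bool} (h : IsA t m e) (u : ℕ) : sg t u = xv e u := by
  cases t with
  | psl n => obtain ⟨-, rfl⟩ := h; simp [Cfsg.Agent.R2.Spec.sg, xv]
  | psu n => obtain ⟨-, rfl⟩ := h; simp [Cfsg.Agent.R2.Spec.sg, xv]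
  | _ => exact h.elim

/-- the primes of a regular class do not divide `y - 1` -/
theorem not_dvd_AA_one {t : Fam} {m : ℕ} {e : Bool} (ht : IsA t m e) {u r : ℕ} (hu : 1 ≤ u)
    (h3 : 3 ≤ cls t u r) : ¬ r ∣ AA e 1 u := by
  intro hd
  have h1 : (r : ℤ) ∣ xv e u - 1 := by
    have h2 : (r : ℤ) ∣ ((AA e 1 u : ℕ) : ℤ) := by exact_mod_cast hd
    rcases AA_eq (e := e) (i := 1) hu with h | h
    · rw [h, pow_one] at h2
      exact h2
    · rw [h, pow_one, dvd_neg] at h2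
      exact h2
  have h2 : ((sg t u : ℤ) : ZMod r) = 1 := by
    rw [ht.sg]
    have := (ZMod.intCast_zmod_eq_zero_iff_dvd _ _).2 h1
    push_cast at this
    linear_combination this
  have h4 : cls t u r = 1 := by
    unfold cls
    rw [h2, orderOf_one]
  omega

theorem sgA (h : LS t p f L G) (hL : Fam.Is p f L t) (hR : Red G K S) (hF : Frm G K S t' v f') (hp2 : p ≠ 2)
    (ht : CE t) {m : ℕ} {e : Bool} (hA : IsA t' m e) {h0 w0 : ℕ} (hT : TopD t p f t' v f' S h0 w0) {δ : ℤ}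
    (hδ : δ = 1 ∨ δ = -1) :
    ∃ k, SgA (p ^ f) (rk t) (v ^ f') m (cls t' (v ^ f') w0) e δ k := by
  obtain ⟨hn, hn2⟩ := ht.rk6
  have hq3 := h.q_three hp2
  have hqo : Odd (p ^ f) := Nat.odd_iff.2 (h.q_odd hp2)
  have hS := h.bigS_CE hR hF hp2 ht
  have hm3 : 3 ≤ m := by
    have := (rk_of_bigS hF hS).1
    rw [hA.rk] at this
    exact this
  have hu2 : 2 ≤ v ^ f' := hF.prime.two_le.trans (Nat.le_self_pow hF.f_ne v)
  have hJ := icl_JJ (δ := δ) hn
  have hJ0 : 2 * rk t ∈ JJ (rk t) := by rw [mem_JJ]; omega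
  obtain ⟨w, hw⟩ := h.exists_J hp2 ht hJ
  have hwp := hw.prime
  have hwc := hw.cls_eq
  have hw5 := hw.five
  have hwv := h.ne_v_J hR hF hp2 ht hJ hwp hwc
  have hwS := (h.good_J hR hF hp2 ht hJ hwp hwc).2
  have hwv' : ¬ w ∣ v := fun hd => hwv ((Nat.prime_dvd_prime_iff_eq hwp hF.prime).1 hd)
  obtain ⟨hj3, hjb⟩ := h.nl hL hR hF hp2 ht (icl_or hn) hwp hwc
  have hjm := hF.mem_cls hwp hw.ne_two hwS hj3
  have hwA := not_dvd_AA_one hA (by omega : 1 ≤ v ^ f') hj3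
  obtain ⟨j, hj⟩ : ∃ j, j = cls t' (v ^ f') w := ⟨_, rfl⟩
  obtain ⟨c, hc⟩ : ∃ c, c = cls t' (v ^ f') w0 := ⟨_, rfl⟩
  have hcj : j ≠ c := by
    rw [hj, hc]
    refine cls_ne h hR hF hp2 ht hJ hJ0 ?_ hwp hwc hT.wp hT.wc
    rcases icl_or (δ := δ) hn with h1 | h1 <;> omega
  have hTF := top_facts_all hF.cla hF.prime hF.is
  obtain ⟨xw, hxw⟩ : ∃ x : S, orderOf x = w := by
    have := Fact.mk hwp
    obtain ⟨x, hx⟩ := exists_prime_orderOf_dvd_card' (G := S) w hwS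
    exact ⟨x, hx⟩
  have hwT : w ∣ tnum t' (v ^ f') j := by
    rw [hj]
    have := (torFacts hF.cla hF.prime hF.is).big w 1 hwp hw.ne_two hwv' hj3 hjm hjb ⟨xw, by rw [hxw, pow_one]⟩
    rwa [pow_one] at this
  rw [tnum_A hA] at hwT
  rw [hA.rk, hA.wt, ← hj] at hjb
  rw [← hj] at hj3 hjm
  have hkm := hA.mem_le hjm
  have hcop : ∀ N c1 : ℕ, w ∣ N * c1 → c1 ∣ Nat.gcd m (AA e 1 (v ^ f')) → w ∣ N := by
    intro N c1 h1 h2
    rcases hwp.dvd_mul.1 h1 with h3 | h3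
    · exact h3
    · exact absurd ((h3.trans h2).trans (Nat.gcd_dvd_right _ _)) hwA
  -- the primitive part
  have hsc := h.sc hL hR hF hp2 ht (icl_or (δ := δ) hn)
  have hposAA : 0 < AA e j (v ^ f') := by
    rw [AA_AN]
    exact AN_pos' (by omega) hu2
  have hgpos : 0 < Nat.gcd m (AA e 1 (v ^ f')) := Nat.gcd_pos_of_pos_left _ (by omega)
  have prim : ∀ R : ℕ, Odd R → R ∣ AN δ (rk t - 1) (p ^ f) →
      (∀ r : ℕ, r.Prime → r ∣ R → orderOf ((p ^ f : ℕ) : ZMod r) = if δ = 1 then rk t - 1 else 2 * (rk t - 1)) →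
      AA e 1 (v ^ f') * R ≤ (v ^ f') ^ j + 1 := by
    intro R hRo hR1 hR2
    obtain ⟨j', g1, g2, g3, g4, g5⟩ := hsc
    have hjj : j' = j := by rw [hj, g4 w hwp hwc]
    obtain ⟨g6, g7⟩ := exists_prim ht hδ hq3 hqo hR1 hR2
    have g8 := (g5 R hRo g6 g7).2
    rw [hjj, tnum_A hA] at g8
    have g9 : Nat.Coprime (AA e 1 (v ^ f')) R := by
      by_contra hcon
      obtain ⟨r, hr, k1, k2⟩ := Nat.Prime.not_coprime_iff_dvd.1 hcon
      have k3 := g4 r hr (g7 r hr k2)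
      exact not_dvd_AA_one hA (by omega : 1 ≤ v ^ f') (by rw [k3]; exact g1) k1
    have g10 : AA e 1 (v ^ f') ∣ AA e j (v ^ f') := (Dvd.intro _ rfl).trans (AA_dvd (e := e) (m := j) (by omega))
    have g11 := Nat.le_of_dvd hposAA (g9.mul_dvd_of_dvd_of_dvd g10 g8)
    rw [AA_AN e j] at g11
    exact g11.trans (AN_le (sA_pm e j) _ _)
  refine ⟨j, ⟨by omega, hkm, by rw [← hc]; exact hcj, fun h1 => ?_, fun h1 => ?_, fun h1 => ?_, fun b hb hkb => ?_,
    fun h6 => ?_, fun h8 => ?_, fun h10 => ?_⟩⟩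
  · obtain ⟨x, c1, h3, h4, h5⟩ := torL_one (k := j) hF.is hA hm3 (by omega) (by omega)
    rw [h5 h1, mul_one] at h3
    obtain ⟨κ, k1, k2, k3⟩ := winS h hL hp2 ht hδ hwp hwc (N := orderOf x) ⟨x, rfl⟩ (by rw [h3]; exact hwT)
    rw [h3] at k3
    exact ⟨κ, k1, k2, k3⟩
  · obtain ⟨x, c1, h3, h4, h5⟩ := torL_one (k := j) hF.is hA hm3 (by omega) (by omega)
    obtain ⟨κ, k1, k2, k3⟩ := winS h hL hp2 ht hδ hwp hwc (N := orderOf x) ⟨x, rfl⟩
      (hcop _ c1 (by rw [h3]; exact hwT) h4)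
    exact ⟨orderOf x, κ, c1, Nat.le_of_dvd hgpos h4, h3, k1, k2, k3⟩
  · have htop := hA.top_of hj3 (Or.inl h1)
    obtain ⟨c1, g1, g2⟩ := exists_TA hA hm3 hu2 htop
    have hc1 : c1 = AA e 1 (v ^ f') * Nat.gcd m (AA e 1 (v ^ f')) := by
      rcases g2 with ⟨-, g2⟩ | ⟨g2, -⟩
      · exact g2
      · omega
    rw [mul_comm, hc1] at g1
    obtain ⟨κ, k1, k2, k3⟩ := winS h hL hp2 ht hδ hwp hwc (hTF.elt j htop) (by
      have := hTF.ub w hwp hwv' (by rw [← hj]; exact htop) xw (by rw [hxw])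
      rwa [hxw, ← hj] at this)
    exact ⟨_, κ, g1, k1, k2, k3⟩
  · obtain ⟨x, c1, h3, h4, h5⟩ := torL (k := j) (b := b) hF.is hA hm3 (by omega) hb (by omega)
    obtain ⟨κ, k1, k2, k3⟩ := winS h hL hp2 ht hδ hwp hwc (N := orderOf x) ⟨x, rfl⟩
      (hcop _ c1 (by rw [h3]; exact hwT.trans (Nat.dvd_lcm_left _ _)) h4)
    exact ⟨orderOf x, κ, c1, Nat.le_of_dvd hgpos h4, h3, k1, k2, k3⟩
  · obtain ⟨R, r1, r2, r3, r4⟩ := exists_R5 hδ hq3 hqo
    have r5 := prim R r1 (by rw [h6]; exact r3) (by rw [h6]; exact r4)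
    calc AA e 1 (v ^ f') * (2 * (p ^ f) ^ 4) ≤ AA e 1 (v ^ f') * (15 * R) := Nat.mul_le_mul_left _ r2
      _ = 15 * (AA e 1 (v ^ f') * R) := by ring
      _ ≤ _ := Nat.mul_le_mul_left _ r5
  · obtain ⟨R, r1, r2, r3, r4⟩ := exists_R7 hδ hq3 hqo
    have r5 := prim R r1 (by rw [h8]; exact r3) (by rw [h8]; exact r4)
    calc AA e 1 (v ^ f') * (2 * (p ^ f) ^ 6) ≤ AA e 1 (v ^ f') * (21 * R) := Nat.mul_le_mul_left _ r2
      _ = 21 * (AA e 1 (v ^ f') * R) := by ring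
      _ ≤ _ := Nat.mul_le_mul_left _ r5
  · obtain ⟨R, r1, r2, r3, r4⟩ := exists_R9 hδ hq3 hqo
    have r5 := prim R r1 (by rw [h10]; exact r3) (by rw [h10]; exact r4)
    calc AA e 1 (v ^ f') * (p ^ f) ^ 6 ≤ AA e 1 (v ^ f') * (4 * R) := Nat.mul_le_mul_left _ r2
      _ = 4 * (AA e 1 (v ^ f') * R) := by ring
      _ ≤ _ := Nat.mul_le_mul_left _ r5

/-- **Family `A`.** -/
theorem noA (h : LS t p f L G) (hL : Fam.Is p f L t) (hR : Red G K S) (hF : Frm G K S t' v f') (hvp : v ≠ p)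
    (hp2 : p ≠ 2) (ht : CE t) {m : ℕ} {e : Bool} (hA : IsA t' m e) (hv : ¬ v ∣ ((p ^ f) ^ rk t + 1) / 2) : False := by
  obtain ⟨h0, w0, T⟩ := exists_TopD h hL hR hF hp2 ht hv
  obtain ⟨hn, hn2⟩ := ht.rk6
  have hq3 := h.q_three hp2
  have hqo : Odd (p ^ f) := Nat.odd_iff.2 (h.q_odd hp2)
  have hS := h.bigS_CE hR hF hp2 ht
  have hm3 : 3 ≤ m := by
    have := (rk_of_bigS hF hS).1
    rw [hA.rk] at this
    exact this
  have hf1 : 1 ≤ f' := Nat.one_le_iff_ne_zero.2 hF.f_ne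
  have hu2 : 2 ≤ v ^ f' := hF.prime.two_le.trans (Nat.le_self_pow hF.f_ne v)
  obtain ⟨c0, g1, g2⟩ := exists_TA hA hm3 hu2 T.top
  obtain ⟨r1, r2, r3⟩ := rank_S h hR hF hp2 ht
  rw [hA.rk] at r3
  have hex : ∃ m, t' = .psl m ∨ t' = .psu m := by
    cases t' with
    | psl n => exact ⟨n, Or.inl rfl⟩
    | psu n => exact ⟨n, Or.inr rfl⟩
    | _ => exact hA.elim
  obtain ⟨s1, s2, s3⟩ := r3 hex
  have hh0 := T.ho.pos
  have hfh : 1 ≤ f' / h0 := Nat.div_pos (Nat.le_of_dvd hf1 T.hf) hh0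
  obtain ⟨k1, S1⟩ := sgA h hL hR hF hp2 ht hA T (δ := 1) (Or.inl rfl)
  obtain ⟨k2, S2⟩ := sgA h hL hR hF hp2 ht hA T (δ := -1) (Or.inr rfl)
  refine NA.false (v := v) (w := v ^ (f' / h0)) (h := h0) (c0 := c0)
    (P0 := ttor t' (v ^ f') (cls t' (v ^ f') w0)) ?_ S1 S2
  refine ⟨⟨sA_pm _ _, by omega, T.l, by rw [g1, AA_AN, one_mul]⟩, hn, hn2, hq3, hqo, hF.prime, ?_, ⟨f', hf1, rfl⟩, ?_, ?_,
    T.ho, T.vh, g2, s1, s2, s3⟩
  · intro hd
    exact hvp ((Nat.prime_dvd_prime_iff_eq hF.prime h.prime).1 (hF.prime.dvd_of_dvd_pow hd))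
  · rw [← pow_mul, Nat.div_mul_cancel T.hf]
  · exact hF.prime.two_le.trans (Nat.le_self_pow (by omega) v)

end Cfsg.Agent.R2.Spec.X5
end

-- part: R2/Spec/X5/VA
section
/-!
# S3435, box X5 (helper12): `v ∣ (q ^ n + 1) / 2`, the type of `S`
-/

set_option autoImplicit false
set_option linter.unusedSectionVars false
set_option linter.unusedVariables false

namespace Cfsg.Agent.R2.Spec.X5

open Subgroup Cfsg
open Cfsg.Agent.H426.LieFam Cfsg.Agent.R2.Spec Cfsg.Agent.R2.Spec.P1 Cfsg.Agent.R2.Spec.F1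
open Cfsg.Agent.H420.QR Cfsg.Agent.R2.Spec.P1.Eig Cfsg.Agent.H403.NumTop

universe u w

variable {t : Fam} {p f : ℕ} {L : Type w} [Group L] [Finite L] {G : Type u} [Group G] [Finite G]
variable {K : Subgroup G} [K.Normal] {S : Subgroup (G ⧸ K)} [S.Normal]
variable {t' : Fam} {v f' : ℕ}

/-- **Two tori, families `B`, `C`**, `k + b ≤ m`. -/
theorem torC {t : Fam} {p f m : ℕ} {X : Type u} [Group X] (hp : p.Prime) (h : Fam.Is p f X t)
    (ht : t = .psp m ∨ t = .oodd m)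
    {k b : ℕ} (hk : 1 ≤ k) (hb : 1 ≤ b) (hkm : k + b ≤ m) {δ δ' : ℤ} (hδ : δ = 1 ∨ δ = -1) (hδ' : δ' = 1 ∨ δ' = -1) :
    ∃ x : X, ∃ c, c ∣ 2 ∧ orderOf x * c = Nat.lcm (AN δ k (p ^ f)) (AN δ' b (p ^ f)) := by
  rcases ht with rfl | rfl
  · obtain ⟨hm, -, F, _, _, hch, hF, ⟨E⟩⟩ := h
    obtain ⟨A, hA⟩ := sp_AN (F := F) hδ hk
    obtain ⟨B, hB⟩ := sp_AN (F := F) hδ' hb
    obtain ⟨C, hC⟩ := Cfsg.Agent.H376.SpEmb.exists_block (n := m) (by omega) A hA B hB
    obtain ⟨x, c, hc, hx⟩ := psp_of_sp hC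
    refine ⟨E.symm x, c, hc, ?_⟩
    rw [MulEquiv.orderOf_eq, hx, Nat.card_eq_fintype_card, hF]
  · obtain ⟨hm, hodd, F, _, _, hch, hF, ⟨E⟩⟩ := h
    have h2 : (2 : F) ≠ 0 := by
      intro h2
      have h3 : ((2 : ℕ) : F) = 0 := by exact_mod_cast h2
      rw [CharP.cast_eq_zero_iff F p] at h3
      have h4 := (Nat.prime_dvd_prime_iff_eq hp Nat.prime_two).1 h3
      rw [h4] at hodd
      have h5 : f ≠ 0 := by
        rintro rfl
        have := Fintype.one_lt_card (α := F)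
        rw [hF] at this
        simp at this
      exact (Nat.not_even_iff_odd.2 hodd) (Nat.even_pow.2 ⟨even_two, h5⟩)
    obtain ⟨x, c, hc, hx⟩ := odd_of_elt h2 hm hkm ((elt_AN (F := F) hδ hk).prod (elt_AN hδ' hb))
    refine ⟨E.symm x, c, hc, ?_⟩
    rw [MulEquiv.orderOf_eq, hx, Nat.card_eq_fintype_card, hF]

theorem four_dvd {u : ℕ} (hu : u % 2 = 1) : ∃ δ : ℤ, (δ = 1 ∨ δ = -1) ∧ 4 ∣ AN δ 1 u := by
  rcases (show u % 4 = 1 ∨ u % 4 = 3 by omega) with h | h
  · exact ⟨1, Or.inl rfl, by rw [AN_one, pow_one]; omega⟩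
  · exact ⟨-1, Or.inr rfl, by rw [AN_neg, pow_one]; omega⟩

theorem two_dvd_of_four {N c : ℕ} (h : 4 ∣ N * c) (hc : c ∣ 2) : 2 ∣ N := by
  obtain ⟨d, hd⟩ := hc
  obtain ⟨b, hb⟩ := h
  have h1 : N * 2 = 4 * b * d := by rw [hd, ← mul_assoc, hb]
  exact ⟨b * d, by nlinarith⟩

/-- a prime divides the torus of its class -/
theorem dvd_B {u r : ℕ} (hr : r.Prime) (h3 : 3 ≤ orderOf ((u : ℕ) : ZMod r)) (hu : 1 ≤ u) :
    r ∣ AN (eB (orderOf ((u : ℕ) : ZMod r))) (eta (orderOf ((u : ℕ) : ZMod r))) u := by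
  have hf := Fact.mk hr
  obtain ⟨j, hj⟩ : ∃ j, j = orderOf ((u : ℕ) : ZMod r) := ⟨_, rfl⟩
  rw [← hj] at h3 ⊢
  have h1 : ((u : ℕ) : ZMod r) ^ j = 1 := by rw [hj]; exact pow_orderOf_eq_one _
  rcases Nat.mod_two_eq_zero_or_one j with h | h
  · rw [eB_even h, AN_neg]
    have he := eta_even h
    have h2 : (((u : ℕ) : ZMod r) ^ (eta j)) ^ 2 = 1 := by rw [← pow_mul, mul_comm, he, h1]
    rcases (show _ = (1 : ZMod r) ∨ _ = (-1 : ZMod r) from sq_eq_one_iff.1 h2) with h4 | h4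
    · exfalso
      have h5 := orderOf_dvd_of_pow_eq_one h4
      rw [← hj] at h5
      have := Nat.le_of_dvd (by omega) h5
      omega
    · rw [← ZMod.natCast_eq_zero_iff]
      push_cast
      push_cast at h4
      rw [h4]
      ring
  · rw [eB_odd h, eta_odd h, AN_one, ← ZMod.natCast_eq_zero_iff, Nat.cast_sub (Nat.one_le_pow _ _ hu)]
    push_cast
    push_cast at h1
    rw [h1, sub_self]

/-- the number `A` -/
theorem factsA {q n : ℕ} (hqo : q % 2 = 1) (hq3 : 3 ≤ q) (hn : 2 ≤ n) (hn2 : n % 2 = 0) :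
    2 * ((q ^ n + 1) / 2) = q ^ n + 1 ∧ ((q ^ n + 1) / 2) % 2 = 1 ∧
      ∀ r : ℕ, r.Prime → r ∣ (q ^ n + 1) / 2 → 5 ≤ r ∧ ¬ r ∣ q ^ 2 - 1 ∧ ¬ r ∣ q := by
  obtain ⟨m, hm⟩ : ∃ m, n = 2 * m := ⟨n / 2, by omega⟩
  have hsq : ∃ k, q ^ n = 8 * k + 1 := by
    have h1 : q ^ 2 % 8 = 1 := by
      have h2 : q % 8 = 1 ∨ q % 8 = 3 ∨ q % 8 = 5 ∨ q % 8 = 7 := by omega
      rcases h2 with h2 | h2 | h2 | h2 <;> rw [Nat.pow_mod, h2]
    have h3 : q ^ n % 8 = 1 := by
      rw [hm, pow_mul, Nat.pow_mod, h1, one_pow]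
      rfl
    exact ⟨q ^ n / 8, by omega⟩
  obtain ⟨A, hA⟩ : ∃ A, A = (q ^ n + 1) / 2 := ⟨_, rfl⟩
  rw [← hA]
  have hA2 : 2 * A = q ^ n + 1 := by
    obtain ⟨k, hk⟩ := hsq
    omega
  have hAo : A % 2 = 1 := by
    obtain ⟨k, hk⟩ := hsq
    omega
  have hA3 : ¬ 3 ∣ A := by
    intro h3
    have h4 : 3 ∣ q ^ n + 1 := by rw [← hA2]; exact Dvd.dvd.mul_left h3 2
    have h5 : q ^ 2 % 3 = 0 ∨ q ^ 2 % 3 = 1 := by
      rw [Nat.pow_mod]
      have : q % 3 = 0 ∨ q % 3 = 1 ∨ q % 3 = 2 := by omega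
      rcases this with h6 | h6 | h6 <;> rw [h6]
      · left; rfl
      · right; rfl
      · right; rfl
    have h6 : q ^ n % 3 = 0 ∨ q ^ n % 3 = 1 := by
      rw [hm, pow_mul, Nat.pow_mod]
      rcases h5 with h5 | h5 <;> rw [h5]
      · left
        rw [zero_pow (by omega)]
        rfl
      · right
        rw [one_pow]
        rfl
    omega
  have hAd : A ∣ q ^ n + 1 := by rw [← hA2]; exact Dvd.intro_left 2 rfl
  refine ⟨hA2, hAo, fun r hr hd => ?_⟩
  have hr2 : r ≠ 2 := by rintro rfl; omega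
  have hr3 : r ≠ 3 := by rintro rfl; exact hA3 hd
  have hr4 : r ≠ 4 := by rintro rfl; exact absurd hr (by norm_num)
  have := hr.two_le
  have hd' := hd.trans hAd
  refine ⟨by omega, ?_, ?_⟩
  · intro h1
    have h2 : r ∣ q ^ n - 1 := by
      rw [hm, pow_mul]
      exact h1.trans (Nat.sub_one_dvd_pow_sub_one _ _)
    have h3 := Nat.one_le_pow n q (by omega)
    have h4 : r ∣ q ^ n + 1 - (q ^ n - 1) := Nat.dvd_sub hd' h2
    rw [show q ^ n + 1 - (q ^ n - 1) = 2 by omega] at h4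
    exact hr2 ((Nat.prime_dvd_prime_iff_eq hr Nat.prime_two).1 h4)
  · intro h1
    have h2 : r ∣ q ^ n := h1.trans (dvd_pow_self q (by omega))
    have h4 := (Nat.dvd_add_right h2).1 hd'
    exact hr.one_lt.ne' (Nat.dvd_one.1 h4)

/-- `v ∤ q ^ (n - 1) - δ` -/
theorem not_dvd_V {q n v : ℕ} {δ : ℤ} (hδ : δ = 1 ∨ δ = -1) (hq3 : 3 ≤ q) (hn : 2 ≤ n)
    (hv : v ∣ q ^ n + 1) (hv2 : ¬ v ∣ q ^ 2 - 1) : ¬ v ∣ AN δ (n - 1) q := by
  intro h1
  apply hv2
  have hq1 : 1 ≤ q := by omega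
  have h2 : (v : ℤ) ∣ (q : ℤ) ^ (n - 1) - δ := by
    rw [← AN_int hδ hq1]
    exact_mod_cast h1
  have h3 : (v : ℤ) ∣ (q : ℤ) ^ n + 1 := by exact_mod_cast hv
  have h4 : (v : ℤ) ∣ δ * q + 1 := by
    have h5 : δ * (q : ℤ) + 1 = ((q : ℤ) ^ n + 1) - q * ((q : ℤ) ^ (n - 1) - δ) := by
      have : (q : ℤ) ^ n = q * (q : ℤ) ^ (n - 1) := by rw [← pow_succ']; congr 1; omega
      rw [this]
      ring
    rw [h5]
    exact dvd_sub h3 (h2.mul_left _)
  have h5 : (v : ℤ) ∣ (q : ℤ) ^ 2 - 1 := by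
    have h6 : (q : ℤ) ^ 2 - 1 = (δ * q + 1) * (δ * q - 1) := by
      rcases hδ with rfl | rfl <;> ring
    rw [h6]
    exact h4.mul_right _
  have h6 : 1 ≤ q ^ 2 := Nat.one_le_pow _ _ hq1
  have h7 : ((q ^ 2 - 1 : ℕ) : ℤ) = (q : ℤ) ^ 2 - 1 := by
    rw [Nat.cast_sub h6]
    push_cast
    ring
  rw [← h7] at h5
  exact_mod_cast h5

/-- **The classes `n - 1`, `2 n - 2` are not adjacent to `v`.** -/
theorem nap_icl (h : LS t p f L G) (hL : Fam.Is p f L t) (hR : Red G K S) (hF : Frm G K S t' v f') (hvp : v ≠ p)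
    (hp2 : p ≠ 2) (ht : CE t) (hv : v ∣ ((p ^ f) ^ rk t + 1) / 2) {δ : ℤ} (hδ : δ = 1 ∨ δ = -1) {w : ℕ}
    (hw : w.Prime) (hwc : cls t (p ^ f) w = icl (rk t) δ) :
    3 ≤ cls t' (v ^ f') w ∧ nap t' (cls t' (v ^ f') w) := by
  obtain ⟨hn, hn2⟩ := ht.rk6
  have hq3 := h.q_three hp2
  have hS := h.bigS_CE hR hF hp2 ht
  obtain ⟨hA2, hAo, hAp⟩ := factsA (h.q_odd hp2) hq3 (by omega : 2 ≤ rk t) hn2
  obtain ⟨hv5, hvq2, hvq⟩ := hAp v hF.prime hv
  have hJ := icl_JJ (δ := δ) hn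
  have hwI := ht.in_J hJ hw hwc
  have hwv := h.ne_v_J hR hF hp2 ht hJ hw hwc
  have hwS := (h.good_J hR hF hp2 ht hJ hw hwc).2
  have hvN : v ∣ (p ^ f) ^ rk t + 1 := by rw [← hA2]; exact hv.mul_left 2
  have hq1 : 1 ≤ p ^ f := by omega
  have hnv : ¬ ∃ g : S, orderOf g = v * w := by
    intro hg
    obtain ⟨x, hx⟩ := (h.ord _).1 (exists_of_S hg)
    have h1 := (lwin_CE hL h.prime hp2 ht).win δ w hw (hwI.not_dvd h.fpos) (by
      rw [← cls_eq_co (t := t) (by intro k hk; obtain ⟨n, rfl | rfl, -⟩ := ht <;> cases hk), hwc]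
      unfold icl
      rcases hδ with rfl | rfl
      · right; simp
      · left; simp) x (by rw [hx]; exact Dvd.intro_left _ rfl)
    rw [hx] at h1
    have hV := not_dvd_V hδ hq3 (by omega : 2 ≤ rk t) hvN hvq2
    rcases h1 with h1 | h1
    · rcases hF.prime.dvd_mul.1 ((Dvd.intro _ rfl).trans h1) with h2 | h2
      · exact hV h2
      · exact hvp ((Nat.prime_dvd_prime_iff_eq hF.prime h.prime).1 h2)
    · rcases hF.prime.dvd_mul.1 ((Dvd.intro _ rfl).trans h1) with h2 | h2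
      · exact hV h2
      · apply hvq2
        have h3 : AN (-δ) 1 (p ^ f) ∣ (p ^ f) ^ 2 - 1 := by
          have h4 : (p ^ f) ^ 2 - 1 = (p ^ f + 1) * (p ^ f - 1) := by
            have := Nat.sq_sub_sq (p ^ f) 1
            rwa [one_pow] at this
          rw [h4]
          rcases hδ with rfl | rfl
          · rw [AN_neg, pow_one]
            exact Dvd.intro _ rfl
          · rw [show (- -1 : ℤ) = 1 by norm_num, AN_one, pow_one]
            exact Dvd.intro_left _ rfl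
        exact h2.trans h3
  rcases hF.vcase hw hwI.ne_two hwv hwS hnv with h1 | ⟨h1, h2, hk⟩
  · exact h1
  · have := (rk_of_bigS hF hS).2.2.1 hk
    omega

end Cfsg.Agent.R2.Spec.X5
end
end

-- part: R2/Spec/X5/VC
section
prune_inst 0x4c0605240098200080000009613003e061600010000288001f800030e0f86db2a8d422120fcb01802088cb28450300048110000f00240000004003400011a00a088a9560273f5ad0cd60007800086000000000000000000000000000000041004000000000
set_option linter.all false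
open scoped Cfsg.Agent.FastGrp

-- part: R2/Spec/X5/VB
section
/-!
# S3435, box X5 (helper12): `v ∣ (q ^ n + 1) / 2`: `S = PΩ^-_2m(u)`, `m` even
-/

set_option autoImplicit false
set_option linter.unusedSectionVars false
set_option linter.unusedVariables false

namespace Cfsg.Agent.R2.Spec.X5

open Subgroup Cfsg
open Cfsg.Agent.H426.LieFam Cfsg.Agent.R2.Spec Cfsg.Agent.R2.Spec.P1 Cfsg.Agent.R2.Spec.F1
open Cfsg.Agent.H420.QR Cfsg.Agent.R2.Spec.P1.Eig Cfsg.Agent.H403.NumTop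

universe u w

variable {t : Fam} {p f : ℕ} {L : Type w} [Group L] [Finite L] {G : Type u} [Group G] [Finite G]
variable {K : Subgroup G} [K.Normal] {S : Subgroup (G ⧸ K)} [S.Normal]
variable {t' : Fam} {v f' : ℕ}

/-- the element orders of `S` divisible by a prime of the class `2 n` divide `A` -/
theorem ordA (h : LS t p f L G) (hL : Fam.Is p f L t) (hp2 : p ≠ 2) (ht : CE t) {w N : ℕ}
    (hw : w.Prime) (hwc : cls t (p ^ f) w = 2 * rk t) (hN : ∃ y : S, orderOf y = N) (hd : w ∣ N) :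
    N ∣ ((p ^ f) ^ rk t + 1) / 2 := by
  obtain ⟨hn, hn2⟩ := ht.rk6
  have hqo := h.q_odd hp2
  have hwI : In t (p ^ f) (2 * rk t) w := ht.in_J (by rw [mem_JJ]; (clear * - hn; omega)) hw hwc
  have htf := top_facts_all ht.cla h.prime hL
  have htopL : P1.top t (2 * rk t) := by
    obtain ⟨k, rfl | rfl, -⟩ := ht
    · exact Or.inl rfl
    · exact Or.inl rfl
  have htt : ttor t (p ^ f) (2 * rk t) = ((p ^ f) ^ rk t + 1) / 2 := by
    obtain ⟨k, rfl | rfl, -⟩ := ht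
    · change (if 2 * k = 2 * k then _ else _) = _
      rw [if_pos rfl, two_dvd_sub_one hqo]
      rfl
    · change (if 2 * k = 2 * k then _ else _) = _
      rw [if_pos rfl, two_dvd_sub_one hqo]
      rfl
  obtain ⟨x', hx'⟩ := (h.ord N).1 (exists_of_S hN)
  have hPA := htf.ub w hw (hwI.not_dvd h.fpos) (by rw [hwc]; exact htopL) x' (by rw [hx']; exact hd)
  rwa [hwc, htt, hx'] at hPA

theorem AA_even {e : Bool} {k u : ℕ} (hk : 1 ≤ k) (hu : u % 2 = 1) : 2 ∣ AA e k u := by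
  have h1 := pow_mod_two (u := u) hk
  unfold AA
  split_ifs <;> omega

/-- a prime divides the torus of its class, family `A` -/
theorem dvd_A {t : Fam} {m : ℕ} {e : Bool} (hA : IsA t m e) {u r : ℕ} (hu : 1 ≤ u) : r ∣ AA e (cls t u r) u := by
  have h1 : ((sg t u : ℤ) : ZMod r) ^ (cls t u r) = 1 := pow_orderOf_eq_one _
  rw [hA.sg] at h1
  rw [← ZMod.natCast_eq_zero_iff]
  rcases AA_eq (e := e) (i := cls t u r) hu with h | h
  · have := congrArg (fun z : ℤ => (z : ZMod r)) h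
    push_cast at this
    rw [this, h1, sub_self]
  · have := congrArg (fun z : ℤ => (z : ZMod r)) h
    push_cast at this
    rw [this, h1, sub_self, neg_zero]

/-- **The class `2 n` is not adjacent to `v` in `S`.** -/
theorem nap_two (h : LS t p f L G) (hL : Fam.Is p f L t) (hR : Red G K S) (hF : Frm G K S t' v f')
    (hp2 : p ≠ 2) (ht : CE t) (hv : v ∣ ((p ^ f) ^ rk t + 1) / 2) {w : ℕ}
    (hw : w.Prime) (hwc : cls t (p ^ f) w = 2 * rk t) :
    3 ≤ cls t' (v ^ f') w ∧ nap t' (cls t' (v ^ f') w) := by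
  obtain ⟨hn, hn2⟩ := ht.rk6
  have hq3 := h.q_three hp2
  have hS := h.bigS_CE hR hF hp2 ht
  obtain ⟨hA2, hAo, hAp⟩ := factsA (h.q_odd hp2) hq3 (by omega : 2 ≤ rk t) hn2
  obtain ⟨hv5, hvq2, hvq⟩ := hAp v hF.prime hv
  have hJ : 2 * rk t ∈ JJ (rk t) := by rw [mem_JJ]; (clear * - hn; omega)
  have hwI := ht.in_J hJ hw hwc
  have hw5 := hwI.five
  have hwv := h.ne_v_J hR hF hp2 ht hJ hw hwc
  have hwS := (h.good_J hR hF hp2 ht hJ hw hwc).2
  have h3 := h.irr_J hR hF hp2 ht hwI hwv (by rw [eta_two_mul']; omega)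
  have hm := hF.mem_cls hw hwI.ne_two hwS h3
  have hvo : v % 2 = 1 := by
    rcases hF.prime.eq_two_or_odd with h1 | h1
    · omega
    · exact h1
  have hf1 : 1 ≤ f' := Nat.one_le_iff_ne_zero.2 hF.f_ne
  have huo : v ^ f' % 2 = 1 := by rw [pow_mod_two hf1]; exact hvo
  have hu2 : 2 ≤ v ^ f' := hF.prime.two_le.trans (Nat.le_self_pow hF.f_ne v)
  have hm3 := (rk_of_bigS hF hS).1
  refine ⟨h3, ?_⟩
  by_contra hnap
  obtain ⟨j, hj⟩ : ∃ j, j = cls t' (v ^ f') w := ⟨_, rfl⟩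
  -- an even order divisible by `w`
  suffices hx : ∃ x : S, w ∣ orderOf x ∧ 2 ∣ orderOf x by
    obtain ⟨x, h4, h5⟩ := hx
    have h6 := h5.trans (ordA (S := S) h hL hp2 ht hw hwc ⟨x, rfl⟩ h4)
    omega
  have hA : ∀ {m : ℕ} {e : Bool}, IsA t' m e → j + 2 ≤ m → ∃ x : S, w ∣ orderOf x ∧ 2 ∣ orderOf x := by
    intro m e hA h4
    rw [hA.rk] at hm3
    obtain ⟨x, c1, h5, h6, h7⟩ := torL_one (k := j) hF.is hA hm3 (by omega) (by omega)
    rw [h7 h4, mul_one] at h5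
    refine ⟨x, ?_, ?_⟩
    · rw [h5, hj]
      exact dvd_A hA (by omega)
    · rw [h5]
      exact AA_even (by omega) huo
  have hBw : (∀ n, t' ≠ .psu n) → w ∣ AN (eB j) (eta j) (v ^ f') := by
    intro h4
    have h5 : cls t' (v ^ f') w = orderOf ((v ^ f' : ℕ) : ZMod w) := cls_eq_co h4 _ _
    rw [hj, h5]
    exact dvd_B hw (by rw [← h5]; exact h3) (by omega)
  have hk1 : 1 ≤ eta j := by
    have := le_two_eta j
    omega
  have hfin : ∀ {x : S} {c ε : _}, c ∣ 2 → 4 ∣ AN ε 1 (v ^ f') →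
      orderOf x * c = Nat.lcm (AN (eB j) (eta j) (v ^ f')) (AN ε 1 (v ^ f')) → w ∣ AN (eB j) (eta j) (v ^ f') →
      ∃ x : S, w ∣ orderOf x ∧ 2 ∣ orderOf x := by
    intro x c ε h4 h5 h6 h7
    refine ⟨x, dvd_of_mul hw hw5 (c := c) ?_ h4, two_dvd_of_four (c := c) ?_ h4⟩
    · rw [h6]; exact h7.trans (Nat.dvd_lcm_left _ _)
    · rw [h6]; exact h5.trans (Nat.dvd_lcm_right _ _)
  obtain ⟨ε, hε, h4⟩ := four_dvd huo
  have hcl := hF.cla
  cases t' with
  | psl n =>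
    refine hA (m := n) (e := true) ⟨rfl, rfl⟩ ?_
    by_contra hcon
    exact hnap (show n < cls (.psl n) (v ^ f') w + 2 by omega)
  | psu n =>
    refine hA (m := n) (e := false) ⟨rfl, rfl⟩ ?_
    by_contra hcon
    exact hnap (show n < cls (.psu n) (v ^ f') w + 2 by omega)
  | psp n =>
    have h5 : eta j + 1 ≤ n := by
      by_contra hcon
      exact hnap (show n < eta (cls (.psp n) (v ^ f') w) + 1 by rw [← hj]; omega)
    obtain ⟨x, c, h6, h7⟩ := torC hF.prime hF.is (Or.inl rfl) hk1 le_rfl h5 (eB_pm j) hε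
    exact hfin h6 h4 h7 (hBw (by intro k hk; cases hk))
  | oodd n =>
    have h5 : eta j + 1 ≤ n := by
      by_contra hcon
      exact hnap (show n < eta (cls (.oodd n) (v ^ f') w) + 1 by rw [← hj]; omega)
    obtain ⟨x, c, h6, h7⟩ := torC hF.prime hF.is (Or.inr rfl) hk1 le_rfl h5 (eB_pm j) hε
    exact hfin h6 h4 h7 (hBw (by intro k hk; cases hk))
  | oplus n =>
    have h5 : eta j + 1 < n := by
      by_contra hcon
      exact hnap (show n < eta (cls (.oplus n) (v ^ f') w) + 2 by rw [← hj]; omega)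
    obtain ⟨x, c, h6, h7⟩ := torB hF.prime hF.is (show IsB (.oplus n) n from rfl) hk1 le_rfl h5 (eB_pm j) hε
    exact hfin h6 h4 h7 (hBw (by intro k hk; cases hk))
  | ominus n =>
    have h5 : eta j + 1 < n := by
      by_contra hcon
      exact hnap (show n < eta (cls (.ominus n) (v ^ f') w) + 2 by rw [← hj]; omega)
    obtain ⟨x, c, h6, h7⟩ := torB hF.prime hF.is (show IsB (.ominus n) n from rfl) hk1 le_rfl h5 (eB_pm j) hε
    exact hfin h6 h4 h7 (hBw (by intro k hk; cases hk))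
  | _ => exact hcl.elim

/-- **The type of `S`.** -/
theorem type_S (h : LS t p f L G) (hL : Fam.Is p f L t) (hR : Red G K S) (hF : Frm G K S t' v f') (hvp : v ≠ p)
    (hp2 : p ≠ 2) (ht : CE t) (hv : v ∣ ((p ^ f) ^ rk t + 1) / 2) :
    ∃ m, t' = .ominus m ∧ m % 2 = 0 ∧
      (∀ w, w.Prime → cls t (p ^ f) w = 2 * rk t → cls t' (v ^ f') w = 2 * m) ∧
      ∀ w1 w2, w1.Prime → cls t (p ^ f) w1 = icl (rk t) 1 → w2.Prime → cls t (p ^ f) w2 = icl (rk t) (-1) →
        (cls t' (v ^ f') w1 = m - 1 ∧ cls t' (v ^ f') w2 = 2 * (m - 1)) ∨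
        (cls t' (v ^ f') w1 = 2 * (m - 1) ∧ cls t' (v ^ f') w2 = m - 1) := by
  obtain ⟨hn, hn2⟩ := ht.rk6
  have hq3 := h.q_three hp2
  have hS := h.bigS_CE hR hF hp2 ht
  obtain ⟨hA2, hAo, hAp⟩ := factsA (h.q_odd hp2) hq3 (by omega : 2 ≤ rk t) hn2
  obtain ⟨hv5, hvq2, hvq⟩ := hAp v hF.prime hv
  have hvo : v % 2 = 1 := by
    rcases hF.prime.eq_two_or_odd with h1 | h1
    · omega
    · exact h1
  have hf1 : 1 ≤ f' := Nat.one_le_iff_ne_zero.2 hF.f_ne
  have huo : v ^ f' % 2 = 1 := by rw [pow_mod_two hf1]; exact hvo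
  have hu2 : 2 ≤ v ^ f' := hF.prime.two_le.trans (Nat.le_self_pow hF.f_ne v)
  have hm3 := (rk_of_bigS hF hS).1
  have hJ0 : 2 * rk t ∈ JJ (rk t) := by rw [mem_JJ]; (clear * - hn; omega)
  have hJ1 : icl (rk t) 1 ∈ JJ (rk t) := icl_JJ hn
  have hJ2 : icl (rk t) (-1) ∈ JJ (rk t) := icl_JJ hn
  have i1 : icl (rk t) 1 = rk t - 1 := if_pos rfl
  have i2 : icl (rk t) (-1) = 2 * (rk t - 1) := if_neg (by norm_num)
  have key : ∀ w0 w1 w2, w0.Prime → cls t (p ^ f) w0 = 2 * rk t → w1.Prime → cls t (p ^ f) w1 = icl (rk t) 1 →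
      w2.Prime → cls t (p ^ f) w2 = icl (rk t) (-1) → ∃ m, t' = .ominus m ∧ m % 2 = 0 ∧
        cls t' (v ^ f') w0 = 2 * m ∧ ((cls t' (v ^ f') w1 = m - 1 ∧ cls t' (v ^ f') w2 = 2 * (m - 1)) ∨
        (cls t' (v ^ f') w1 = 2 * (m - 1) ∧ cls t' (v ^ f') w2 = m - 1)) := by
    intro w0 w1 w2 h0 c0 h1 c1 h2 c2
    obtain ⟨a0, b0⟩ := nap_two h hL hR hF hp2 ht hv h0 c0
    obtain ⟨a1, b1⟩ := nap_icl h hL hR hF hvp hp2 ht hv (Or.inl rfl) h1 c1
    obtain ⟨a2, b2⟩ := nap_icl h hL hR hF hvp hp2 ht hv (Or.inr rfl) h2 c2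
    have hI0 := ht.in_J hJ0 h0 c0
    have hI1 := ht.in_J hJ1 h1 c1
    have hI2 := ht.in_J hJ2 h2 c2
    have m0 := hF.mem_cls h0 hI0.ne_two (h.good_J hR hF hp2 ht hJ0 h0 c0).2 a0
    have m1 := hF.mem_cls h1 hI1.ne_two (h.good_J hR hF hp2 ht hJ1 h1 c1).2 a1
    have m2 := hF.mem_cls h2 hI2.ne_two (h.good_J hR hF hp2 ht hJ2 h2 c2).2 a2
    have t0 := top_of_iso hF.cla a0 m0 b0
    have t1 := top_of_iso hF.cla a1 m1 b1
    have t2 := top_of_iso hF.cla a2 m2 b2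
    have n01 := cls_ne h hR hF hp2 ht hJ0 hJ1 (by omega) h0 c0 h1 c1
    have n02 := cls_ne h hR hF hp2 ht hJ0 hJ2 (by (clear * - hn i2; omega)) h0 c0 h2 c2
    have n12 := cls_ne h hR hF hp2 ht hJ1 hJ2 (by (clear * - hn i1 i2; omega)) h1 c1 h2 c2
    have hcl := hF.cla
    have hTF := top_facts_all hF.cla hF.prime hF.is
    have hord := ordA (S := S) h hL hp2 ht h0 c0 (hTF.elt _ t0)
    have hwt : w0 ∣ ttor t' (v ^ f') (cls t' (v ^ f') w0) := by
      have := Fact.mk h0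
      obtain ⟨x, hx⟩ := exists_prime_orderOf_dvd_card' (G := S) w0 (h.good_J hR hF hp2 ht hJ0 h0 c0).2
      have h5 := hTF.ub w0 h0 (fun hd => (h.ne_v_J hR hF hp2 ht hJ0 h0 c0)
        ((Nat.prime_dvd_prime_iff_eq h0 hF.prime).1 hd)) t0 x (by rw [hx])
      rwa [hx] at h5
    have hord := hord hwt
    generalize cls t' (v ^ f') w0 = x0 at *
    generalize cls t' (v ^ f') w1 = x1 at *
    generalize cls t' (v ^ f') w2 = x2 at *
    cases t' with
    | psl n =>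
      obtain ⟨-, t0⟩ := t0
      obtain ⟨-, t1⟩ := t1
      obtain ⟨-, t2⟩ := t2
      (clear * - n01 n02 n12 t0 t1 t2; omega)
    | psu n =>
      obtain ⟨-, t0⟩ := t0
      obtain ⟨-, t1⟩ := t1
      obtain ⟨-, t2⟩ := t2
      (clear * - n01 n02 n12 t0 t1 t2; omega)
    | psp n =>
      change x0 = 2 * n ∨ (x0 = n ∧ n % 2 = 1) at t0
      change x1 = 2 * n ∨ (x1 = n ∧ n % 2 = 1) at t1
      change x2 = 2 * n ∨ (x2 = n ∧ n % 2 = 1) at t2
      (clear * - n01 n02 n12 t0 t1 t2; omega)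
    | oodd n =>
      change x0 = 2 * n ∨ (x0 = n ∧ n % 2 = 1) at t0
      change x1 = 2 * n ∨ (x1 = n ∧ n % 2 = 1) at t1
      change x2 = 2 * n ∨ (x2 = n ∧ n % 2 = 1) at t2
      (clear * - n01 n02 n12 t0 t1 t2; omega)
    | oplus n =>
      change (x0 = n ∧ n % 2 = 1) ∨ x0 = 2 * (n - 1) ∨ (x0 = n - 1 ∧ n % 2 = 0) at t0
      change (x1 = n ∧ n % 2 = 1) ∨ x1 = 2 * (n - 1) ∨ (x1 = n - 1 ∧ n % 2 = 0) at t1
      change (x2 = n ∧ n % 2 = 1) ∨ x2 = 2 * (n - 1) ∨ (x2 = n - 1 ∧ n % 2 = 0) at t2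
      (clear * - n01 n02 n12 t0 t1 t2; omega)
    | ominus n =>
      have hn4 : 4 ≤ n := hF.is.1
      change x0 = 2 * n ∨ x0 = 2 * (n - 1) ∨ (x0 = n - 1 ∧ n % 2 = 0) at t0
      change x1 = 2 * n ∨ x1 = 2 * (n - 1) ∨ (x1 = n - 1 ∧ n % 2 = 0) at t1
      change x2 = 2 * n ∨ x2 = 2 * (n - 1) ∨ (x2 = n - 1 ∧ n % 2 = 0) at t2
      have hne : n % 2 = 0 := by (clear * - n01 n02 n12 t0 t1 t2; omega)
      refine ⟨n, rfl, hne, ?_, ?_⟩
      · by_contra hx0
        -- the torus is even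
        have h8 : (v ^ f') ^ n % 8 = 1 := by
          obtain ⟨k, hk⟩ : ∃ k, n = 2 * k := ⟨n / 2, by omega⟩
          have h9 : (v ^ f') ^ 2 % 8 = 1 := by
            have h10 : v ^ f' % 8 = 1 ∨ v ^ f' % 8 = 3 ∨ v ^ f' % 8 = 5 ∨ v ^ f' % 8 = 7 := by (clear * - huo; omega)
            rcases h10 with h10 | h10 | h10 | h10 <;> rw [Nat.pow_mod, h10]
          rw [hk, pow_mul, Nat.pow_mod, h9, one_pow]
          rfl
        have hg : Nat.gcd 4 ((v ^ f') ^ n + 1) = 2 := by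
          have : (v ^ f') ^ n + 1 = 2 * (4 * ((v ^ f') ^ n / 8) + 1) := by omega
          rw [this, show (4 : ℕ) = 2 * 2 by norm_num, Nat.gcd_mul_left]
          have : Nat.gcd 2 (2 * 2 * ((v ^ f') ^ n / 8) + 1) = 1 := by
            have h11 : Nat.Coprime 2 (2 * 2 * ((v ^ f') ^ n / 8) + 1) := by
              rw [Nat.coprime_two_left, Nat.odd_iff]
              omega
            exact h11
          rw [this]
        have hpm1 := pow_mod_two (u := v ^ f') (m := n - 1) (by omega)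
        have h1n1 := Nat.one_le_pow (n - 1) (v ^ f') (by omega)
        have hev : 2 ∣ ttor (.ominus n) (v ^ f') x0 := by
          rcases t0 with t0 | t0 | ⟨t0, -⟩
          · exact absurd t0 hx0
          · have h12 : ttor (.ominus n) (v ^ f') x0 = ((v ^ f') ^ (n - 1) + 1) * (v ^ f' - 1) / 2 := by
              change (if x0 = 2 * n then _ else if x0 = n - 1 then _ else _) = _
              rw [if_neg (by omega), if_neg (by omega), hg]
            rw [h12]
            obtain ⟨a, ha⟩ : ∃ a, (v ^ f') ^ (n - 1) + 1 = 2 * a := ⟨((v ^ f') ^ (n - 1) + 1) / 2, by (clear * - huo hpm1; omega)⟩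
            obtain ⟨b, hb⟩ : ∃ b, v ^ f' - 1 = 2 * b := ⟨(v ^ f' - 1) / 2, by (clear * - huo; omega)⟩
            rw [ha, hb, show 2 * a * (2 * b) = 2 * (2 * (a * b)) by ring, Nat.mul_div_cancel_left _ two_pos]
            exact Dvd.intro _ rfl
          · have h12 : ttor (.ominus n) (v ^ f') x0 = ((v ^ f') ^ (n - 1) - 1) * (v ^ f' + 1) / 2 := by
              change (if x0 = 2 * n then _ else if x0 = n - 1 then _ else _) = _
              rw [if_neg (by omega), if_pos t0, hg]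
            rw [h12]
            obtain ⟨a, ha⟩ : ∃ a, (v ^ f') ^ (n - 1) - 1 = 2 * a := ⟨((v ^ f') ^ (n - 1) - 1) / 2, by (clear * - huo hpm1; omega)⟩
            obtain ⟨b, hb⟩ : ∃ b, v ^ f' + 1 = 2 * b := ⟨(v ^ f' + 1) / 2, by (clear * - huo; omega)⟩
            rw [ha, hb, show 2 * a * (2 * b) = 2 * (2 * (a * b)) by ring, Nat.mul_div_cancel_left _ two_pos]
            exact Dvd.intro _ rfl
        have := hev.trans hord
        omega
      · have h0' : x0 = 2 * n := by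
          by_contra hx0
          have h8 : (v ^ f') ^ n % 8 = 1 := by
            obtain ⟨k, hk⟩ : ∃ k, n = 2 * k := ⟨n / 2, by omega⟩
            have h9 : (v ^ f') ^ 2 % 8 = 1 := by
              have h10 : v ^ f' % 8 = 1 ∨ v ^ f' % 8 = 3 ∨ v ^ f' % 8 = 5 ∨ v ^ f' % 8 = 7 := by (clear * - huo; omega)
              rcases h10 with h10 | h10 | h10 | h10 <;> rw [Nat.pow_mod, h10]
            rw [hk, pow_mul, Nat.pow_mod, h9, one_pow]
            rfl
          have hg : Nat.gcd 4 ((v ^ f') ^ n + 1) = 2 := by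
            have : (v ^ f') ^ n + 1 = 2 * (4 * ((v ^ f') ^ n / 8) + 1) := by omega
            rw [this, show (4 : ℕ) = 2 * 2 by norm_num, Nat.gcd_mul_left]
            have : Nat.gcd 2 (2 * 2 * ((v ^ f') ^ n / 8) + 1) = 1 := by
              have h11 : Nat.Coprime 2 (2 * 2 * ((v ^ f') ^ n / 8) + 1) := by
                rw [Nat.coprime_two_left, Nat.odd_iff]
                omega
              exact h11
            rw [this]
          have hpm1 := pow_mod_two (u := v ^ f') (m := n - 1) (by omega)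
          have h1n1 := Nat.one_le_pow (n - 1) (v ^ f') (by omega)
          have hev : 2 ∣ ttor (.ominus n) (v ^ f') x0 := by
            rcases t0 with t0 | t0 | ⟨t0, -⟩
            · exact absurd t0 hx0
            · have h12 : ttor (.ominus n) (v ^ f') x0 = ((v ^ f') ^ (n - 1) + 1) * (v ^ f' - 1) / 2 := by
                change (if x0 = 2 * n then _ else if x0 = n - 1 then _ else _) = _
                rw [if_neg (by omega), if_neg (by omega), hg]
              rw [h12]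
              obtain ⟨a, ha⟩ : ∃ a, (v ^ f') ^ (n - 1) + 1 = 2 * a := ⟨((v ^ f') ^ (n - 1) + 1) / 2, by (clear * - huo hpm1; omega)⟩
              obtain ⟨b, hb⟩ : ∃ b, v ^ f' - 1 = 2 * b := ⟨(v ^ f' - 1) / 2, by (clear * - huo hu2; omega)⟩
              rw [ha, hb, show 2 * a * (2 * b) = 2 * (2 * (a * b)) by ring, Nat.mul_div_cancel_left _ two_pos]
              exact Dvd.intro _ rfl
            · have h12 : ttor (.ominus n) (v ^ f') x0 = ((v ^ f') ^ (n - 1) - 1) * (v ^ f' + 1) / 2 := by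
                change (if x0 = 2 * n then _ else if x0 = n - 1 then _ else _) = _
                rw [if_neg (by omega), if_pos t0, hg]
              rw [h12]
              obtain ⟨a, ha⟩ : ∃ a, (v ^ f') ^ (n - 1) - 1 = 2 * a := ⟨((v ^ f') ^ (n - 1) - 1) / 2, by (clear * - huo hpm1; omega)⟩
              obtain ⟨b, hb⟩ : ∃ b, v ^ f' + 1 = 2 * b := ⟨(v ^ f' + 1) / 2, by (clear * - huo; omega)⟩
              rw [ha, hb, show 2 * a * (2 * b) = 2 * (2 * (a * b)) by ring, Nat.mul_div_cancel_left _ two_pos]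
              exact Dvd.intro _ rfl
          have := hev.trans hord
          omega
        (clear * - n01 n02 n12 t1 t2 h0'; omega)
    | _ => exact hcl.elim
  obtain ⟨w0, hw0⟩ := h.exists_J hp2 ht hJ0
  obtain ⟨w1, hw1⟩ := h.exists_J hp2 ht hJ1
  obtain ⟨w2, hw2⟩ := h.exists_J hp2 ht hJ2
  obtain ⟨m, hm, hm2, -⟩ := key w0 w1 w2 hw0.prime hw0.cls_eq hw1.prime hw1.cls_eq hw2.prime hw2.cls_eq
  refine ⟨m, hm, hm2, fun w hw hwc => ?_, fun x1 x2 g1 g2 g3 g4 => ?_⟩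
  · obtain ⟨m', hm', -, h5, -⟩ := key w w1 w2 hw hwc hw1.prime hw1.cls_eq hw2.prime hw2.cls_eq
    have : m' = m := by
      rw [hm] at hm'
      exact (Fam.ominus.inj hm').symm
    rw [h5, this]
  · obtain ⟨m', hm', -, -, h5⟩ := key w0 x1 x2 hw0.prime hw0.cls_eq g1 g2 g3 g4
    have : m' = m := by
      rw [hm] at hm'
      exact (Fam.ominus.inj hm').symm
    rw [this] at h5
    exact h5

end Cfsg.Agent.R2.Spec.X5
end

-- part: R2/Spec/X5/VC
section
/-!
# S3435, box X5 (helper12): `v ∣ (q ^ n + 1) / 2`: the class of `v` in `L`, the factor `h0`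
-/

set_option autoImplicit false
set_option linter.unusedSectionVars false
set_option linter.unusedVariables false

namespace Cfsg.Agent.R2.Spec.X5

open Subgroup Cfsg
open Cfsg.Agent.H426.LieFam Cfsg.Agent.R2.Spec Cfsg.Agent.R2.Spec.P1 Cfsg.Agent.R2.Spec.F1
open Cfsg.Agent.H420.QR Cfsg.Agent.R2.Spec.P1.Eig Cfsg.Agent.H403.NumTop

universe u w

variable {t : Fam} {p f : ℕ} {L : Type w} [Group L] [Finite L] {G : Type u} [Group G] [Finite G]
variable {K : Subgroup G} [K.Normal] {S : Subgroup (G ⧸ K)} [S.Normal]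
variable {t' : Fam} {v f' : ℕ}

/-- **The class of `v` is `4`.** -/
theorem cls_v (h : LS t p f L G) (hL : Fam.Is p f L t) (hR : Red G K S) (hF : Frm G K S t' v f') (hvp : v ≠ p)
    (hp2 : p ≠ 2) (ht : CE t) (hv : v ∣ ((p ^ f) ^ rk t + 1) / 2) :
    v ∣ (p ^ f) ^ 2 + 1 ∧ ∃ c, c % 2 = 1 ∧ rk t = 2 * c := by
  obtain ⟨hn, hn2⟩ := ht.rk6
  have hq3 := h.q_three hp2
  have hS := h.bigS_CE hR hF hp2 ht
  obtain ⟨hA2, hAo, hAp⟩ := factsA (h.q_odd hp2) hq3 (by omega : 2 ≤ rk t) hn2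
  obtain ⟨hv5, hvq2, hvq⟩ := hAp v hF.prime hv
  have hvN : v ∣ (p ^ f) ^ rk t + 1 := by rw [← hA2]; exact hv.mul_left 2
  have hfv := Fact.mk hF.prime
  obtain ⟨m, hm, hm2, hw0, hw12⟩ := type_S h hL hR hF hvp hp2 ht hv
  obtain ⟨l, hl⟩ : ∃ l, l = cls t (p ^ f) v := ⟨_, rfl⟩
  have hl' : l = orderOf ((p ^ f : ℕ) : ZMod v) := by rw [hl, ht.cls_eq]
  have hz : ((p ^ f : ℕ) : ZMod v) ^ rk t = -1 := by
    have h3 := (ZMod.natCast_eq_zero_iff _ _).2 hvN
    push_cast at h3 ⊢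
    linear_combination h3
  have h20 : (2 : ZMod v) ≠ 0 := by
    intro h0
    have h1 : ((2 : ℕ) : ZMod v) = 0 := by push_cast; exact h0
    have := (Nat.prime_dvd_prime_iff_eq hF.prime Nat.prime_two).1 ((ZMod.natCast_eq_zero_iff _ _).1 h1)
    omega
  have hl2n : l ∣ 2 * rk t := by
    rw [hl']
    apply orderOf_dvd_of_pow_eq_one
    rw [mul_comm, pow_mul, hz]
    ring
  have hln : ¬ l ∣ rk t := by
    intro h1
    rw [hl', orderOf_dvd_iff_pow_eq_one, hz] at h1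
    apply h20
    linear_combination -h1
  obtain ⟨c, hc⟩ := hl2n
  have hco : c % 2 = 1 := by
    by_contra hcon
    apply hln
    refine ⟨c / 2, ?_⟩
    have h1 : c = 2 * (c / 2) := by omega
    rw [h1, mul_left_comm] at hc
    omega
  have hle : l % 2 = 0 := by
    by_contra hcon
    have h1 : (l * c) % 2 = 1 := by
      rw [Nat.mul_mod, hco, show l % 2 = 1 by (clear * - hcon; omega)]
    omega
  obtain ⟨k, hk⟩ : ∃ k, l = 2 * k := ⟨l / 2, by omega⟩
  have hkc : rk t = k * c := by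
    rw [hk, mul_assoc] at hc
    omega
  have hk2 : k % 2 = 0 := by
    by_contra hcon
    have h1 : (k * c) % 2 = 1 := by
      rw [Nat.mul_mod, hco, show k % 2 = 1 by omega]
    omega
  have hl0 : 0 < l := by
    rcases Nat.eq_zero_or_pos l with h0 | h0
    · rw [h0, zero_mul] at hc
      omega
    · exact h0
  have hl4 : l = 4 := by
    by_contra hne
    have hl8 : 8 ≤ l := by (clear * - hk hk2 hl0 hne; omega)
    have hetal : eta l = k := by rw [hk, eta_two_mul']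
    have hkn : k ≤ rk t := by
      rw [hkc]
      exact Nat.le_mul_of_pos_right _ (by omega)
    have hvI : In t (p ^ f) l v := ⟨hF.prime, hl.symm, by (clear * - hl8; omega), ht.mem_iff.2 (by omega)⟩
    have hJ : rk t - 3 ∈ JJ (rk t) := by rw [mem_JJ]; omega
    obtain ⟨x, hx⟩ := h.exists_J hp2 ht hJ
    have hna : na t l (rk t - 3) := by
      rw [ht.na_iff, eta_odd (show (rk t - 3) % 2 = 1 by omega)]
      refine ⟨by (clear * - hk hl8 hetal; omega), ?_, ?_⟩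
      · intro h1
        have := oddMul_parity h1
        (clear * - hn hn2 hl hl' hle this; omega)
      · intro h1
        have := oddMul_parity h1
        (clear * - hn hn2 hl hl' hle this; omega)
    have hxv := h.ne_v_J hR hF hp2 ht hJ hx.prime hx.cls_eq
    have hxS := (h.good_J hR hF hp2 ht hJ hx.prime hx.cls_eq).2
    have hb : 3 ≤ cls t' (v ^ f') x ∧ nap t' (cls t' (v ^ f') x) := by
      rcases hF.vcase hx.prime hx.ne_two hxv hxS (h.not_adj_S hvI hx hna) with h1 | ⟨h1, h2, hk⟩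
      · exact h1
      · have := (rk_of_bigS hF hS).2.2.1 hk
        omega
    have hmx := hF.mem_cls hx.prime hx.ne_two hxS hb.1
    have htop := top_of_iso hF.cla hb.1 hmx hb.2
    have hJ0 : 2 * rk t ∈ JJ (rk t) := by rw [mem_JJ]; (clear * - hn; omega)
    have hJ1 : icl (rk t) 1 ∈ JJ (rk t) := icl_JJ hn
    have hJ2 : icl (rk t) (-1) ∈ JJ (rk t) := icl_JJ hn
    have i1 : icl (rk t) 1 = rk t - 1 := if_pos rfl
    have i2 : icl (rk t) (-1) = 2 * (rk t - 1) := if_neg (by norm_num)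
    obtain ⟨w0, g0⟩ := h.exists_J hp2 ht hJ0
    obtain ⟨w1, g1⟩ := h.exists_J hp2 ht hJ1
    obtain ⟨w2, g2⟩ := h.exists_J hp2 ht hJ2
    have n0 := cls_ne h hR hF hp2 ht hJ hJ0 (by (clear * - hn; omega)) hx.prime hx.cls_eq g0.prime g0.cls_eq
    have n1 := cls_ne h hR hF hp2 ht hJ hJ1 (by (clear * - hn i1; omega)) hx.prime hx.cls_eq g1.prime g1.cls_eq
    have n2 := cls_ne h hR hF hp2 ht hJ hJ2 (by (clear * - hn i2; omega)) hx.prime hx.cls_eq g2.prime g2.cls_eq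
    have e0 := hw0 w0 g0.prime g0.cls_eq
    have e12 := hw12 w1 w2 g1.prime g1.cls_eq g2.prime g2.cls_eq
    subst hm
    generalize cls (.ominus m) (v ^ f') x = y at *
    change y = 2 * m ∨ y = 2 * (m - 1) ∨ (y = m - 1 ∧ m % 2 = 0) at htop
    (clear * - e0 e12 n0 n1 n2 htop; omega)
  have hk' : k = 2 := by (clear * - hk hl4; omega)
  refine ⟨?_, c, hco, by rw [hkc, hk']⟩
  have h4 : (((p ^ f : ℕ) : ZMod v) ^ 2) ^ 2 = 1 := by
    rw [← pow_mul, show 2 * 2 = l by (clear * - hl4; omega), hl']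
    exact pow_orderOf_eq_one _
  rcases sq_eq_one_iff.1 h4 with h5 | h5
  · exfalso
    have h6 := orderOf_dvd_of_pow_eq_one h5
    rw [← hl', hl4] at h6
    exact absurd (Nat.le_of_dvd two_pos h6) (by norm_num)
  · rw [← ZMod.natCast_eq_zero_iff]
    push_cast
    push_cast at h5
    rw [h5]
    ring

/-- **The `v`-part.** -/
theorem v_part {v j x c : ℕ} (hv : v.Prime) (hv2 : v ≠ 2) (hc : c % 2 = 1) (hx : v ∣ x + 1) (hj : v ^ j ∣ x ^ c + 1) :
    v ^ j ∣ (x + 1) * c := by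
  have hf := Fact.mk hv
  have hc0 : c ≠ 0 := by omega
  have hvx : ¬ v ∣ x := fun h1 => hv.one_lt.ne' (Nat.dvd_one.1 ((Nat.dvd_add_right h1).1 hx))
  have h1 := padicValNat.pow_add_pow (p := v) (hv.odd_of_ne_two hv2) (x := x) (y := 1) hx hvx (n := c) (Nat.odd_iff.2 hc)
  rw [one_pow] at h1
  have hxc : x ^ c + 1 ≠ 0 := by (clear * -; positivity)
  have h2 : j ≤ padicValNat v (x ^ c + 1) := (padicValNat_dvd_iff_le hxc).1 hj
  rw [padicValNat_dvd_iff_le (Nat.mul_ne_zero (by positivity) hc0), padicValNat.mul (by positivity) hc0, ← h1]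
  exact h2

/-- **The factor.** -/
theorem fac_v (h : LS t p f L G) (hL : Fam.Is p f L t) (hR : Red G K S) (hF : Frm G K S t' v f') (hvp : v ≠ p)
    (hp2 : p ≠ 2) (ht : CE t) (hv : v ∣ ((p ^ f) ^ rk t + 1) / 2) {m : ℕ} (hm : t' = .ominus m)
    (hw0 : ∀ w, w.Prime → cls t (p ^ f) w = 2 * rk t → cls t' (v ^ f') w = 2 * m) (hm2 : m % 2 = 0) :
    ∃ h0, h0 * ((v ^ f') ^ m + 1) = (p ^ f) ^ rk t + 1 ∧ v ∣ h0 ∧
      h0 ≤ ((p ^ f) ^ 2 + 1) * (rk t / 2) * f' := by
  obtain ⟨hn, hn2⟩ := ht.rk6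
  have hq3 := h.q_three hp2
  have hqo := h.q_odd hp2
  have hS := h.bigS_CE hR hF hp2 ht
  obtain ⟨hA2, hAo, hAp⟩ := factsA hqo hq3 (by omega : 2 ≤ rk t) hn2
  obtain ⟨hv5, hvq2, hvq⟩ := hAp v hF.prime hv
  obtain ⟨hvq4, c, hco, hcn⟩ := cls_v h hL hR hF hvp hp2 ht hv
  have hf1 : 1 ≤ f' := Nat.one_le_iff_ne_zero.2 hF.f_ne
  have hvo : v % 2 = 1 := by
    rcases hF.prime.eq_two_or_odd with h1 | h1
    · omega
    · exact h1
  have huo : v ^ f' % 2 = 1 := by rw [pow_mod_two hf1]; exact hvo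
  have hu2 : 2 ≤ v ^ f' := hF.prime.two_le.trans (Nat.le_self_pow hF.f_ne v)
  obtain ⟨A, hA⟩ : ∃ A, A = ((p ^ f) ^ rk t + 1) / 2 := ⟨_, rfl⟩
  rw [← hA] at hv hA2 hAo hAp
  have hA0 : A ≠ 0 := by omega
  have hj0 : 2 * rk t ∈ JJ (rk t) := by rw [mem_JJ]; (clear * - hn; omega)
  obtain ⟨w, hw⟩ := h.exists_J hp2 ht hj0
  have hwv := h.ne_v_J hR hF hp2 ht hj0 hw.prime hw.cls_eq
  obtain ⟨hwG, hwS⟩ := h.good_J hR hF hp2 ht hj0 hw.prime hw.cls_eq
  have hw0' := hw0 w hw.prime hw.cls_eq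
  -- the torus of `S`
  have hTF := top_facts_all hF.cla hF.prime hF.is
  have hm4 : 4 ≤ m := by
    have := hF.is
    rw [hm] at this
    exact this.1
  have htop : P1.top t' (2 * m) := by rw [hm]; exact Or.inl rfl
  have h8 : (v ^ f') ^ m % 8 = 1 := by
    obtain ⟨k, hk⟩ : ∃ k, m = 2 * k := ⟨m / 2, by omega⟩
    have h9 : (v ^ f') ^ 2 % 8 = 1 := by
      have h10 : v ^ f' % 8 = 1 ∨ v ^ f' % 8 = 3 ∨ v ^ f' % 8 = 5 ∨ v ^ f' % 8 = 7 := by (clear * - huo; omega)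
      rcases h10 with h10 | h10 | h10 | h10 <;> rw [Nat.pow_mod, h10]
    rw [hk, pow_mul, Nat.pow_mod, h9, one_pow]
    rfl
  have hg : Nat.gcd 4 ((v ^ f') ^ m + 1) = 2 := by
    have : (v ^ f') ^ m + 1 = 2 * (4 * ((v ^ f') ^ m / 8) + 1) := by omega
    rw [this, show (4 : ℕ) = 2 * 2 by norm_num, Nat.gcd_mul_left]
    have : Nat.gcd 2 (2 * 2 * ((v ^ f') ^ m / 8) + 1) = 1 := by
      have h11 : Nat.Coprime 2 (2 * 2 * ((v ^ f') ^ m / 8) + 1) := by
        rw [Nat.coprime_two_left, Nat.odd_iff]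
        omega
      exact h11
    rw [this]
  have hP0 : ttor t' (v ^ f') (2 * m) = ((v ^ f') ^ m + 1) / 2 := by
    rw [hm]
    change (if 2 * m = 2 * m then _ else _) = _
    rw [if_pos rfl, hg]
  obtain ⟨P0, hP0'⟩ : ∃ P0, P0 = ((v ^ f') ^ m + 1) / 2 := ⟨_, rfl⟩
  rw [← hP0'] at hP0
  have hP02 : 2 * P0 = (v ^ f') ^ m + 1 := by (clear * - h8 hP0'; omega)
  have hub : ∀ y : S, w ∣ orderOf y → orderOf y ∣ P0 := by
    intro y hy
    have := hTF.ub w hw.prime (fun hd => hwv ((Nat.prime_dvd_prime_iff_eq hw.prime hF.prime).1 hd))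
      (by rw [hw0']; exact htop) y hy
    rwa [hw0', hP0] at this
  have hwP0 : w ∣ P0 := by
    have := Fact.mk hw.prime
    obtain ⟨x, hx⟩ := exists_prime_orderOf_dvd_card' (G := S) w hwS
    have h5 := hub x (by rw [hx])
    rwa [hx] at h5
  have hPA : P0 ∣ A := by
    rw [hA]
    exact ordA (S := S) h hL hp2 ht hw.prime hw.cls_eq (by rw [← hP0]; exact hTF.elt _ htop) hwP0
  obtain ⟨h0, hh0⟩ := hPA
  -- the element of order `M`
  obtain ⟨j, M, hM, hAM⟩ := Nat.exists_eq_pow_mul_and_not_dvd hA0 v hF.prime.ne_one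
  have htf := top_facts_all ht.cla h.prime hL
  have htopL : P1.top t (2 * rk t) := by
    obtain ⟨k, rfl | rfl, -⟩ := ht
    · exact Or.inl rfl
    · exact Or.inl rfl
  have htt : ttor t (p ^ f) (2 * rk t) = A := by
    rw [hA]
    obtain ⟨k, rfl | rfl, -⟩ := ht
    · change (if 2 * k = 2 * k then _ else _) = _
      rw [if_pos rfl, two_dvd_sub_one hqo]
      rfl
    · change (if 2 * k = 2 * k then _ else _) = _
      rw [if_pos rfl, two_dvd_sub_one hqo]
      rfl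
  obtain ⟨xA, hxA⟩ := htf.elt _ htopL
  rw [htt] at hxA
  have hvj : 0 < v ^ j := Nat.pow_pos hF.prime.pos
  obtain ⟨x, hx⟩ := (h.ord M).2 ⟨xA ^ (v ^ j), by
    rw [orderOf_pow, hxA, hAM, Nat.gcd_eq_right (Dvd.intro _ rfl), Nat.mul_div_cancel_left _ hvj]⟩
  have hMA : M ∣ A := by rw [hAM]; exact Dvd.intro_left _ rfl
  have hcop : Nat.Coprime (orderOf x) (Nat.card K) := by
    rw [hx]
    by_contra hcon
    obtain ⟨r, hr, g1, g2⟩ := Nat.Prime.not_coprime_iff_dvd.1 hcon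
    obtain ⟨k1, k2, k3⟩ := hAp r hr (g1.trans hMA)
    have hrv : r ≠ v := by rintro rfl; exact hM g1
    exact k2 (dvd_sq_of_cls (by omega) hr k3 (h.kprime_cls hR hF hS (by (clear * - hn; omega)) hq3 hr hrv g2))
  obtain ⟨a, E, hE, hi, y, hy⟩ := order_fac (S := S) hcop
  rw [hx] at hE
  -- `w ∣ E`
  have hwA : w ∣ A := by rw [hh0]; exact hwP0.mul_right _
  have hwM : w ∣ M := by
    rw [hAM] at hwA
    rcases hw.prime.dvd_mul.1 hwA with h1 | h1
    · exact absurd ((Nat.prime_dvd_prime_iff_eq hw.prime hF.prime).1 (hw.prime.dvd_of_dvd_pow h1)) hwv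
    · exact h1
  have hwE : w ∣ E := by
    rw [hE] at hwM
    exact (hw.prime.dvd_mul.1 hwM).resolve_left fun h3 => hwG (Dvd.dvd.mul_left (h3.trans hi) _)
  have hEP := hub y (by rw [hy]; exact hwE)
  rw [hy] at hEP
  have haf : a ∣ f' := by
    refine hF.dvd_f hi fun r hr hra => ?_
    obtain ⟨k1, k2, k3⟩ := hAp r hr (hra.trans ((Dvd.intro _ hE.symm).trans hMA))
    refine ⟨k1, fun hrd => ?_⟩
    rw [hm] at hrd
    exact hr.one_lt.ne' (Nat.dvd_one.1 (show r ∣ 1 from hrd))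
  obtain ⟨z, hz⟩ := hEP
  have hE0 : 0 < E := by rw [← hy]; exact orderOf_pos y
  have h0d : h0 ∣ v ^ j * a := by
    refine ⟨z, ?_⟩
    have h5 : E * (v ^ j * a) = E * (h0 * z) := by
      calc E * (v ^ j * a) = v ^ j * (a * E) := by ring
        _ = P0 * h0 := by rw [← hE, ← hAM, hh0]
        _ = _ := by rw [hz]; ring
    exact Nat.eq_of_mul_eq_mul_left hE0 h5
  have hvjb : v ^ j ≤ ((p ^ f) ^ 2 + 1) * c := by
    apply Nat.le_of_dvd (Nat.mul_pos (by (clear * -; positivity)) (by (clear * - hco; omega)))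
    refine v_part hF.prime (by omega) hco hvq4 ?_
    rw [← pow_mul, ← hcn, ← hA2, hAM]
    exact ((Dvd.intro _ rfl).mul_left _)
  refine ⟨h0, ?_, ?_, ?_⟩
  · rw [← hP02, ← hA2, hh0]
    ring
  · rw [hh0] at hv
    rcases hF.prime.dvd_mul.1 hv with h1 | h1
    · exfalso
      have h2 : v ∣ (v ^ f') ^ m + 1 := by rw [← hP02]; exact h1.mul_left 2
      have h3 : v ∣ (v ^ f') ^ m := dvd_pow (dvd_pow_self v (by omega)) (by omega)
      exact hF.prime.one_lt.ne' (Nat.dvd_one.1 ((Nat.dvd_add_right h3).1 h2))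
    · exact h1
  · have h6 : 0 < v ^ j * a := Nat.mul_pos hvj (Nat.pos_of_dvd_of_pos haf hf1)
    calc h0 ≤ v ^ j * a := Nat.le_of_dvd h6 h0d
      _ ≤ (((p ^ f) ^ 2 + 1) * c) * f' := Nat.mul_le_mul hvjb (Nat.le_of_dvd hf1 haf)
      _ = _ := by rw [hcn]; congr 2; (clear * -; omega)

end Cfsg.Agent.R2.Spec.X5
end
end

-- part: R2/Spec/F1/Tame
section
set_option linter.all false
open scoped Cfsg.Agent.FastGrp

/-!
# Tame primes (helper23)

A prime `s` regular in `S`, `s ∤ f'`, which is regular in `L` or equal to `p`, is good; for two such primes adjacency in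
`L` and in `S` is the same.
-/

set_option autoImplicit false
set_option linter.unusedSectionVars false
set_option linter.unusedVariables false

namespace Cfsg.Agent.R2.Spec.F1

open Subgroup Cfsg
open Cfsg.Agent.H426.LieFam Cfsg.Agent.R2.Spec Cfsg.Agent.R2.Spec.P1
open Cfsg.Agent.H420.QR

universe u w

section S

variable {G : Type u} [Group G] [Finite G] {K : Subgroup G} [K.Normal] {S : Subgroup (G ⧸ K)} [S.Normal] {t : Fam}
  {v f : ℕ}

/-- the diagonal primes are irregular -/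
theorem not_dvd_dg {t : Fam} {q s : ℕ} (hq : 1 ≤ q) (hs : s.Prime) (h3 : 3 ≤ cls t q s) : ¬ s ∣ dg t q := by
  intro hd
  have hs1 := hs.one_lt
  have key : dg t q = 1 → False := by
    intro h1
    rw [h1] at hd
    exact hs1.ne' (Nat.dvd_one.1 hd)
  cases t with
  | psl n =>
    have h1 : s ∣ q - 1 := hd.trans (Nat.gcd_dvd_right _ _)
    rw [cls_psl] at h3
    have := (Cfsg.Agent.H72.AdjPSL.ee_eq_one_iff hq).2 h1
    omega
  | psu n =>
    have h1 : s ∣ q + 1 := hd.trans (Nat.gcd_dvd_right _ _)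
    rw [cls_psu] at h3
    have := Cfsg.Agent.H72.AdjPSU.nu_eq_one h1
    omega
  | _ => exact key rfl

/-- **A regular prime not dividing `f` does not divide the index.** -/
theorem Frm.index_tame (h : Frm G K S t v f) {s : ℕ} (hs : s.Prime) (h3 : 3 ≤ cls t (v ^ f) s) (hsf : ¬ s ∣ f) :
    ¬ s ∣ S.index := by
  intro hd
  have h5 := (cls_facts hs h3).1
  have := h.index_pow hs h5 (not_dvd_dg (Nat.one_le_pow _ _ h.prime.pos) hs h3) (k := 1) (by rwa [pow_one])
  rw [pow_one] at this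
  exact hsf this

theorem Frm.ne_v_of_reg (h : Frm G K S t v f) {s : ℕ} (hs : s.Prime) (h3 : 3 ≤ cls t (v ^ f) s) : s ≠ v := by
  rintro rfl
  exact (cls_facts hs h3).2.1 (dvd_pow_self s h.f_ne)

end S

section L

variable {t : Fam} {p f : ℕ} {L : Type w} [Group L] [Finite L] {G : Type u} [Group G] [Finite G]
variable {K : Subgroup G} [K.Normal] {S : Subgroup (G ⧸ K)} [S.Normal]
variable {t' : Fam} {v f' : ℕ}

/-- **Tame primes are good.** -/
theorem LS.tame (h : LS t p f L G) (hR : Red G K S) (hF : Frm G K S t' v f') (hS : BigS t') (hn : 5 ≤ rk t)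
    (hq : 3 ≤ p ^ f) {s : ℕ} (hs : s.Prime) (h3 : 3 ≤ cls t' (v ^ f') s) (hsf : ¬ s ∣ f')
    (hc : 3 ≤ cls t (p ^ f) s) : ¬ s ∣ Nat.card K * S.index := by
  intro hd
  rcases hs.dvd_mul.1 hd with h1 | h1
  · have := h.kprime_cls hR hF hS hn hq hs (hF.ne_v_of_reg hs h3) h1
    omega
  · exact hF.index_tame hs h3 hsf h1

/-- **Cocliques of tame primes.** `X` : primes of `S`, regular in `S`, not dividing `f'`, pairwise nonadjacent in `S`,
each of them regular in `L` (for `p` see `LS.tame_p`): their classes in `L` are a coclique. -/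
theorem LS.tame_coq (h : LS t p f L G) (hR : Red G K S) (hF : Frm G K S t' v f') (hS : BigS t') (hn : 5 ≤ rk t)
    (hq : 3 ≤ p ^ f) {X : Finset ℕ} (hX : ∀ s ∈ X, s.Prime ∧ s ∣ Nat.card S ∧ 3 ≤ cls t' (v ^ f') s ∧ ¬ s ∣ f' ∧
      3 ≤ cls t (p ^ f) s) (hXX : ∀ r ∈ X, ∀ s ∈ X, r ≠ s → ¬ ∃ g : S, orderOf g = r * s) :
    (X.image (cls t (p ^ f))).card = X.card ∧ (∀ j ∈ X.image (cls t (p ^ f)), 3 ≤ j ∧ mem t j) ∧
      ∀ j ∈ X.image (cls t (p ^ f)), ∀ k ∈ X.image (cls t (p ^ f)), j ≠ k → na t j k := by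
  have hin : ∀ s ∈ X, In t (p ^ f) (cls t (p ^ f) s) s := by
    intro s hs
    obtain ⟨h1, h2, h3, h4, h5⟩ := hX s hs
    refine ⟨h1, rfl, h5, ?_⟩
    obtain ⟨k1, k2, -⟩ := cls_facts h1 h5
    have hsp : ¬ s ∣ p := fun hd => k2 (hd.trans (dvd_pow_self p (by have := h.fpos; omega)))
    refine (h.adj.dvd s h1 (by omega) hsp h5).1 ((h.dvd_iff h1).1 ?_)
    rw [card_eq_mul (K := K) (S := S)]
    exact h2.mul_right _
  have hgood : ∀ s ∈ X, ¬ s ∣ Nat.card K * S.index := by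
    intro s hs
    obtain ⟨h1, h2, h3, h4, h5⟩ := hX s hs
    exact h.tame hR hF hS hn hq h1 h3 h4 h5
  have hnaL : ∀ r ∈ X, ∀ s ∈ X, r ≠ s → na t (cls t (p ^ f) r) (cls t (p ^ f) s) := by
    intro r hr s hs hrs
    by_contra hcon
    have h1 := (h.adj_iff (hin r hr) (hin s hs) hrs).2 hcon
    exact hXX r hr s hs hrs (adj_S_of_good (hX r hr).1 (hX s hs).1 (hgood r hr) (hgood s hs) h1)
  refine ⟨?_, ?_, ?_⟩
  · apply Finset.card_image_of_injOn
    intro r hr s hs hrs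
    by_contra hne
    exact na_ne (hnaL r hr s hs hne) hrs
  · intro j hj
    obtain ⟨s, hs, rfl⟩ := Finset.mem_image.1 hj
    exact ⟨(hin s hs).reg, (hin s hs).mem⟩
  · intro j hj k hk hjk
    obtain ⟨r, hr, rfl⟩ := Finset.mem_image.1 hj
    obtain ⟨s, hs, rfl⟩ := Finset.mem_image.1 hk
    exact hnaL r hr s hs fun e => hjk (by rw [e])

end L

end Cfsg.Agent.R2.Spec.F1
end

-- part: R2/Spec/F1/FourCl
section
set_option linter.all false
open scoped Cfsg.Agent.FastGrp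

/-!
# Four classes: `S` is not small (helper23)

* `Frm.adj_low` : `psl 3`, `psu 3`, `psp 2` : two primes `≥ 5` of classes at most two are adjacent;
* `Frm.bigS_of_three` : three pairwise nonadjacent primes `≥ 5`, not the characteristic, of `|S|`: `BigS t'`;
* `LS.bigS_four` : `L` has a coclique of four classes: `BigS t'` (every characteristic);
* `LS.bigS_fourI` : `BigS t'` for `psl`, `psu` 7, 8, `oplus` 5, 6, `ominus` 5, `3 ≤ q`;
* `LS.bigS_iso` : `BigS t'` whenever `IsoRk t` (`psl`, `psu` `n ≥ 7`, the others `n ≥ 5`), `3 ≤ q`;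
* `exists_duel'`, `exists_duel_or'` : `exists_duel`, `exists_duel_or` without the hypothesis `BigS t'`.
-/

set_option autoImplicit false
set_option linter.unusedSectionVars false
set_option linter.unusedVariables false

namespace Cfsg.Agent.R2.Spec.F1

open Subgroup Cfsg
open Cfsg.Agent.H426.LieFam Cfsg.Agent.R2.Spec Cfsg.Agent.R2.Spec.P1
open Cfsg.Agent.H72 Cfsg.Agent.H420.QR Cfsg.Agent.R2.Spec.E

universe u w

theorem mul_dvd_div_gcd {x y A d : ℕ} (hx : x.Prime) (hy : y.Prime) (hx5 : 5 ≤ x) (hy5 : 5 ≤ y) (hxy : x ≠ y)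
    (hxA : x ∣ A) (hyA : y ∣ A) (hdA : Nat.gcd 3 d ∣ A) : x * y ∣ A / Nat.gcd 3 d := by
  have hco : Nat.Coprime x y := (Nat.coprime_primes hx hy).2 hxy
  have h3 : ∀ {w : ℕ}, w.Prime → 5 ≤ w → Nat.Coprime w (Nat.gcd 3 d) := by
    intro w hw hw5
    refine Nat.Coprime.coprime_dvd_right (Nat.gcd_dvd_left 3 d) ?_
    exact (Nat.coprime_primes hw Nat.prime_three).2 (by omega)
  obtain ⟨c, hc⟩ := hdA
  have hg : 0 < Nat.gcd 3 d := Nat.gcd_pos_of_pos_left _ (by norm_num)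
  rw [hc, Nat.mul_div_cancel_left _ hg]
  have h4 : x * y ∣ Nat.gcd 3 d * c := by
    rw [← hc]
    exact hco.mul_dvd_of_dvd_of_dvd hxA hyA
  exact (Nat.Coprime.mul_left (h3 hx hx5) (h3 hy hy5)).dvd_of_dvd_mul_left h4

variable {G : Type u} [Group G] [Finite G] {K : Subgroup G} [K.Normal] {S : Subgroup (G ⧸ K)} [S.Normal] {t' : Fam}
  {v f' : ℕ}

/-- **Two primes of classes at most two.** -/
theorem Frm.adj_low (h : Frm G K S t' v f') (ht : t' = .psl 3 ∨ t' = .psu 3 ∨ t' = .psp 2) {x y : ℕ} (hx : x.Prime)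
    (hy : y.Prime) (hx5 : 5 ≤ x) (hy5 : 5 ≤ y) (hxy : x ≠ y) (hxv : x ≠ v) (hyv : y ≠ v)
    (cx : cls t' (v ^ f') x ≤ 2) (cy : cls t' (v ^ f') y ≤ 2) : ∃ g : S, orderOf g = x * y := by
  have hq : 1 ≤ v ^ f' := Nat.one_le_pow _ _ h.prime.pos
  have h1 := dvd_sq_of_cls hq hx (h.nd hx hxv) cx
  have h2 := dvd_sq_of_cls hq hy (h.nd hy hyv) cy
  have hsq : (v ^ f') ^ 2 - 1 = (v ^ f' + 1) * (v ^ f' - 1) := by
    have h3 := Nat.sq_sub_sq (v ^ f') 1
    rw [one_pow] at h3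
    exact h3
  rcases ht with rfl | rfl | rfl
  · obtain ⟨hn, h4, F, _, _, hch, hF, ⟨e⟩⟩ := h.is
    have := Fact.mk h.prime
    have hd : x * y ∣ (Fintype.card F ^ 2 - 1) / Nat.gcd 3 (Fintype.card F - 1) := by
      rw [hF]
      exact mul_dvd_div_gcd hx hy hx5 hy5 hxy h1 h2 (by
        rw [hsq]
        exact (Nat.gcd_dvd_right _ _).trans (Dvd.intro_left _ rfl))
    have h5 : x * y ∈ Set.range (orderOf : Matrix.ProjectiveSpecialLinearGroup (Fin 3) F → ℕ) := by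
      rw [S2476.result (F := F) v]
      exact Or.inr (Or.inl hd)
    exact exists_congr_order e h5
  · obtain ⟨hn, h4, F, _, _, hch, hF, ⟨e⟩⟩ := h.is
    have := Fact.mk h.prime
    refine exists_congr_order e (Cfsg.Agent.H127.PSUThreeEx.ex_three hF _ ?_)
    exact mul_dvd_div_gcd hx hy hx5 hy5 hxy h1 h2 (by
        rw [hsq]
        exact (Nat.gcd_dvd_right _ _).trans (Dvd.intro _ rfl))
  · have hw := fun {z : ℕ} (hz : z.Prime) (hzv : z ≠ v) (hz2 : cls (.psp 2) (v ^ f') z ≤ 2) (hz5 : 5 ≤ z) =>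
      wS_le_one h.cla (fun n h => by cases h) (fun n h => by cases h) (by omega)
        (h.nd hz hzv) hz2
    have hwx := hw hx hxv cx hx5
    have hwy := hw hy hyv cy hy5
    refine adj_wS h.cla h.is hx hy hxy ?_
    have h5 : cS (.psp 2) = 0 := rfl
    have h6 : rk (.psp 2) = 2 := rfl
    omega

/-- **Three pairwise nonadjacent primes, not the characteristic.** -/
theorem Frm.bigS_of_three (h : Frm G K S t' v f') {X : Finset ℕ}
    (hX : ∀ x ∈ X, x.Prime ∧ 5 ≤ x ∧ x ∣ Nat.card S ∧ x ≠ v)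
    (hXX : ∀ x ∈ X, ∀ y ∈ X, x ≠ y → ¬ ∃ g : S, orderOf g = x * y) (h3 : 3 ≤ X.card) : BigS t' := by
  have hmem : ∀ x ∈ X, 3 ≤ cls t' (v ^ f') x → mem t' (cls t' (v ^ f') x) := by
    intro x hx hx3
    obtain ⟨hxp, hx5, hxS, hxv⟩ := hX x hx
    exact ((adjFacts h.cla h.prime h.is).dvd x hxp (by omega)
      (fun hd => hxv ((Nat.prime_dvd_prime_iff_eq hxp h.prime).1 hd)) hx3).1 hxS
  have hsame : ∀ x ∈ X, ∀ y ∈ X, x ≠ y → cls t' (v ^ f') x ≠ cls t' (v ^ f') y := by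
    intro x hx y hy hxy hc
    obtain ⟨hxp, hx5, hxS, hxv⟩ := hX x hx
    obtain ⟨hyp, hy5, hyS, hyv⟩ := hX y hy
    exact hXX x hx y hy hxy (adj_same' h.cla h.prime h.is hxp hyp (by omega) (by omega) hxy hxv hyv hxS hyS hc)
  -- two classes
  have key : ∀ k : ℕ, (∀ x ∈ X, ∀ y ∈ X, x ≠ y → cls t' (v ^ f') x ≤ 2 → cls t' (v ^ f') y ≤ 2 → False) →
      (∀ x ∈ X, 3 ≤ cls t' (v ^ f') x → cls t' (v ^ f') x = k) → False := by
    intro k hlow hk
    obtain ⟨x, y, z, hx, hy, hz, hxy, hxz, hyz⟩ := Finset.two_lt_card_iff.1 (show 2 < X.card by omega)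
    by_cases h1 : cls t' (v ^ f') x ≤ 2
    · by_cases h2 : cls t' (v ^ f') y ≤ 2
      · exact hlow x hx y hy hxy h1 h2
      · by_cases h4 : cls t' (v ^ f') z ≤ 2
        · exact hlow x hx z hz hxz h1 h4
        · exact hsame y hy z hz hyz ((hk y hy (by omega)).trans (hk z hz (by omega)).symm)
    · by_cases h2 : cls t' (v ^ f') y ≤ 2
      · by_cases h4 : cls t' (v ^ f') z ≤ 2
        · exact hlow y hy z hz hyz h2 h4
        · exact hsame x hx z hz hxz ((hk x hx (by omega)).trans (hk z hz (by omega)).symm)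
      · exact hsame x hx y hy hxy ((hk x hx (by omega)).trans (hk y hy (by omega)).symm)
  have hlow : (t' = .psl 3 ∨ t' = .psu 3 ∨ t' = .psp 2) →
      ∀ x ∈ X, ∀ y ∈ X, x ≠ y → cls t' (v ^ f') x ≤ 2 → cls t' (v ^ f') y ≤ 2 → False := by
    intro ht x hx y hy hxy h1 h2
    obtain ⟨hxp, hx5, hxS, hxv⟩ := hX x hx
    obtain ⟨hyp, hy5, hyS, hyv⟩ := hX y hy
    exact hXX x hx y hy hxy (h.adj_low ht hxp hyp hx5 hy5 hxy hxv hyv h1 h2)
  refine ⟨h.cla, ?_, ?_, ?_, ?_⟩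
  · intro ht
    have hle : ∀ x ∈ X, 1 ≤ cls t' (v ^ f') x ∧ cls t' (v ^ f') x ≤ 2 := by
      intro x hx
      obtain ⟨hxp, hx5, hxS, hxv⟩ := hX x hx
      refine ⟨cls_pos hxp (h.nd hxp hxv), ?_⟩
      by_contra hcon
      have h1 := hmem x hx (by omega)
      rw [ht] at h1 hcon
      have h2 : cls (.psl 2) (v ^ f') x ≤ 2 := h1
      omega
    obtain ⟨x, y, z, hx, hy, hz, hxy, hxz, hyz⟩ := Finset.two_lt_card_iff.1 (show 2 < X.card by omega)
    have h1 := hle x hx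
    have h2 := hle y hy
    have h3 := hle z hz
    have h4 := hsame x hx y hy hxy
    have h5 := hsame x hx z hz hxz
    have h6 := hsame y hy z hz hyz
    omega
  · intro ht
    refine key 3 (hlow (Or.inl ht)) fun x hx h1 => ?_
    have h2 := hmem x hx h1
    rw [ht] at h1 h2 ⊢
    have h3 : cls (.psl 3) (v ^ f') x ≤ 3 := h2
    omega
  · intro ht
    refine key 3 (hlow (Or.inr (Or.inl ht))) fun x hx h1 => ?_
    have h2 := hmem x hx h1
    rw [ht] at h1 h2 ⊢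
    have h3 : cls (.psu 3) (v ^ f') x ≤ 3 := h2
    omega
  · intro ht
    refine key 4 (hlow (Or.inr (Or.inr ht))) fun x hx h1 => ?_
    have h2 := hmem x hx h1
    rw [ht] at h1 h2 ⊢
    have h3 : eta (cls (.psp 2) (v ^ f') x) ≤ 2 := h2
    rcases eta_cases (cls (.psp 2) (v ^ f') x) with ⟨h5, h6⟩ | ⟨⟨k, hk⟩, h6⟩ <;> omega

section L

variable {t : Fam} {p f : ℕ} {L : Type w} [Group L] [Finite L]

/-- **A coclique of four classes: `S` is not small.** -/
theorem LS.bigS_four (h : LS t p f L G) (hR : Red G K S) (hF : Frm G K S t' v f') {I : Finset ℕ}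
    (hreg : ∀ j ∈ I, 3 ≤ j ∧ mem t j) (hna : ∀ j ∈ I, ∀ k ∈ I, j ≠ k → na t j k)
    (hex : ∀ j ∈ I, ∃ r : ℕ, r.Prime ∧ cls t (p ^ f) r = j) (h4 : 4 ≤ I.card) : BigS t' := by
  classical
  choose! z hz using hex
  have hzI : ∀ j ∈ I, In t (p ^ f) j (z j) := fun j hj => ⟨(hz j hj).1, (hz j hj).2, (hreg j hj).1, (hreg j hj).2⟩
  have hinj : ∀ J : Finset ℕ, J ⊆ I → Set.InjOn z (J : Set ℕ) := by
    intro J hJ j hj k hk hjk
    by_contra hne
    exact (hzI j (hJ hj)).ne (hzI k (hJ hk)) hne hjk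
  have hnadj : ∀ J : Finset ℕ, J ⊆ I → ∀ x ∈ J.image z, ∀ y ∈ J.image z, x ≠ y → ¬ ∃ g : S, orderOf g = x * y := by
    intro J hJ x hx y hy hxy
    obtain ⟨j, hj, rfl⟩ := Finset.mem_image.1 hx
    obtain ⟨k, hk, rfl⟩ := Finset.mem_image.1 hy
    have hjk : j ≠ k := fun hjk => hxy (by rw [hjk])
    exact h.not_adj_S (hzI j (hJ hj)) (hzI k (hJ hk)) (hna j (hJ hj) k (hJ hk) hjk)
  by_cases hall : ∀ j ∈ I, ¬ z j ∣ Nat.card K * S.index
  · refine hF.bigS_of_four (X := I.image z) ?_ (hnadj I (Finset.Subset.refl _)) (by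
      rw [Finset.card_image_of_injOn (hinj I (Finset.Subset.refl _))]; exact h4)
    intro x hx
    obtain ⟨j, hj, rfl⟩ := Finset.mem_image.1 hx
    refine ⟨(hzI j hj).prime, (hzI j hj).five, ?_⟩
    have h1 := (hzI j hj).dvd h
    rw [card_eq_mul (K := K) (S := S)] at h1
    exact ((hzI j hj).prime.dvd_mul.1 h1).resolve_right (hall j hj)
  · push Not at hall
    obtain ⟨b, hb, hbad⟩ := hall
    have hcard : (I.erase b).card = I.card - 1 := Finset.card_erase_of_mem hb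
    have hJ : ∀ j ∈ I.erase b, In t (p ^ f) j (z j) := fun j hj => hzI j (Finset.mem_of_mem_erase hj)
    have hbJ : ∀ j ∈ I.erase b, na t b j := fun j hj =>
      hna b hb j (Finset.mem_of_mem_erase hj) (Finset.ne_of_mem_erase hj).symm
    have hJJ : ∀ j ∈ I.erase b, ∀ k ∈ I.erase b, j ≠ k → na t j k := fun j hj k hk =>
      hna j (Finset.mem_of_mem_erase hj) k (Finset.mem_of_mem_erase hk)
    by_cases hne : z b ∣ Nat.card K ∨ z b ∣ dg t' (v ^ f')
    · obtain ⟨-, ⟨-, -, n, hn⟩, -⟩ := h.few hR hF (hzI b hb) hbad hne hJ hbJ hJJ (by omega)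
      subst hn
      exact ⟨hF.cla, (by intro h; cases h), (by intro h; cases h), (by intro h; cases h), (by intro h; cases h)⟩
    · rw [not_or] at hne
      refine hF.bigS_of_three (X := (I.erase b).image z) ?_ (hnadj _ (Finset.erase_subset _ _)) (by
        rw [Finset.card_image_of_injOn (hinj _ (Finset.erase_subset _ _)), hcard]; omega)
      intro x hx
      obtain ⟨j, hj, rfl⟩ := Finset.mem_image.1 hx
      obtain ⟨c, hc, hcb, hcj⟩ := exists_third (show 3 ≤ I.card by omega) b j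
      have hc' : c ∈ I.erase b := Finset.mem_erase.2 ⟨hcb, hc⟩
      obtain ⟨g1, g2⟩ := h.good_of_bad hR (hzI b hb) (hJ j hj) (hJ c hc') (hbJ j hj) (hbJ c hc')
        (hJJ j hj c hc' hcj.symm) hbad
      have hbj := (hzI b hb).ne (hJ j hj) (na_ne (hbJ j hj))
      refine ⟨(hJ j hj).prime, (hJ j hj).five, g2, ?_⟩
      rcases hF.bad (hzI b hb).prime (hzI b hb).five hbad (hJ j hj).prime (hJ j hj).five hbj.symm g2
        (fun hg => (h.adj_iff (hzI b hb) (hJ j hj) hbj).1 hg (hbJ j hj)) with h5 | h5 | h5 | h5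
      · exact absurd h5.1 hne.1
      · exact absurd h5.1 hne.1
      · exact absurd h5.2.1 hne.2
      · exact h5.2.2.1

/-- the types with a coclique of four classes -/
def FourT (t : Fam) : Prop :=
  t = .psl 7 ∨ t = .psu 7 ∨ t = .psl 8 ∨ t = .psu 8 ∨ t = .oplus 5 ∨ t = .oplus 6 ∨ t = .ominus 5

theorem LS.bigS_fourI (h : LS t p f L G) (hR : Red G K S) (hF : Frm G K S t' v f') (hq : 3 ≤ p ^ f) (ht : FourT t) :
    BigS t' := by
  have hc : coqB t (fourI t) = true ∧ 4 ≤ (fourI t).toFinset.card := by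
    rcases ht with rfl | rfl | rfl | rfl | rfl | rfl | rfl <;> exact ⟨by decide, by decide⟩
  obtain ⟨h1, h2⟩ := coqB_of hc.1
  exact h.bigS_four hR hF h1 h2 (fun j hj => exists_cls h.q_pos (h1 j hj).1 fun hq2 => by omega) hc.2

/-- **`BigS t'` for all `L` with isolated classes under control.** -/
theorem LS.bigS_iso (h : LS t p f L G) (hR : Red G K S) (hF : Frm G K S t' v f') (hq : 3 ≤ p ^ f) (ht : IsoRk t) :
    BigS t' := by
  have hfld : FldOk t (p ^ f) := by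
    cases t with
    | psl n => exact fun hq2 => by omega
    | psu n => exact fun hq2 => by omega
    | _ => trivial
  by_cases h5 : Five t
  · exact h.bigS_five hR hF h5 hfld
  · by_cases hsm : SmallT t
    · exact h.bigS_small hR hF hq hsm
    · refine h.bigS_fourI hR hF hq ?_
      cases t with
      | psl n =>
        change 7 ≤ n at ht
        change ¬ 9 ≤ n at h5
        have hn : n = 7 ∨ n = 8 := by omega
        rcases hn with rfl | rfl
        · exact Or.inl rfl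
        · exact Or.inr (Or.inr (Or.inl rfl))
      | psu n =>
        change 7 ≤ n at ht
        change ¬ 9 ≤ n at h5
        have hn : n = 7 ∨ n = 8 := by omega
        rcases hn with rfl | rfl
        · exact Or.inr (Or.inl rfl)
        · exact Or.inr (Or.inr (Or.inr (Or.inl rfl)))
      | psp n =>
        exfalso
        change 5 ≤ n at ht
        change ¬ 7 ≤ n at h5
        have : n ≠ 5 := fun h9 => hsm (Or.inl h9)
        have : n ≠ 6 := fun h9 => hsm (Or.inr h9)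
        omega
      | oodd n =>
        exfalso
        change 5 ≤ n at ht
        change ¬ 7 ≤ n at h5
        have : n ≠ 5 := fun h9 => hsm (Or.inl h9)
        have : n ≠ 6 := fun h9 => hsm (Or.inr h9)
        omega
      | oplus n =>
        change 5 ≤ n at ht
        change ¬ 7 ≤ n at h5
        have hn : n = 5 ∨ n = 6 := by omega
        rcases hn with rfl | rfl
        · exact Or.inr (Or.inr (Or.inr (Or.inr (Or.inl rfl))))
        · exact Or.inr (Or.inr (Or.inr (Or.inr (Or.inr (Or.inl rfl)))))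
      | ominus n =>
        change 5 ≤ n at ht
        change ¬ 7 ≤ n at h5
        have : n ≠ 6 := fun h9 => hsm h9
        have hn : n = 5 := by omega
        subst hn
        exact Or.inr (Or.inr (Or.inr (Or.inr (Or.inr (Or.inr rfl)))))
      | _ => exact ht.elim

/-- **Existence of the duel**, without the hypothesis `BigS`. -/
theorem exists_duel' (h : LS t p f L G) (hL : Fam.Is p f L t) (hR : Red G K S) (hF : Frm G K S t' v f') (hvp : v ≠ p)
    (hp2 : p ≠ 2) (hT : RegT t) (hex : ∀ n, (t = .psp n ∨ t = .oodd n) → n % 2 = 1) :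
    BigS t' ∧ ∃ i j i' j' w H : ℕ, Duel t p f i j t' v f' i' j' w H S := by
  have hS := h.bigS_iso hR hF (h.q_three hp2) (small_isoRk hT)
  exact ⟨hS, exists_duel h hL hR hF hvp hp2 hT hS hex⟩

end L

end Cfsg.Agent.R2.Spec.F1
end
end
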